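import Cfsg.Agent.OddLocal44.Quadratic
import Cfsg.Agent.Lib.Thompson.PSolvable
import Mathlib.GroupTheory.Solvable

set_option autoImplicit false

/-!
`p`-stability of groups of odd order, and its consequence for abelian subgroups normalized by a
normal `p`-subgroup.
-/

open scoped commutatorElement
open Cfsg

namespace Cfsg.Agent.OddLocal44

variable {p : ℕ} [hpf : Fact p.Prime]

/-- Elements of an abelian subgroup normalized by `P` act quadratically on `P`. -/
lemma quadratic_of_abelian {G : Type*} [Group G] {P B : Subgroup G} (hB : IsMulCommutative B)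
    (hPB : P ≤ Subgroup.normalizer (B : Set G)) {b : G} (hb : b ∈ B) :
    ∀ u ∈ P, ⁅⁅u, b⁆, b⁆ = 1 := by
  intro u hu
  have h1 : ⁅u, b⁆ ∈ B := by
    rw [commutatorElement_def]
    exact B.mul_mem ((Subgroup.mem_normalizer_iff.1 (hPB hu) b).1 hb) (B.inv_mem hb)
  rw [commutatorElement_eq_one_iff_mul_comm]
  exact congrArg Subtype.val (hB.is_comm.comm (⟨_, h1⟩ : B) ⟨b, hb⟩)

/-- In odd order, abelian `p`-subgroups normalized by a normal `p`-subgroup `P` act on `P` as
elements of the `p`-core. -/
theorem sSup_map_le_pCore_quotient (hp : p ≠ 2) {G : Type*} [Group G] [Finite G]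
    (hodd : Odd (Nat.card G)) (P : Subgroup G) [P.Normal] (hP : IsPGroup p P)
    (S : Set (Subgroup G))
    (hS : ∀ B ∈ S, IsMulCommutative B ∧ P ≤ Subgroup.normalizer (B : Set G)) :
    (sSup S).map (QuotientGroup.mk' (Subgroup.centralizer (P : Set G)))
      ≤ pCore p (G ⧸ Subgroup.centralizer (P : Set G)) := by
  rw [Subgroup.map_le_iff_le_comap]
  refine sSup_le fun B hB b hb => ?_
  exact quadratic_mem_pCore_quotient hp hodd P hP b (quadratic_of_abelian (hS B hB).1 (hS B hB).2 hb)

theorem isPSolvable_of_isSolvable {G : Type*} [Group G] [Finite G] [Group.IsSolvable G] :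
    IsPSolvable p G := by
  obtain ⟨n, hn⟩ := (Group.isSolvable_def (G := G)).1 inferInstance
  induction n generalizing G with
  | zero =>
    refine Thompson.isPSolvable_of_coprime ?_
    rw [derivedSeries_zero] at hn
    rw [← Subgroup.card_top, hn, Subgroup.card_bot]
    exact Nat.coprime_one_left p
  | succ n ih =>
    set D := derivedSeries G n with hD
    haveI : D.Normal := derivedSeries_normal G n
    haveI : IsMulCommutative D := by
      refine ⟨⟨fun a b => Subtype.ext ?_⟩⟩
      have h1 : ⁅(a : G), (b : G)⁆ ∈ derivedSeries G (n + 1) := by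
        rw [derivedSeries_succ]
        exact Subgroup.commutator_mem_commutator a.2 b.2
      rw [hn, Subgroup.mem_bot, commutatorElement_eq_one_iff_mul_comm] at h1
      exact h1
    have hq : IsPSolvable p (G ⧸ D) := by
      refine ih ?_
      rw [← map_derivedSeries_eq (QuotientGroup.mk'_surjective D), ← hD,
        Subgroup.map_eq_bot_iff, QuotientGroup.ker_mk']
    -- the Sylow `p`-subgroup of `D` is normal in `G`
    let Q : Sylow p D := default
    haveI : (Q : Subgroup D).Normal := ⟨fun a ha g => by
      rwa [show g * a * g⁻¹ = a by rw [IsMulCommutative.is_comm.comm g a, mul_inv_cancel_right]]⟩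
    haveI : (Q : Subgroup D).Characteristic := Q.characteristic_of_normal inferInstance
    set R := (Q : Subgroup D).map D.subtype with hR
    haveI : R.Normal := Thompson.map_subtype_normal_of_characteristic D _
    have hRp : IsPGroup p R := Q.2.map _
    refine Thompson.isPSolvable_of_quotient R ?_ ?_
    · exact Or.inl hRp
    set D' := D.map (QuotientGroup.mk' R) with hD'
    haveI : D'.Normal := Subgroup.Normal.map inferInstance _ (QuotientGroup.mk'_surjective R)
    refine Thompson.isPSolvable_of_quotient D' ?_ ?_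
    · refine Or.inr ?_
      rw [hD', ← Thompson.relIndex_eq_card_map_mk', Subgroup.relIndex,
        show R.subgroupOf D = Q from
          Subgroup.comap_map_eq_self_of_injective D.subtype_injective _]
      exact ((Nat.Prime.coprime_iff_not_dvd hpf.out).2 Q.not_dvd_index).symm
    · refine Thompson.isPSolvable_of_equiv
        (QuotientGroup.quotientQuotientEquivQuotient R D (Subgroup.map_subtype_le _)).symm hq

/-- If `O_{p'}(G) = 1` and `P` is a normal `p`-subgroup with `C_{O_p(G)}(P) ≤ P`, every abelian
`p`-subgroup normalized by `P` lies in `O_p(G)`. -/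
theorem sSup_le_pCore (hp : p ≠ 2) {G : Type*} [Group G] [Finite G] [Group.IsSolvable G]
    (hodd : Odd (Nat.card G)) (P : Subgroup G) [P.Normal] (hP : IsPGroup p P)
    (S : Set (Subgroup G))
    (hS : ∀ B ∈ S, IsMulCommutative B ∧ P ≤ Subgroup.normalizer (B : Set G))
    (hO : pPrimeCore p G = ⊥) (hC : pCore p G ⊓ Subgroup.centralizer (P : Set G) ≤ P) :
    sSup S ≤ pCore p G := by
  set C := Subgroup.centralizer (P : Set G) with hCdef
  have hOC : pPrimeCore p C = ⊥ := by
    have := Thompson.map_pPrimeCore_normal_le (p := p) C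
    rw [hO, le_bot_iff, Subgroup.map_eq_bot_iff, Subgroup.ker_subtype, le_bot_iff] at this
    exact this
  have hcl := Thompson.centralizer_pCore_le (p := p) (isPSolvable_of_isSolvable (G := C)) hOC
  have hCp : IsPGroup p C := by
    rw [← Thompson.pCore_eq_top_iff, eq_top_iff]
    intro c _
    refine hcl (Subgroup.mem_centralizer_iff.2 fun z hz => Subtype.ext ?_)
    exact Subgroup.mem_centralizer_iff.1 c.2 _
      (hC ⟨Thompson.map_pCore_normal_le C (Subgroup.mem_map_of_mem _ hz), z.2⟩)
  have hM : IsPGroup p ((pCore p (G ⧸ C)).comap (QuotientGroup.mk' C)) :=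
    (Thompson.isPGroup_pCore).comap_of_ker_isPGroup _ (by rwa [QuotientGroup.ker_mk'])
  refine le_trans ?_ (Thompson.le_pCore inferInstance hM)
  exact Subgroup.map_le_iff_le_comap.1 (sSup_map_le_pCore_quotient hp hodd P hP S hS)

/-- An abelian subgroup normalized by `O_p(G)` lies in `O_p(G)` when `O_{p'}(G) = 1`. -/
theorem abelian_le_pCore (hp : p ≠ 2) {G : Type*} [Group G] [Finite G] [Group.IsSolvable G]
    (hodd : Odd (Nat.card G)) (hO : pPrimeCore p G = ⊥) {A : Subgroup G} (hA : IsMulCommutative A)
    (hAn : pCore p G ≤ Subgroup.normalizer (A : Set G)) : A ≤ pCore p G := by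
  have h := sSup_le_pCore hp hodd (pCore p G) Thompson.isPGroup_pCore {A}
    (by rintro B rfl; exact ⟨hA, hAn⟩) hO inf_le_left
  rwa [sSup_singleton] at h

theorem ne_two_of_dvd_odd {n : ℕ} (hodd : Odd n) (hdvd : p ∣ n) : p ≠ 2 := by
  rintro rfl
  exact (Nat.not_even_iff_odd.2 hodd) (even_iff_two_dvd.2 hdvd)

/-- **Abelian normal subgroups of Sylow subgroups lie in `O_{p',p}`**, odd order. -/
theorem abelian_normal_of_sylow_le_pPrimePCore {G : Type*} [Group G] [Finite G]
    [Group.IsSolvable G] (hodd : Odd (Nat.card G)) (S : Sylow p G) (A : Subgroup G)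
    (hA : A ≤ (S : Subgroup G)) (hAc : IsMulCommutative A)
    (hAn : (S : Subgroup G) ≤ Subgroup.normalizer (A : Set G)) :
    A ≤ pPrimePCore p G := by
  rcases eq_or_ne A ⊥ with rfl | hA0
  · exact bot_le
  have hp : p ≠ 2 := by
    refine ne_two_of_dvd_odd hodd ?_
    obtain ⟨k, hk⟩ := IsPGroup.iff_card.1 (S.2.to_le hA)
    have hk0 : k ≠ 0 := fun h => hA0 ((Subgroup.card_eq_one).1 (by rw [hk, h, pow_zero]))
    exact ((dvd_pow_self p hk0).trans hk.symm.dvd).trans (Subgroup.card_subgroup_dvd_card A)
  set f := QuotientGroup.mk' (pPrimeCore p G) with hf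
  have hfs : Function.Surjective f := QuotientGroup.mk'_surjective _
  haveI : Group.IsSolvable (G ⧸ pPrimeCore p G) := Group.isSolvable_of_surjective hfs
  haveI : IsMulCommutative (A.map f) := inferInstance
  refine Subgroup.map_le_iff_le_comap.1 (abelian_le_pCore hp
    (hodd.of_dvd_nat (Subgroup.card_quotient_dvd_card _))
    Thompson.pPrimeCore_quotient_pPrimeCore inferInstance ?_)
  calc pCore p (G ⧸ pPrimeCore p G) ≤ (S.mapSurjective hfs : Subgroup _) :=
        Thompson.pCore_le_sylow _
    _ = (S : Subgroup G).map f := Sylow.coe_mapSurjective hfs S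
    _ ≤ Subgroup.map f (Subgroup.normalizer (A : Set G)) := Subgroup.map_mono hAn
    _ ≤ _ := Subgroup.le_normalizer_map f

end Cfsg.Agent.OddLocal44
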