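import Mathlib.GroupTheory.Abelianization.Defs
import Mathlib.GroupTheory.PGroup
import Mathlib.GroupTheory.SpecificGroups.Cyclic
import Cfsg.Agent.OddLocal43.Coprime

set_option autoImplicit false

/-!
An operator of prime order `q` on a `p`-group `R = [R, A]`: its fixed points lie in the derived subgroup; cyclic
invariant subgroups are fixed when `q` does not divide `p (p - 1)`.
-/

open scoped commutatorElement

namespace Cfsg.Agent.OddLocal44

variable {G : Type*} [Group G] [Finite G] {p : ℕ} [hpf : Fact p.Prime]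

theorem mem_derived_of_fixed {R A : Subgroup G} (hR : IsPGroup p R) (hA : A ≤ Subgroup.normalizer (R : Set G))
    (hAc : IsMulCommutative A) (hcop : (Nat.card A).Coprime p) (hRA : ⁅R, A⁆ = R) {x : G} (hxR : x ∈ R)
    (hxA : x ∈ Subgroup.centralizer (A : Set G)) : x ∈ ⁅R, R⁆ := by
  classical
  haveI : Fintype A := Fintype.ofFinite A
  let σ : A →* MulAut R := (Subgroup.normalizerMonoidHom R).comp (Subgroup.inclusion hA)
  let f : R →* Abelianization R :=
    { toFun := fun r => ∏ a : A, Abelianization.of (σ a r)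
      map_one' := Finset.prod_eq_one fun a _ => by rw [map_one, map_one]
      map_mul' := fun r s => by simp [Finset.prod_mul_distrib] }
  have hf : ∀ r, f r = ∏ a : A, Abelianization.of (σ a r) := fun _ => rfl
  have hshift : ∀ (b : A) (r : R), f (σ b r) = f r := by
    intro b r
    rw [hf, hf]
    refine Fintype.prod_equiv (Equiv.mulRight b) _ _ fun a => ?_
    rw [Equiv.coe_mulRight, map_mul, MulAut.mul_apply]
  have hgen : R ≤ f.ker.map R.subtype := by
    conv_lhs => rw [← hRA]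
    rw [Subgroup.commutator_le]
    intro r hr b hb
    refine ⟨⟨r, hr⟩ * σ ⟨b, hb⟩ (⟨r, hr⟩ : R)⁻¹, ?_, ?_⟩
    · rw [SetLike.mem_coe, MonoidHom.mem_ker, map_mul, hshift, ← map_mul, mul_inv_cancel, map_one]
    · show r * (b * r⁻¹ * b⁻¹) = ⁅r, b⁆
      rw [commutatorElement_def]; group
  obtain ⟨y, hy, hyx⟩ := hgen hxR
  obtain rfl : y = ⟨x, hxR⟩ := Subtype.ext hyx
  have hfix : ∀ a : A, σ a ⟨x, hxR⟩ = ⟨x, hxR⟩ := fun a => Subtype.ext (by
    show (a : G) * x * (a : G)⁻¹ = x
    rw [Subgroup.mem_centralizer_iff.mp hxA a a.2, mul_inv_cancel_right])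
  have h1 : Abelianization.of (⟨x, hxR⟩ : R) ^ Nat.card A = 1 := by
    have h : f ⟨x, hxR⟩ = 1 := hy
    rw [hf, Finset.prod_congr rfl fun a _ => by rw [hfix a], Finset.prod_const, Finset.card_univ] at h
    rwa [Nat.card_eq_fintype_card]
  obtain ⟨m, hm⟩ := IsPGroup.iff_orderOf.mp hR ⟨x, hxR⟩
  have h2 : orderOf (Abelianization.of (⟨x, hxR⟩ : R)) = 1 :=
    Nat.eq_one_of_dvd_coprimes (hcop.pow_right m) (orderOf_dvd_of_pow_eq_one h1)
      (hm ▸ orderOf_map_dvd _ _)
  rw [orderOf_eq_one_iff, ← MonoidHom.mem_ker, Abelianization.ker_of] at h2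
  rw [← Subgroup.map_subtype_commutator]
  exact ⟨_, h2, rfl⟩

theorem le_centralizer_of_cyclic {T A : Subgroup G} (hT : IsPGroup p T) [IsCyclic T]
    (hA : A ≤ Subgroup.normalizer (T : Set G)) (hcop : (Nat.card A).Coprime (p * (p - 1))) :
    A ≤ Subgroup.centralizer (T : Set G) := by
  intro a ha
  let σ : A →* MulAut T := (Subgroup.normalizerMonoidHom T).comp (Subgroup.inclusion hA)
  have h1 : orderOf (σ ⟨a, ha⟩) ∣ Nat.card A := (orderOf_map_dvd σ _).trans (orderOf_dvd_natCard _)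
  have h2 : orderOf (σ ⟨a, ha⟩) ∣ Nat.card (MulAut T) := orderOf_dvd_natCard _
  rw [IsCyclic.card_mulAut] at h2
  obtain ⟨m, hm⟩ := IsPGroup.iff_card.mp hT
  have h3 : (Nat.card A).Coprime (Nat.totient (Nat.card T)) := by
    rw [hm]
    rcases m with _ | m
    · simp
    · rw [Nat.totient_prime_pow hpf.out m.succ_pos]
      exact Nat.Coprime.mul_right ((hcop.coprime_dvd_right (dvd_mul_right _ _)).pow_right _)
        (hcop.coprime_dvd_right (dvd_mul_left _ _))
  have h4 : σ ⟨a, ha⟩ = 1 := orderOf_eq_one_iff.mp (Nat.eq_one_of_dvd_coprimes h3 h1 h2)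
  refine Subgroup.mem_centralizer_iff.mpr fun t ht => ?_
  have h5 := congrArg Subtype.val (MulEquiv.congr_fun h4 ⟨t, ht⟩)
  exact (mul_inv_eq_iff_eq_mul.mp h5).symm

end Cfsg.Agent.OddLocal44
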