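import Cfsg.Agent.OddLocal44.Narrow
import Cfsg.Agent.OddLocal44.FixedPointFree
import Cfsg.Prelude.Def_Solvable
import Cfsg.Agent.Lib.Thompson.Cores

set_option autoImplicit false

/-!
Operator groups of odd order on narrow `p`-groups.
-/

open scoped commutatorElement

namespace Cfsg.Agent.OddLocal44

variable {G : Type*} [Group G] [Finite G] {p : ℕ} [hpf : Fact p.Prime]

theorem mem_of_coprime_part {A : Subgroup G} (h : ∀ x ∈ A, (orderOf x).Coprime p → x = 1) :
    IsPGroup p A := by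
  intro a
  obtain ⟨e, m, hm, he⟩ := Nat.exists_eq_pow_mul_and_not_dvd (orderOf_pos (a : G)).ne' p hpf.out.ne_one
  refine ⟨e, Subtype.ext (h ((a : G) ^ p ^ e) (pow_mem a.2 _) ?_)⟩
  refine Nat.Coprime.coprime_dvd_left ?_ ((hpf.out.coprime_iff_not_dvd.mpr hm).symm)
  exact orderOf_dvd_of_pow_eq_one (by rw [← pow_mul, ← he, pow_orderOf_eq_one])

theorem isPGroup_commutator_narrow (hp2 : p ≠ 2) {R A : Subgroup G} (hR : IsPGroup p R)
    (hn : Cfsg.IsNarrow p R) (hA : A ≤ Subgroup.normalizer (R : Set G)) (hAs : Group.IsSolvable A)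
    (hodd : Odd (Nat.card A)) (hfaith : A ⊓ Subgroup.centralizer (R : Set G) = ⊥) :
    IsPGroup p ↥⁅A, A⁆ :=
  mem_of_coprime_part fun x hx hxc => by
    have h : x ∈ A ⊓ Subgroup.centralizer (R : Set G) :=
      ⟨Subgroup.commutator_le_self A hx,
        narrow_commutator_coprime_le_centralizer hp2 hR hn hA hAs hodd hx hxc⟩
    rwa [hfaith, Subgroup.mem_bot] at h

theorem orderOf_dvd_sub_one (hp2 : p ≠ 2) {R A : Subgroup G} (hR : IsPGroup p R)
    (hn : Cfsg.IsNarrow p R) (hr : ¬ Cfsg.PRankLE p 2 R) (hA : A ≤ Subgroup.normalizer (R : Set G))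
    (hfaith : A ⊓ Subgroup.centralizer (R : Set G) = ⊥) {a : G} (ha : a ∈ A)
    (hac : (orderOf a).Coprime p) : orderOf a ∣ p - 1 := by
  refine orderOf_dvd_of_pow_eq_one ?_
  have h : a ^ (p - 1) ∈ A ⊓ Subgroup.centralizer (R : Set G) :=
    ⟨pow_mem ha _, narrow_mem_centralizer hp2 hR hn hr hA (pow_mem ha _) (Or.inr ⟨a, ha, rfl⟩)
      (hac.coprime_dvd_left (orderOf_pow_dvd _))⟩
  rwa [hfaith, Subgroup.mem_bot] at h

theorem commutator_le_pCore {A : Type*} [Group A] [Finite A] (h : IsPGroup p ↥(commutator A)) :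
    commutator A ≤ Cfsg.pCore p A ∧ ((Cfsg.pCore p A).index).Coprime p := by
  refine ⟨Thompson.le_pCore inferInstance h, ?_⟩
  obtain ⟨P, hP⟩ := h.exists_le_sylow
  have hPn : (P : Subgroup A).Normal := Subgroup.Normal.of_commutator_le A hP
  rw [le_antisymm (Thompson.pCore_le_sylow P) (Thompson.le_pCore hPn P.2)]
  exact ((hpf.out.coprime_iff_not_dvd).mpr P.not_dvd_index).symm

theorem dvd_succ_of_rank_two (hp2 : p ≠ 2) {R A : Subgroup G} (hR : IsPGroup p R)
    (hr : Cfsg.PRankLE p 2 R) (hA : A ≤ Subgroup.normalizer (R : Set G)) (hodd : Odd (Nat.card A))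
    (hfaith : A ⊓ Subgroup.centralizer (R : Set G) = ⊥) (hq : (Nat.card A).Prime)
    (hnd : ¬ Nat.card A ∣ p * (p - 1)) : 2 * Nat.card A ∣ p + 1 := by
  obtain ⟨ψ, hψ⟩ := OddLocal43.exists_rank_two_rep hp2 hR hr
  set q := Nat.card A with hqd
  have hqp : q.Coprime p := (hq.coprime_iff_not_dvd).mpr fun h => hnd (h.mul_right _)
  obtain ⟨a, ha, ha1⟩ := A.bot_or_exists_ne_one.resolve_left fun h => by
    rw [hqd, h, Subgroup.card_bot] at hq; exact Nat.not_prime_one hq
  have hao : orderOf a = q :=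
    (hq.eq_one_or_self_of_dvd _ (Subgroup.orderOf_dvd_natCard A ha)).resolve_left
      (fun h => ha1 (orderOf_eq_one_iff.mp h))
  have hψa : orderOf (ψ ⟨a, hA ha⟩) = q := by
    refine (hq.eq_one_or_self_of_dvd _ ((orderOf_map_dvd ψ _).trans ?_)).resolve_left fun h => ha1 ?_
    · rw [Subgroup.orderOf_mk, hao]
    · have h1 : a ∈ A ⊓ Subgroup.centralizer (R : Set G) :=
        ⟨ha, hψ ⟨a, hA ha⟩ (orderOf_eq_one_iff.mp h) (by show (orderOf a).Coprime p; rwa [hao])⟩
      rwa [hfaith, Subgroup.mem_bot] at h1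
  have h := hψa ▸ orderOf_dvd_natCard (ψ ⟨a, hA ha⟩)
  rw [Matrix.card_GL_field (𝔽 := ZMod p) (n := 2), Fin.prod_univ_two, ZMod.card] at h
  simp only [Fin.val_zero, pow_zero, Fin.val_one, pow_one] at h
  have h1 : p ^ 2 - 1 = (p + 1) * (p - 1) := by simpa using Nat.sq_sub_sq p 1
  have h2 : p ^ 2 - p = p * (p - 1) := by rw [pow_two, Nat.mul_sub, mul_one]
  rw [h1, h2] at h
  have h3 : q ∣ p + 1 := by
    rcases hq.dvd_mul.mp h with h | h
    · rcases hq.dvd_mul.mp h with h | h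
      · exact h
      · exact absurd (h.mul_left p) hnd
    · exact absurd h hnd
  have h4 : 2 ∣ p + 1 := by
    have := hpf.out.eq_two_or_odd.resolve_left hp2
    omega
  exact Nat.Coprime.mul_dvd_of_dvd_of_dvd (Nat.coprime_two_left.mpr hodd) h4 h3

theorem card_eq_pow_three {R A R₁ R₂ : Subgroup G} (hR : IsPGroup p R)
    (hA : A ≤ Subgroup.normalizer (R : Set G)) (hq : (Nat.card A).Prime)
    (hnd : ¬ Nat.card A ∣ p * (p - 1)) (hRA : ⁅R, A⁆ = R) (hsup : R₁ ⊔ R₂ = R)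
    (hcomm : ∀ a ∈ R₁, ∀ b ∈ R₂, a * b = b * a) (hnc : ¬ IsMulCommutative R₁)
    (hcard : Nat.card R₁ = p ^ 3) (hR₂ : IsCyclic R₂) (hle : ⁅R₁, R₁⁆ ≤ R₂) :
    Nat.card R = p ^ 3 := by
  have hR₁R : R₁ ≤ R := hsup ▸ le_sup_left
  have hR₂R : R₂ ≤ R := hsup ▸ le_sup_right
  have hR₂c : ∀ s ∈ R₂, ∀ t ∈ R₂, Commute s t := fun s hs t ht => by
    letI := hR₂.commGroup
    exact congrArg Subtype.val (mul_comm (⟨s, hs⟩ : R₂) ⟨t, ht⟩)
  have hdec : ∀ y ∈ R, ∃ s ∈ R₁, ∃ t ∈ R₂, y = s * t := by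
    intro y hy
    have hnorm : R₂ ≤ Subgroup.normalizer (R₁ : Set G) :=
      Coprime.le_normalizer_of_conj_mem fun b hb a ha => by
        rwa [← hcomm a ha b hb, mul_inv_cancel_right]
    rw [← hsup, ← SetLike.mem_coe, Subgroup.coe_mul_of_right_le_normalizer_left R₁ R₂ hnorm] at hy
    obtain ⟨a, ha, b, hb, h⟩ := hy
    exact ⟨a, ha, b, hb, h.symm⟩
  have hcent : ∀ t ∈ R₂, ∀ y ∈ R, Commute t y := fun t ht y hy => by
    obtain ⟨s, hs, u, hu, rfl⟩ := hdec y hy
    exact (show Commute t s from (hcomm s hs t ht).symm).mul_right (hR₂c t ht u hu)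
  haveI : Fact (Nat.card A).Prime := ⟨hq⟩
  have hAc : IsMulCommutative A := by
    haveI := isCyclic_of_prime_card (α := A) rfl
    letI := IsCyclic.commGroup (α := A)
    exact ⟨⟨mul_comm⟩⟩
  have hqp : (Nat.card A).Coprime (p * (p - 1)) := (hq.coprime_iff_not_dvd).mpr hnd
  -- the centre of `R₁`
  have hZ : ∀ s ∈ R₁, (∀ y ∈ R₁, Commute s y) → s ∈ R₂ := by
    intro s hs hsc
    haveI : Finite R₁ := inferInstance
    have hR₁p : IsPGroup p R₁ := hR.to_le hR₁R
    obtain ⟨x, hx, y, hy, hxy⟩ : ∃ x ∈ R₁, ∃ y ∈ R₁, ⁅x, y⁆ ≠ 1 := by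
      by_contra hcon
      push Not at hcon
      exact hnc ⟨⟨fun a b => Subtype.ext
        (commutatorElement_eq_one_iff_mul_comm.mp (hcon a a.2 b b.2))⟩⟩
    set Z := Subgroup.center R₁ with hZd
    have hZ1 : Nat.card Z ≤ p := by
      by_contra hcon
      have hZd' : Nat.card Z ∣ p ^ 3 := hcard ▸ Subgroup.card_subgroup_dvd_card Z
      obtain ⟨k, hk3, hk⟩ := (Nat.dvd_prime_pow hpf.out).mp hZd'
      have hk2 : 2 ≤ k := by
        by_contra h
        exact hcon (hk ▸ (Nat.pow_le_pow_right hpf.out.pos (show k ≤ 1 by omega)).trans (pow_one p).le)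
      have hcyc : IsCyclic (R₁ ⧸ Z) := by
        have h1 := Subgroup.card_eq_card_quotient_mul_card_subgroup Z
        rw [hcard, hk] at h1
        rcases (show k = 2 ∨ k = 3 by omega) with rfl | rfl
        · refine isCyclic_of_prime_card (p := p) ?_
          exact Nat.eq_of_mul_eq_mul_right (pow_pos hpf.out.pos 2) (by rw [← h1, pow_succ'])
        · have h2 : Nat.card (R₁ ⧸ Z) = 1 :=
            Nat.eq_of_mul_eq_mul_right (pow_pos hpf.out.pos 3) (by rw [one_mul]; exact h1.symm)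
          haveI : Subsingleton (R₁ ⧸ Z) := (Nat.card_eq_one_iff_unique.mp h2).1
          infer_instance
      exact hnc ⟨⟨commutative_of_cyclic_center_quotient (QuotientGroup.mk' Z)
        (QuotientGroup.ker_mk' Z).le⟩⟩
    have hder : ∀ a b : R₁, ⁅a, b⁆ ∈ Z := by
      intro a b
      rw [← QuotientGroup.eq_one_iff]
      show QuotientGroup.mk' Z ⁅a, b⁆ = 1
      haveI : Nontrivial Z := by
        haveI : Nontrivial R₁ := Finite.one_lt_card_iff_nontrivial.mp
          (hcard ▸ Nat.one_lt_pow (by norm_num) hpf.out.one_lt)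
        exact hR₁p.center_nontrivial
      have hZp : Nat.card Z = p := by
        rcases (hR₁p.to_subgroup Z).card_eq_or_dvd with h | h
        · exact absurd h (Finite.one_lt_card.ne')
        · exact le_antisymm hZ1 (Nat.le_of_dvd Nat.card_pos h)
      have hQ : Nat.card (R₁ ⧸ Z) = p ^ 2 := by
        have h1 := Subgroup.card_eq_card_quotient_mul_card_subgroup Z
        rw [hcard, hZp] at h1
        exact Nat.eq_of_mul_eq_mul_right hpf.out.pos (by rw [← h1, pow_succ])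
      rw [map_commutatorElement, commutatorElement_eq_one_iff_mul_comm]
      exact IsPGroup.commutative_of_card_eq_prime_sq hQ _ _
    set c : R₁ := ⁅(⟨x, hx⟩ : R₁), ⟨y, hy⟩⁆ with hc
    have hc1 : c ≠ 1 := fun h => hxy (congrArg Subtype.val h)
    have hcz : Subgroup.zpowers c = Z :=
      Subgroup.eq_of_le_of_card_ge (Subgroup.zpowers_le.mpr (hder _ _)) (hZ1.trans (Nat.le_of_dvd Nat.card_pos
        (((hR₁p.to_subgroup _).card_eq_or_dvd).resolve_left fun h => hc1 (by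
          rwa [Nat.card_zpowers, orderOf_eq_one_iff] at h))))
    have hs' : (⟨s, hs⟩ : R₁) ∈ Subgroup.zpowers c := by
      rw [hcz, hZd, Subgroup.mem_center_iff]
      exact fun g => Subtype.ext (hsc g g.2).eq.symm
    obtain ⟨j, hj⟩ := Subgroup.mem_zpowers_iff.mp hs'
    have hj' : ⁅x, y⁆ ^ j = s := congrArg Subtype.val hj
    exact hle (hj' ▸ zpow_mem (Subgroup.commutator_mem_commutator hx hy) j)
  -- `R₂ = Z(R)` is invariant
  have hAR₂ : A ≤ Subgroup.normalizer (R₂ : Set G) :=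
    Coprime.le_normalizer_of_conj_mem fun a ha t ht => by
      have haR : ∀ y ∈ R, a * y * a⁻¹ ∈ R := fun y hy => (Subgroup.mem_normalizer_iff.mp (hA ha) y).mp hy
      obtain ⟨s, hs, u, hu, hsu⟩ := hdec _ (haR t (hR₂R ht))
      rw [hsu]
      refine mul_mem (hZ s hs fun y hy => ?_) hu
      have h1 : a⁻¹ * y * a ∈ R := by
        simpa using (Subgroup.mem_normalizer_iff.mp (hA (inv_mem ha)) y).mp (hR₁R hy)
      have h2 : Commute (a * t * a⁻¹) y := by
        have h := (hcent t ht _ h1).eq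
        show a * t * a⁻¹ * y = y * (a * t * a⁻¹)
        calc a * t * a⁻¹ * y = a * (t * (a⁻¹ * y * a)) * a⁻¹ := by group
          _ = a * (a⁻¹ * y * a * t) * a⁻¹ := by rw [h]
          _ = y * (a * t * a⁻¹) := by group
      rw [show s = a * t * a⁻¹ * u⁻¹ by rw [hsu, mul_inv_cancel_right]]
      exact h2.mul_left ((hcent u hu y (hR₁R hy)).inv_left)
  have hAT : A ≤ Subgroup.centralizer (R₂ : Set G) :=
    le_centralizer_of_cyclic (hR.to_le hR₂R) hAR₂ hqp
  have hder : ⁅R, R⁆ ≤ R₁ := by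
    rw [Subgroup.commutator_le]
    intro x hx y hy
    obtain ⟨s, hs, t, ht, rfl⟩ := hdec x hx
    obtain ⟨s', hs', t', ht', rfl⟩ := hdec y hy
    have e : ⁅s * t, s' * t'⁆ = ⁅s, s'⁆ := by
      have a1 : t * (s' * t') * t⁻¹ = s' * t' := by
        rw [(hcent t ht _ hy).eq, mul_inv_cancel_right]
      have a2 : t' * s⁻¹ * t'⁻¹ = s⁻¹ := by
        rw [(hcent t' ht' _ (hR₁R (inv_mem hs))).eq, mul_inv_cancel_right]
      calc ⁅s * t, s' * t'⁆ = s * (t * (s' * t') * t⁻¹) * s⁻¹ * (s' * t')⁻¹ := by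
            rw [commutatorElement_def]; group
        _ = s * s' * (t' * s⁻¹ * t'⁻¹) * s'⁻¹ := by rw [a1]; group
        _ = ⁅s, s'⁆ := by rw [a2, commutatorElement_def]
    rw [e]
    exact Subgroup.commutator_le_self R₁ (Subgroup.commutator_mem_commutator hs hs')
  have hR₂le : R₂ ≤ R₁ := fun t ht => hder (mem_derived_of_fixed hR hA hAc
    (hqp.coprime_dvd_right (dvd_mul_right _ _)) hRA (hR₂R ht)
    (Subgroup.mem_centralizer_iff.mpr fun a ha => (Subgroup.mem_centralizer_iff.mp (hAT ha) t ht).symm))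
  rw [← hsup, sup_eq_left.mpr hR₂le, hcard]

end Cfsg.Agent.OddLocal44
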