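import Mathlib.GroupTheory.Nilpotent
import Mathlib.GroupTheory.QuotientGroup.Basic
import Mathlib.GroupTheory.Commutator.Basic

set_option autoImplicit false

/-!
A nilpotent finite group has a normal abelian subgroup that is its own centralizer.
-/

namespace Cfsg.Agent.OddLocal44

variable {G : Type*} [Group G]

/-- A nontrivial normal subgroup of a nilpotent group meets the centre nontrivially. -/
lemma inf_center_ne_bot_of_nilpotent [Group.IsNilpotent G] (N : Subgroup G) [hN : N.Normal]
    (h : N ≠ ⊥) : N ⊓ Subgroup.center G ≠ ⊥ := by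
  intro hbot
  apply h
  have key : ∀ n : ℕ, N ⊓ Subgroup.upperCentralSeries G n = ⊥ := by
    intro n
    induction n with
    | zero => simp
    | succ n ih =>
      rw [eq_bot_iff]
      rintro x ⟨hxN, hxZ⟩
      rw [← hbot]
      refine ⟨hxN, Subgroup.mem_center_iff.2 fun g => ?_⟩
      have h1 : x * g * x⁻¹ * g⁻¹ ∈ Subgroup.upperCentralSeries G n :=
        (Subgroup.mem_upperCentralSeries_succ_iff).1 hxZ g
      have h2 : x * g * x⁻¹ * g⁻¹ ∈ N := by
        have h4 : x * (g * x⁻¹ * g⁻¹) ∈ N := N.mul_mem hxN (hN.conj_mem _ (inv_mem hxN) g)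
        simpa only [mul_assoc] using h4
      have h3 : x * g * x⁻¹ * g⁻¹ ∈ (⊥ : Subgroup G) := ih ▸ ⟨h2, h1⟩
      rw [Subgroup.mem_bot, mul_inv_eq_one, mul_inv_eq_iff_eq_mul] at h3
      exact h3.symm
  obtain ⟨n, hn⟩ := Group.IsNilpotent.nilpotent G
  simpa [hn] using key n

/-- Every normal abelian subgroup of a finite nilpotent group lies in a normal subgroup equal to its
own centralizer. -/
lemma exists_normal_centralizer_eq_ge [Finite G] [Group.IsNilpotent G] (A₀ : Subgroup G)
    [A₀.Normal] (hA₀ : A₀ ≤ Subgroup.centralizer (A₀ : Set G)) :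
    ∃ A : Subgroup G, A₀ ≤ A ∧ A.Normal ∧ Subgroup.centralizer (A : Set G) = A := by
  obtain ⟨A, ⟨hle, hAn, hAc⟩, hmax⟩ := Set.Finite.exists_maximal
    (s := {A : Subgroup G | A₀ ≤ A ∧ A.Normal ∧ A ≤ Subgroup.centralizer (A : Set G)})
    (Set.toFinite _) ⟨A₀, le_rfl, inferInstance, hA₀⟩
  refine ⟨A, hle, hAn, le_antisymm ?_ hAc⟩
  by_contra hne
  haveI := hAn
  let f := QuotientGroup.mk' A
  haveI : ((Subgroup.centralizer (A : Set G)).map f).Normal :=
    Subgroup.Normal.map inferInstance _ (QuotientGroup.mk'_surjective A)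
  have hC : (Subgroup.centralizer (A : Set G)).map f ≠ ⊥ := by
    rwa [Ne, Subgroup.map_eq_bot_iff, QuotientGroup.ker_mk']
  obtain ⟨q, hq, hq1⟩ := (Subgroup.bot_or_exists_ne_one _).resolve_left
    (inf_center_ne_bot_of_nilpotent ((Subgroup.centralizer (A : Set G)).map f) hC)
  obtain ⟨⟨x, hx, rfl⟩, hqz⟩ := hq
  have hxA : x ∉ A := fun h => hq1 ((QuotientGroup.eq_one_iff x).2 h)
  let B : Subgroup G := Subgroup.closure (insert x (A : Set G))
  have hAB : A ≤ B := fun a ha => Subgroup.subset_closure (Set.mem_insert_of_mem _ ha)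
  have hxB : x ∈ B := Subgroup.subset_closure (Set.mem_insert _ _)
  have hBn : B.Normal := by
    rw [← Subgroup.normalizer_eq_top_iff, eq_top_iff]
    intro g _
    rw [Subgroup.mem_normalizer_iff]
    have hgen : ∀ g : G, ∀ b ∈ B, g * b * g⁻¹ ∈ B := by
      intro g b hb
      have : B ≤ B.comap (MulAut.conj g).toMonoidHom := by
        rw [Subgroup.closure_le, Set.insert_subset_iff]
        refine ⟨?_, fun a ha => hAB (hAn.conj_mem a ha g)⟩
        have hc : g * x * g⁻¹ * x⁻¹ ∈ A := by
          refine (QuotientGroup.eq_one_iff (N := A) _).1 ?_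
          have := Subgroup.mem_center_iff.1 hqz (f g)
          simp only [QuotientGroup.mk_mul, QuotientGroup.mk_inv]
          rw [show (g : G ⧸ A) * (x : G ⧸ A) = (x : G ⧸ A) * g from this]
          group
        simpa using mul_mem (hAB hc) hxB
      exact this hb
    refine fun b => ⟨hgen g b, fun h => ?_⟩
    simpa [mul_assoc] using hgen g⁻¹ _ h
  have hBc : B ≤ Subgroup.centralizer (B : Set G) := by
    rw [Subgroup.le_centralizer_iff_isMulCommutative]
    refine Subgroup.isMulCommutative_closure ?_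
    intro a ha b hb
    rcases ha with rfl | ha <;> rcases hb with rfl | hb
    · rfl
    · exact (Subgroup.mem_centralizer_iff.1 hx b hb).symm
    · exact Subgroup.mem_centralizer_iff.1 hx a ha
    · exact (Subgroup.mem_centralizer_iff.1 (hAc ha) b hb).symm
  exact hxA (hmax ⟨hle.trans hAB, hBn, hBc⟩ hAB hxB)

end Cfsg.Agent.OddLocal44
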