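import Cfsg.Agent.H40.PGroupBasic
import Cfsg.Agent.Lib.PGroup.NormalAbelian
import Cfsg.Agent.OddLocal44.SelfCentralizing

set_option autoImplicit false

/-!
Normal elementary abelian subgroups of order `p³` in `p`-groups of rank at least three, `p` odd.
-/

open Cfsg
open scoped commutatorElement

namespace Cfsg.Agent.OddLocal44

variable {R : Type*} [Group R] [Finite R] {p : ℕ} [hpf : Fact p.Prime]

/-- In a `p`-group the centralizer of a normal subgroup of order at most `p²` has index at most `p`. -/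
lemma index_centralizer_le_of_card_le (hR : IsPGroup p R) (U : Subgroup R) [U.Normal]
    (hU : Nat.card U ≤ p ^ 2) : (Subgroup.centralizer (U : Set R)).index ≤ p := by
  obtain ⟨n, hn⟩ := PGroup.exists_card_eq_pow hR U
  have hn2 : n ≤ 2 := by
    by_contra! h
    have := Nat.pow_lt_pow_right hpf.out.one_lt h
    omega
  refine (PGroup.index_centralizer_le hR n U hn).trans ?_
  calc p ^ n.choose 2 ≤ p ^ 1 := Nat.pow_le_pow_right hpf.out.pos (by interval_cases n <;> decide)
    _ = p := pow_one p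

lemma card_le_mul_inf {H C : Subgroup R} (hC : C.index ≤ p) :
    Nat.card H ≤ p * Nat.card (H ⊓ C : Subgroup R) := by
  have h1 : C.relIndex H ≤ p :=
    le_trans (by
      have := Subgroup.relIndex_le_of_le_right (H := C) (le_top : H ≤ ⊤)
        (by rw [Subgroup.relIndex_top_right]; exact Subgroup.index_ne_zero_of_finite)
      rwa [Subgroup.relIndex_top_right] at this) hC
  calc Nat.card H = Nat.card (H ⊓ C : Subgroup R) * (H ⊓ C).relIndex H := by
        have := Subgroup.relIndex_mul_relIndex ⊥ (H ⊓ C) H bot_le inf_le_left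
        rw [Subgroup.relIndex_bot_left, Subgroup.relIndex_bot_left] at this
        exact this.symm
    _ ≤ Nat.card (H ⊓ C : Subgroup R) * p := by
        rw [Subgroup.inf_relIndex_left]; exact Nat.mul_le_mul_left _ h1
    _ = _ := mul_comm _ _

/-- A `p`-group of rank at least three (`p` odd) has a normal elementary abelian subgroup of order
at least `p³`, containing every element of order `p` that centralizes it. -/
theorem exists_normal_elementary_cube (hR : IsPGroup p R) (hp : p ≠ 2) (hr : ¬ PRankLE p 2 R) :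
    ∃ B : Subgroup R, B.Normal ∧ IsElementaryAbelian p B ∧ p ^ 3 ≤ Nat.card B ∧
      ∀ x : R, x ^ p = 1 → (∀ b ∈ B, x * b = b * x) → x ∈ B := by
  obtain ⟨B, ⟨hBn, hB⟩, hmax⟩ := Set.Finite.exists_maximal
    (s := {B : Subgroup R | B.Normal ∧ IsElementaryAbelian p B}) (Set.toFinite _)
    ⟨⊥, inferInstance, inferInstance, fun a ha => by rw [Subgroup.mem_bot.1 ha, one_pow]⟩
  haveI := hBn
  have halp : ∀ x : R, x ^ p = 1 → (∀ b ∈ B, x * b = b * x) → x ∈ B :=
    H40.alperin hR hp B hB fun W hW1 hW2 hle => le_antisymm (hmax ⟨hW1, hW2⟩ hle) hle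
  refine ⟨B, hBn, hB, ?_, halp⟩
  by_contra! hlt
  obtain ⟨n, hn⟩ := H40.card_elementary hB
  have hB2 : Nat.card B ≤ p ^ 2 := by
    rw [hn] at hlt ⊢
    exact Nat.pow_le_pow_right hpf.out.pos
      (Nat.lt_succ_iff.1 ((Nat.pow_lt_pow_iff_right hpf.out.one_lt).1 hlt))
  obtain ⟨E, hE, hE3⟩ := H40.exists_elementary_of_not_rankLE hr
  set C := Subgroup.centralizer (B : Set R) with hC
  have hEC : E ⊓ C ≤ B := fun x hx => halp x (hE.2 x hx.1) fun b hb =>
    (Subgroup.mem_centralizer_iff.1 hx.2 b hb).symm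
  have h1 := card_le_mul_inf (H := E) (index_centralizer_le_of_card_le hR B hB2)
  have h2 : p ^ 2 ≤ Nat.card (E ⊓ C : Subgroup R) := by
    refine Nat.le_of_mul_le_mul_left ?_ hpf.out.pos
    calc p * p ^ 2 = p ^ (2 + 1) := by ring
      _ ≤ Nat.card E := hE3
      _ ≤ _ := h1
  have heq : E ⊓ C = B := Subgroup.eq_of_le_of_card_ge hEC (hB2.trans h2)
  have hBE : B ≤ E := heq.ge.trans inf_le_left
  have hEB : E ≤ B := fun x hx =>
    halp x (hE.2 x hx) fun b hb => H40.elementary_comm hE hx (hBE hb)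
  have := Subgroup.card_le_of_le hEB
  have : p ^ 3 ≤ Nat.card E := hE3
  omega

/-- A normal elementary abelian subgroup of order `p²` of a `p`-group of rank at least three lies in a
self-centralizing normal subgroup of rank at least three. -/
theorem exists_scn_three_ge (hR : IsPGroup p R) (hp : p ≠ 2) (hr : ¬ PRankLE p 2 R)
    (E : Subgroup R) [E.Normal] (hE : IsElementaryAbelian p E) (hE2 : Nat.card E = p ^ 2) :
    ∃ A : Subgroup R, E ≤ A ∧ A.Normal ∧ Subgroup.centralizer (A : Set R) = A ∧ ¬ PRankLE p 2 A := by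
  haveI : Group.IsNilpotent R := hR.isNilpotent
  obtain ⟨B, hBn, hB, hB3, -⟩ := exists_normal_elementary_cube hR hp hr
  haveI := hBn
  set C := Subgroup.centralizer (E : Set R) with hC
  obtain ⟨W, hW, hEW, hWn, hW3⟩ : ∃ W : Subgroup R, IsElementaryAbelian p W ∧ E ≤ W ∧ W.Normal ∧
      p ^ 2 < Nat.card W := by
    by_cases h : B ⊓ C ≤ E
    · have h1 := card_le_mul_inf (H := B) (index_centralizer_le_of_card_le hR E hE2.le)
      have h2 : p ^ 2 ≤ Nat.card (B ⊓ C : Subgroup R) := by
        refine Nat.le_of_mul_le_mul_left ?_ hpf.out.pos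
        calc p * p ^ 2 = p ^ 3 := by ring
          _ ≤ Nat.card B := hB3
          _ ≤ _ := h1
      have heq : B ⊓ C = E := Subgroup.eq_of_le_of_card_ge h (hE2.le.trans h2)
      exact ⟨B, hB, heq.ge.trans inf_le_left, hBn,
        lt_of_lt_of_le (Nat.pow_lt_pow_right hpf.out.one_lt (by norm_num)) hB3⟩
    · refine ⟨E ⊔ (B ⊓ C), H40.elementary_sup hE (H40.elementary_of_le hB inf_le_left)
        fun a ha b hb => Subgroup.mem_centralizer_iff.1 hb.2 a ha, le_sup_left, inferInstance, ?_⟩
      rw [← hE2]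
      refine lt_of_le_of_ne (Subgroup.card_le_of_le le_sup_left) fun he => h ?_
      rw [Subgroup.eq_of_le_of_card_ge (le_sup_left : E ≤ E ⊔ (B ⊓ C)) he.ge]
      exact le_sup_right
  haveI := hWn
  haveI := hW.1
  obtain ⟨A, hWA, hAn, hAc⟩ := exists_normal_centralizer_eq_ge W
    (Subgroup.le_centralizer_iff_isMulCommutative.2 hW.1)
  exact ⟨A, hEW.trans hWA, hAn, hAc, H40.not_rankLE_subgroup hW hWA hW3⟩

end Cfsg.Agent.OddLocal44
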