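import Cfsg.Prelude.Def_OddOrderLocal
import Cfsg.Agent.OddLocal43.RankTwo
import Cfsg.Agent.OddLocal44.SelfCentralizing
import Cfsg.Agent.H40.Basic
import Cfsg.Agent.Lib.Coprime.Action

set_option autoImplicit false

/-!
Operators on narrow `p`-groups of rank at least three: commutators and `(p-1)`-th powers of operators of order prime
to `p` act trivially.
-/

open scoped commutatorElement

namespace Cfsg.Agent.OddLocal44

section Factor

variable {P : Type*} [Group P] [Finite P] {p : ℕ} [hpf : Fact p.Prime]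

theorem card_le_card_inf_mul {H T : Subgroup P} {x : P} (h : ∀ a ∈ H, ⁅a, x⁆ ∈ T) :
    Nat.card H ≤ Nat.card (H ⊓ Subgroup.centralizer ({x} : Set P) : Subgroup P) * Nat.card T := by
  set C := (Subgroup.centralizer ({x} : Set P)).subgroupOf H with hC
  let f : H ⧸ C → T := Quotient.lift (fun a : H => (⟨⁅(a : P), x⁆, h a a.2⟩ : T)) (by
    intro a b hab
    have h1 : ((a : P)⁻¹ * b) * x = x * ((a : P)⁻¹ * b) :=
      Subgroup.mem_centralizer_singleton_iff.mp
        (show a⁻¹ * b ∈ C from QuotientGroup.leftRel_apply.mp hab)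
    refine Subtype.ext ?_
    show ⁅(a : P), x⁆ = ⁅(b : P), x⁆
    have h2 : (b : P) * x * (b : P)⁻¹ = (a : P) * x * (a : P)⁻¹ := by
      calc (b : P) * x * (b : P)⁻¹ = (a : P) * (((a : P)⁻¹ * b) * x) * (b : P)⁻¹ := by group
        _ = (a : P) * (x * ((a : P)⁻¹ * b)) * (b : P)⁻¹ := by rw [h1]
        _ = (a : P) * x * (a : P)⁻¹ := by group
    rw [commutatorElement_def, commutatorElement_def, h2])
  have hf : Function.Injective f := by
    rintro ⟨a⟩ ⟨b⟩ hab
    have h1 : ⁅(a : P), x⁆ = ⁅(b : P), x⁆ := congrArg Subtype.val hab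
    rw [commutatorElement_def, commutatorElement_def, mul_left_inj] at h1
    refine Quotient.sound (QuotientGroup.leftRel_apply.mpr ?_)
    refine Subgroup.mem_centralizer_singleton_iff.mpr ?_
    show ((a : P)⁻¹ * b) * x = x * ((a : P)⁻¹ * b)
    calc (a : P)⁻¹ * b * x = (a : P)⁻¹ * ((b : P) * x * (b : P)⁻¹) * b := by group
      _ = (a : P)⁻¹ * ((a : P) * x * (a : P)⁻¹) * b := by rw [h1]
      _ = x * ((a : P)⁻¹ * b) := by group
  have h1 : Nat.card (H ⧸ C) ≤ Nat.card T := Nat.card_le_card_of_injective f hf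
  have h2 : Nat.card C = Nat.card (H ⊓ Subgroup.centralizer ({x} : Set P) : Subgroup P) := by
    rw [← Subgroup.card_map_of_injective (H.subtype_injective), hC, Subgroup.subgroupOf_map_subtype,
      inf_comm]
  rw [Subgroup.card_eq_card_quotient_mul_card_subgroup C, h2, mul_comm]
  exact Nat.mul_le_mul_left _ h1

theorem card_le_of_lt_sq {H K : Subgroup P} (hK : IsPGroup p K) (hlt : H < K)
    (hcard : Nat.card K ≤ p ^ 2) : Nat.card H ≤ p := by
  have h := (OddLocal43.mul_le_card_of_lt hpf.out hK hlt).trans hcard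
  rw [pow_two] at h
  exact Nat.le_of_mul_le_mul_left h hpf.out.pos

/-- An element of order dividing `p` whose centralizer has rank at most two. -/
def SmallCentralizer (p : ℕ) (P : Type*) [Group P] : Prop :=
  ∃ x : P, x ^ p = 1 ∧ ∀ A : Subgroup P, Cfsg.IsElementaryAbelian p A →
    A ≤ Subgroup.centralizer ({x} : Set P) → Nat.card A ≤ p ^ 2

omit [Finite P] in
theorem smallCentralizer_of_narrow [Finite P] (hn : Cfsg.IsNarrow p P) (hr : ¬ Cfsg.PRankLE p 2 P) :
    SmallCentralizer p P := by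
  obtain ⟨R₀, R₁, hR₀, hR₁, hinf, hcomm, hsup⟩ := hn.resolve_left hr
  obtain ⟨x, hxR, hx1⟩ := R₀.bot_or_exists_ne_one.resolve_left fun h => by
    rw [h, Subgroup.card_bot] at hR₀; exact hpf.out.one_lt.ne hR₀
  have hxp : x ^ p = 1 := by
    have h1 := congrArg Subtype.val (pow_card_eq_one' (x := (⟨x, hxR⟩ : R₀)))
    rwa [hR₀] at h1
  have hxR₀ : Subgroup.zpowers x = R₀ := Subgroup.eq_of_le_of_card_ge (Subgroup.zpowers_le.mpr hxR) (by
    rw [hR₀, Nat.card_zpowers, orderOf_eq_prime hxp hx1])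
  set Cx := Subgroup.centralizer ({x} : Set P) with hCx
  have hCx' : Cx = R₀ ⊔ R₁ := by
    rw [hCx, hsup, ← hxR₀, Subgroup.zpowers_eq_closure, Subgroup.centralizer_closure]
  refine ⟨x, hxp, fun A hA hACx => ?_⟩
  set A' := A ⊔ Subgroup.zpowers x with hA'
  have hA'e : Cfsg.IsElementaryAbelian p A' := H40.elementary_sup hA (H40.elementary_zpowers hxp)
    fun a ha b hb => by
      obtain ⟨j, rfl⟩ := Subgroup.mem_zpowers_iff.mp hb
      exact (show Commute a x from Subgroup.mem_centralizer_singleton_iff.mp (hACx ha)).zpow_right j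
  have hA'C : A' ≤ Cx :=
    sup_le hACx (Subgroup.zpowers_le.mpr (Subgroup.mem_centralizer_singleton_iff.mpr rfl))
  set B := A' ⊓ R₁ with hB
  have hR₀A : R₀ ≤ A' := hxR₀ ▸ le_sup_right
  let g : R₀ × B → A' := fun z => ⟨(z.1 : P) * z.2, mul_mem (hR₀A z.1.2) z.2.2.1⟩
  have hnorm : R₁ ≤ Subgroup.normalizer (R₀ : Set P) :=
    Coprime.le_normalizer_of_conj_mem fun b hb a ha => by
      rwa [← hcomm a ha b hb, mul_inv_cancel_right]
  have hg : Function.Surjective g := by
    rintro ⟨y, hy⟩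
    have hy' : y ∈ Cx := hA'C hy
    rw [hCx', ← SetLike.mem_coe, Subgroup.coe_mul_of_right_le_normalizer_left R₀ R₁ hnorm] at hy'
    obtain ⟨a, ha, b, hb, rfl⟩ := hy'
    have hbA : b ∈ A' := by
      have := A'.mul_mem (A'.inv_mem (hR₀A ha)) hy
      rwa [inv_mul_cancel_left] at this
    exact ⟨(⟨a, ha⟩, ⟨b, hbA, hb⟩), rfl⟩
  have hBc : IsCyclic B :=
    isCyclic_of_injective (Subgroup.inclusion (inf_le_right : B ≤ R₁)) (Subgroup.inclusion_injective _)
  have hBp : Nat.card B ≤ p := by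
    rw [← IsCyclic.exponent_eq_card]
    exact Nat.le_of_dvd hpf.out.pos (Monoid.exponent_dvd_of_forall_pow_eq_one fun b =>
      Subtype.ext (hA'e.2 b b.2.1))
  refine (Subgroup.card_le_of_le le_sup_left).trans ((Nat.card_le_card_of_surjective g hg).trans ?_)
  rw [Nat.card_prod, hR₀, pow_two]
  exact Nat.mul_le_mul_left _ hBp

/-- With an element of small centralizer and rank at least three, the layers `V > [V, P]` of a normal
subgroup of exponent `p` and class two have order at most `p`. -/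
theorem small_factor_le (hP : IsPGroup p P) (hn : SmallCentralizer p P) (hr : ¬ Cfsg.PRankLE p 2 P)
    (V : Subgroup P) [hVn : V.Normal] (hexp : ∀ v ∈ V, v ^ p = 1)
    (hcl : ∀ u ∈ V, ∀ v ∈ V, ∀ w ∈ V, Commute ⁅u, v⁆ w) :
    Nat.card V ≤ p * Nat.card ↥⁅V, (⊤ : Subgroup P)⁆ := by
  haveI := hP.isNilpotent
  obtain ⟨x, hxp, hsmall⟩ := hn
  set Cx := Subgroup.centralizer ({x} : Set P) with hCx
  obtain ⟨E, hE, hEcard⟩ := H40.exists_elementary_of_not_rankLE hr
  obtain ⟨z₀, hz₀c, hz₀p⟩ : ∃ z₀ ∈ Subgroup.center P, orderOf z₀ = p := by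
    haveI : Nontrivial P := Finite.one_lt_card_iff_nontrivial.mp
      ((Nat.one_lt_pow (by norm_num) hpf.out.one_lt).trans_le
        (hEcard.trans (Subgroup.card_le_card_group E)))
    haveI := hP.center_nontrivial
    have hd : p ∣ Nat.card (Subgroup.center P) :=
      ((hP.to_subgroup _).card_eq_or_dvd).resolve_left Finite.one_lt_card.ne'
    obtain ⟨z, hz⟩ := exists_prime_orderOf_dvd_card' p hd
    exact ⟨z, z.2, by rw [Subgroup.orderOf_coe, hz]⟩
  set P₂ := Subgroup.zpowers x ⊔ Subgroup.zpowers z₀ with hP₂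
  have hz₀x : ∀ a ∈ Subgroup.zpowers x, ∀ b ∈ Subgroup.zpowers z₀, a * b = b * a := fun a _ b hb =>
    Subgroup.mem_center_iff.mp ((Subgroup.zpowers_le.mpr hz₀c) hb) a
  have hP₂e : Cfsg.IsElementaryAbelian p P₂ := H40.elementary_sup (H40.elementary_zpowers hxp)
    (H40.elementary_zpowers (by rw [← hz₀p, pow_orderOf_eq_one])) hz₀x
  have hxC : x ∈ Cx := Subgroup.mem_centralizer_singleton_iff.mpr rfl
  have hP₂C : P₂ ≤ Cx := sup_le (Subgroup.zpowers_le.mpr hxC)
    (Subgroup.zpowers_le.mpr (Subgroup.mem_centralizer_singleton_iff.mpr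
      (Subgroup.mem_center_iff.mp hz₀c x).symm))
  have hxP₂ : x ∈ P₂ := Subgroup.mem_sup_left (Subgroup.mem_zpowers x)
  have hP₂card : Nat.card P₂ ≤ p ^ 2 := hsmall P₂ hP₂e hP₂C
  have hxc : x ∉ Subgroup.center P := fun h => by
    have h1 := hsmall E hE fun e _ =>
      Subgroup.mem_centralizer_singleton_iff.mpr (Subgroup.mem_center_iff.mp h e)
    exact absurd (hEcard.trans h1) (not_le.mpr (Nat.pow_lt_pow_right hpf.out.one_lt (by norm_num)))
  have hP₂big : p ^ 2 ≤ Nat.card P₂ := by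
    have h1 : Subgroup.zpowers z₀ < P₂ := lt_of_le_of_ne le_sup_right fun h =>
      hxc (Subgroup.zpowers_le.mpr hz₀c (h.ge hxP₂))
    have h2 := OddLocal43.mul_le_card_of_lt hpf.out (hP.to_subgroup _) h1
    rwa [Nat.card_zpowers, hz₀p, ← pow_two] at h2
  have hmem : ∀ y ∈ Cx, y ^ p = 1 → y ∈ P₂ := by
    intro y hy hyp
    have hcy : ∀ a ∈ P₂, Commute y a := by
      intro a ha
      have h1 : P₂ ≤ Subgroup.centralizer ({y} : Set P) :=
        sup_le (Subgroup.zpowers_le.mpr (Subgroup.mem_centralizer_singleton_iff.mpr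
            (Subgroup.mem_centralizer_singleton_iff.mp hy).symm))
          (Subgroup.zpowers_le.mpr (Subgroup.mem_centralizer_singleton_iff.mpr
            (Subgroup.mem_center_iff.mp hz₀c y).symm))
      exact (Subgroup.mem_centralizer_singleton_iff.mp (h1 ha)).symm
    have h2 : Cfsg.IsElementaryAbelian p (P₂ ⊔ Subgroup.zpowers y) :=
      H40.elementary_sup hP₂e (H40.elementary_zpowers hyp) fun a ha b hb => by
        obtain ⟨j, rfl⟩ := Subgroup.mem_zpowers_iff.mp hb
        exact ((hcy a ha).zpow_left j).eq.symm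
    have h3 : P₂ = P₂ ⊔ Subgroup.zpowers y := Subgroup.eq_of_le_of_card_ge le_sup_left
      ((hsmall _ h2 (sup_le hP₂C (Subgroup.zpowers_le.mpr hy))).trans hP₂big)
    rw [h3]
    exact Subgroup.mem_sup_right (Subgroup.mem_zpowers y)
  have hE2 : ¬ E ≤ Cx := fun h => by
    have h1 := Subgroup.card_le_of_le (show E ≤ P₂ from fun e he => hmem e (h he) (hE.2 e he))
    exact absurd ((hEcard.trans h1).trans hP₂card)
      (not_le.mpr (Nat.pow_lt_pow_right hpf.out.one_lt (by norm_num)))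
  set Z := P₂ ⊓ Subgroup.center P with hZ
  have hxZ : x ∉ Z := fun h => hE2 fun e _ =>
    Subgroup.mem_centralizer_singleton_iff.mpr (Subgroup.mem_center_iff.mp h.2 e)
  have hZcard : Nat.card Z ≤ p :=
    card_le_of_lt_sq (hP.to_subgroup P₂)
      (lt_of_le_of_ne inf_le_left fun h => hxZ (h.ge hxP₂)) hP₂card
  have hmin : ∀ N : Subgroup P, N.Normal → N ≠ ⊥ → (∀ n ∈ N, n ^ p = 1) → Z ≤ N ∧ p ≤ Nat.card Z := by
    intro N hN hNb hNe
    obtain ⟨c, hc, hc1⟩ :=
      (N ⊓ Subgroup.center P).bot_or_exists_ne_one.resolve_left (inf_center_ne_bot_of_nilpotent N hNb)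
    have hcZ : c ∈ Z := ⟨hmem c (Subgroup.mem_centralizer_singleton_iff.mpr
      (Subgroup.mem_center_iff.mp hc.2 x).symm) (hNe c hc.1), hc.2⟩
    have hcard : Nat.card (Subgroup.zpowers c) = p := by
      rw [Nat.card_zpowers, orderOf_eq_prime (hNe c hc.1) hc1]
    have heq : Subgroup.zpowers c = Z :=
      Subgroup.eq_of_le_of_card_ge (Subgroup.zpowers_le.mpr hcZ) (hZcard.trans hcard.ge)
    exact ⟨heq ▸ Subgroup.zpowers_le.mpr hc.1, (heq ▸ hcard).ge⟩
  have hnotZ : ∃ r : P, ⁅r, x⁆ ∉ Z := by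
    by_contra hcon
    push Not at hcon
    have h1 := card_le_card_inf_mul (H := E) (T := Z) (x := x) fun a _ => hcon a
    have h2 : E ⊓ Cx ≤ P₂ := fun e he => hmem e he.2 (hE.2 e he.1)
    have h3 : p ^ 2 ≤ Nat.card (E ⊓ Cx : Subgroup P) := by
      have h4 : p * p ^ 2 ≤ p * Nat.card (E ⊓ Cx : Subgroup P) := by
        rw [← pow_succ', mul_comm p]
        exact hEcard.trans (h1.trans (Nat.mul_le_mul_left _ hZcard))
      exact Nat.le_of_mul_le_mul_left h4 hpf.out.pos
    have h5 : E ⊓ Cx = P₂ := Subgroup.eq_of_le_of_card_ge h2 (hP₂card.trans h3)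
    have hxE : x ∈ E := (h5.ge hxP₂).1
    exact hE2 fun e he => Subgroup.mem_centralizer_singleton_iff.mpr (H40.elementary_comm hE he hxE)
  set W := ⁅V, (⊤ : Subgroup P)⁆ with hW
  have hVW : ∀ v ∈ V, ∀ r : P, ⁅v, r⁆ ∈ W := fun v hv r =>
    Subgroup.commutator_mem_commutator hv (Subgroup.mem_top r)
  by_cases hxV : x ∈ V
  · -- `x ∈ V`
    obtain ⟨r, hr'⟩ := hnotZ
    have hW1 : ⁅r, x⁆ ∈ W := by rw [← commutatorElement_inv]; exact inv_mem (hVW x hxV r)
    have hWV : W ≤ V := Subgroup.commutator_le_left V ⊤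
    have hWb : W ≠ ⊥ := fun h => hr' (by
      rw [h, Subgroup.mem_bot] at hW1; rw [hW1]; exact one_mem _)
    obtain ⟨hZW, hZp⟩ := hmin W inferInstance hWb fun n hn => hexp n (hWV hn)
    have hWcard : p * p ≤ Nat.card W :=
      (Nat.mul_le_mul_left p hZp).trans (OddLocal43.mul_le_card_of_lt hpf.out (hP.to_subgroup W)
        (lt_of_le_of_ne hZW fun h => hr' (h.ge hW1)))
    have hVx : ∀ u ∈ V, ⁅u, x⁆ ∈ Z := by
      intro u hu
      set c := ⁅u, x⁆ with hc
      have hcV : c ∈ V := hWV (hVW u hu x)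
      have hcP : c ∈ P₂ :=
        hmem c (Subgroup.mem_centralizer_singleton_iff.mpr (hcl u hu x hxV x hxV).eq) (hexp c hcV)
      by_contra hcZ
      have hle : Z ⊔ Subgroup.zpowers c ≤ P₂ := sup_le inf_le_left (Subgroup.zpowers_le.mpr hcP)
      have hlt : Z < Z ⊔ Subgroup.zpowers c := lt_of_le_of_ne le_sup_left fun h =>
        hcZ (h.ge (Subgroup.mem_sup_right (Subgroup.mem_zpowers c)))
      have hcard : p ^ 2 ≤ Nat.card (Z ⊔ Subgroup.zpowers c : Subgroup P) := by
        rw [pow_two]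
        exact (Nat.mul_le_mul_left p hZp).trans
          (OddLocal43.mul_le_card_of_lt hpf.out (hP.to_subgroup _) hlt)
      have heq : Z ⊔ Subgroup.zpowers c = P₂ := Subgroup.eq_of_le_of_card_ge hle (hP₂card.trans hcard)
      have hxu : x ∈ Subgroup.centralizer ({u} : Set P) := by
        refine (sup_le ?_ (Subgroup.zpowers_le.mpr ?_) :
          Z ⊔ Subgroup.zpowers c ≤ Subgroup.centralizer ({u} : Set P)) (heq.ge hxP₂)
        · intro z hz
          exact Subgroup.mem_centralizer_singleton_iff.mpr (Subgroup.mem_center_iff.mp hz.2 u).symm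
        · exact Subgroup.mem_centralizer_singleton_iff.mpr (hcl u hu x hxV u hu).eq
      exact hcZ (by
        rw [hc, commutatorElement_eq_one_iff_mul_comm.mpr
          (Subgroup.mem_centralizer_singleton_iff.mp hxu).symm]
        exact one_mem _)
    have h1 := card_le_card_inf_mul (H := V) (T := Z) (x := x) hVx
    have h2 : Nat.card (V ⊓ Cx : Subgroup P) ≤ p ^ 2 :=
      (Subgroup.card_le_of_le (show V ⊓ Cx ≤ P₂ from fun v hv => hmem v hv.2 (hexp v hv.1))).trans hP₂card
    calc Nat.card V ≤ Nat.card (V ⊓ Cx : Subgroup P) * Nat.card Z := h1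
      _ ≤ p ^ 2 * p := Nat.mul_le_mul h2 hZcard
      _ = p * (p * p) := by ring
      _ ≤ p * Nat.card W := Nat.mul_le_mul_left p hWcard
  · -- `x ∉ V`
    have h1 := card_le_card_inf_mul (H := V) (T := W) (x := x) fun v hv => hVW v hv x
    have h2 : Nat.card (V ⊓ Cx : Subgroup P) ≤ p :=
      card_le_of_lt_sq (hP.to_subgroup P₂) (lt_of_le_of_ne
        (show V ⊓ Cx ≤ P₂ from fun v hv => hmem v hv.2 (hexp v hv.1)) fun h => hxV (h.ge hxP₂).1) hP₂card
    exact h1.trans (Nat.mul_le_mul_right _ h2)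

end Factor

section Operators

variable {G : Type*} [Group G] [Finite G] {p : ℕ} [hpf : Fact p.Prime]

/-- An operator of order prime to `p` which is a commutator product or a `(p-1)`-th power stabilizes a
series with factors of order at most `p`. -/
theorem trivial_on_factor {A V W : Subgroup G} (hAV : A ≤ Subgroup.normalizer (V : Set G))
    (hAW : A ≤ Subgroup.normalizer (W : Set G)) (hWV : W ≤ V)
    (hVW : V ≤ Subgroup.normalizer (W : Set G)) (hV : IsPGroup p V)
    (hidx : Nat.card V ≤ p * Nat.card W) {a : G} (haA : a ∈ A)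
    (ha : a ∈ ⁅A, A⁆ ∨ ∃ b ∈ A, a = b ^ (p - 1)) {v : G} (hv : v ∈ V) : a * v * a⁻¹ * v⁻¹ ∈ W := by
  set W' := W.subgroupOf V with hW'
  haveI : W'.Normal := Subgroup.normal_subgroupOf_of_le_normalizer hVW
  let σ : A →* MulAut V := (Subgroup.normalizerMonoidHom V).comp (Subgroup.inclusion hAV)
  have hinv : ∀ b : A, W'.map (σ b : V →* V) = W' := by
    intro b
    ext w
    constructor
    · rintro ⟨u, hu, rfl⟩
      exact (Subgroup.mem_normalizer_iff.mp (hAW b.2) (u : G)).mp hu
    · intro hw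
      refine ⟨σ b⁻¹ w, (Subgroup.mem_normalizer_iff.mp (hAW (b⁻¹).2) (w : G)).mp hw, ?_⟩
      show σ b (σ b⁻¹ w) = w
      rw [← MulAut.mul_apply, ← map_mul, mul_inv_cancel, map_one, MulAut.one_apply]
  let θ : A →* MulAut (V ⧸ W') :=
    { toFun := fun b => QuotientGroup.congr W' W' (σ b) (hinv b)
      map_one' := MulEquiv.ext fun q => by
        obtain ⟨u, rfl⟩ := QuotientGroup.mk'_surjective _ q
        show QuotientGroup.mk' W' (σ 1 u) = _
        rw [map_one]; rfl
      map_mul' := fun b c => MulEquiv.ext fun q => by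
        obtain ⟨u, rfl⟩ := QuotientGroup.mk'_surjective _ q
        show QuotientGroup.mk' W' (σ (b * c) u) = QuotientGroup.mk' W' (σ b (σ c u))
        rw [map_mul]; rfl }
  have hQ : Nat.card (V ⧸ W') ≤ p := by
    have h1 := Subgroup.card_eq_card_quotient_mul_card_subgroup W'
    rw [hW', Nat.card_congr (Subgroup.subgroupOfEquivOfLe hWV).toEquiv] at h1
    rw [h1] at hidx
    exact Nat.le_of_mul_le_mul_right hidx Nat.card_pos
  have hQcard : Nat.card (V ⧸ W') = 1 ∨ Nat.card (V ⧸ W') = p := by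
    rcases (hV.to_quotient W').card_eq_or_dvd with h | h
    · exact Or.inl h
    · exact Or.inr (le_antisymm hQ (Nat.le_of_dvd Nat.card_pos h))
  haveI : IsCyclic (V ⧸ W') := by
    rcases hQcard with h | h
    · haveI : Subsingleton (V ⧸ W') := (Nat.card_eq_one_iff_unique.mp h).1
      infer_instance
    · exact isCyclic_of_prime_card (p := p) h
  let ν : A →* (ZMod (Nat.card (V ⧸ W')))ˣ := (IsCyclic.mulAutMulEquiv _).toMonoidHom.comp θ
  have hν : θ ⟨a, haA⟩ = 1 := by
    suffices h : ν ⟨a, haA⟩ = 1 from (IsCyclic.mulAutMulEquiv (V ⧸ W')).injective (by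
      rw [map_one]; exact h)
    rcases ha with ha | ⟨b, hb, rfl⟩
    · rw [← Subgroup.map_subtype_commutator] at ha
      obtain ⟨c, hc, rfl⟩ := ha
      exact Abelianization.commutator_subset_ker ν hc
    · have hpow : ∀ (n : ℕ), n = 1 ∨ n = p → ∀ u : (ZMod n)ˣ, u ^ (p - 1) = 1 := by
        rintro n (rfl | rfl) u
        · exact Subsingleton.elim _ _
        · exact ZMod.units_pow_card_sub_one_eq_one _ u
      rw [show (⟨b ^ (p - 1), haA⟩ : A) = ⟨b, hb⟩ ^ (p - 1) from Subtype.ext rfl, map_pow]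
      exact hpow _ hQcard _
  have h1 := MulEquiv.congr_fun hν (QuotientGroup.mk' W' ⟨v, hv⟩)
  change QuotientGroup.mk' W' (σ ⟨a, haA⟩ ⟨v, hv⟩) = QuotientGroup.mk' W' ⟨v, hv⟩ at h1
  have h2 : (⟨v, hv⟩ : V)⁻¹ * σ ⟨a, haA⟩ ⟨v, hv⟩ ∈ W' := QuotientGroup.eq.mp h1.symm
  have h3 : v⁻¹ * (a * v * a⁻¹) ∈ W := h2
  have h4 := (Subgroup.mem_normalizer_iff.mp (hVW hv) _).mp h3
  rwa [mul_inv_cancel_left] at h4

/-- With an element of small centralizer and rank at least three, a product of commutators or a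
`(p-1)`-th power of operators, of order prime to `p`, acts trivially. -/
theorem small_mem_centralizer (hp2 : p ≠ 2) {R A : Subgroup G} (hR : IsPGroup p R)
    (hn : SmallCentralizer p R) (hr : ¬ Cfsg.PRankLE p 2 R) (hA : A ≤ Subgroup.normalizer (R : Set G))
    {a : G} (haA : a ∈ A) (ha : a ∈ ⁅A, A⁆ ∨ ∃ b ∈ A, a = b ^ (p - 1))
    (hcop : (orderOf a).Coprime p) : a ∈ Subgroup.centralizer (R : Set G) := by
  obtain ⟨C, hCR, hN, hC2, hCself⟩ := OddLocal43.exists_class_two_self_centralizing_in hR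
  set U := OddLocal43.omegaClassTwo hpf.out hp2 C hC2 with hU
  have hNU : Subgroup.normalizer (R : Set G) ≤ Subgroup.normalizer (U : Set G) :=
    Subgroup.le_normalizer_iff.mpr fun g hg x hx =>
      ⟨Subgroup.le_normalizer_iff.mp le_rfl g (hN hg) x hx.1, by
        rw [conj_pow, hx.2, mul_one, mul_inv_cancel]⟩
  have hUR : U ≤ R := fun x hx => hCR hx.1
  suffices key : ∀ V : Subgroup G, V ≤ U → R ≤ Subgroup.normalizer (V : Set G) →
      A ≤ Subgroup.normalizer (V : Set G) → ∀ v ∈ V, Commute a v by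
    have hAU : ∀ u ∈ U, Commute a u :=
      key U le_rfl (Subgroup.le_normalizer.trans hNU) (hA.trans hNU)
    have hz : Subgroup.zpowers a ≤ Subgroup.normalizer (R : Set G) :=
      Subgroup.zpowers_le.mpr (hA haA)
    have hcopA : (Nat.card (Subgroup.zpowers a)).Coprime p := by rwa [Nat.card_zpowers]
    have hAC : C ≤ Subgroup.centralizer (Subgroup.zpowers a : Set G) :=
      OddLocal43.le_centralizer_of_order_p hp2 hcopA (hR.to_le hCR) (hz.trans hN) fun x hx hxp => by
        refine Subgroup.mem_centralizer_iff.mpr fun y hy => ?_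
        obtain ⟨j, rfl⟩ := Subgroup.mem_zpowers_iff.mp hy
        exact ((hAU x ⟨hx, hxp ▸ pow_orderOf_eq_one x⟩).zpow_left j).eq
    obtain ⟨k, hk⟩ := IsPGroup.iff_card.mp hR
    have hRc : R ≤ Subgroup.centralizer (Subgroup.zpowers a : Set G) := by
      refine OddLocal43.le_centralizer_of_self_centralizing hR.isNilpotent hz
        (hk ▸ hcopA.pow_right k) ?_
      refine le_trans ?_ (le_inf hCR hAC)
      exact (le_inf inf_le_left
        (inf_le_right.trans (Subgroup.centralizer_le (le_inf hCR hAC)))).trans hCself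
    exact Subgroup.mem_centralizer_iff.mpr fun r hr =>
      (Subgroup.mem_centralizer_iff.mp (hRc hr) a (Subgroup.mem_zpowers a)).symm
  intro V
  induction V using WellFoundedLT.induction with
  | ind V ih =>
  intro hVU hRV hAV v hv
  rcases eq_or_ne V ⊥ with rfl | hV0
  · rw [Subgroup.mem_bot.mp hv]; exact Commute.one_right a
  set W := ⁅V, R⁆ with hW
  have hWV : W < V := lt_of_le_of_ne (Subgroup.le_normalizer_iff_commutator_le_left.mp hRV)
    fun h => hV0 (Coprime.eq_bot_of_le_commutator R hR.isNilpotent (hVU.trans hUR) h.ge)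
  have hRW : R ≤ Subgroup.normalizer (W : Set G) :=
    OddLocal43.normalizes_commutator hRV Subgroup.le_normalizer
  have hAW : A ≤ Subgroup.normalizer (W : Set G) := OddLocal43.normalizes_commutator hAV hA
  have hidx : Nat.card V ≤ p * Nat.card W := by
    haveI : (V.subgroupOf R).Normal := Subgroup.normal_subgroupOf_of_le_normalizer hRV
    have h := small_factor_le hR hn hr (V.subgroupOf R)
      (fun w hw => Subtype.ext (hVU hw).2)
      (fun u hu w hw z hz => Subtype.ext ((Subgroup.mem_centralizer_iff.mp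
        (hC2 (Subgroup.commutator_mem_commutator (hVU hu).1 (hVU hw).1)) z (hVU hz).1).symm))
    have hmap : (⁅V.subgroupOf R, (⊤ : Subgroup R)⁆).map R.subtype = W := by
      rw [Subgroup.map_commutator, Subgroup.map_subgroupOf_eq_of_le (hVU.trans hUR),
        ← MonoidHom.range_eq_map, Subgroup.range_subtype]
    rwa [Nat.card_congr (Subgroup.subgroupOfEquivOfLe (hVU.trans hUR)).toEquiv,
      ← Subgroup.card_map_of_injective (K := ⁅V.subgroupOf R, (⊤ : Subgroup R)⁆) R.subtype_injective,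
      hmap] at h
  have hmem := trivial_on_factor hAV hAW hWV.le ((hVU.trans hUR).trans hRW)
    (hR.to_le (hVU.trans hUR)) hidx haA ha hv
  have hfix := ih W hWV (hWV.le.trans hVU) hRW hAW
  refine OddLocal43.commute_of_stab (c := a * v * a⁻¹ * v⁻¹) (hfix _ hmem) (by group) ?_
  obtain ⟨m, hm⟩ := IsPGroup.iff_orderOf.mp hR ⟨_, hUR (hVU (hWV.le hmem))⟩
  rw [Subgroup.orderOf_mk] at hm
  rw [hm]
  exact hcop.pow_right m

/-- On a narrow `p`-group of rank at least three, a product of commutators or a `(p-1)`-th power of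
operators, of order prime to `p`, acts trivially. -/
theorem narrow_mem_centralizer (hp2 : p ≠ 2) {R A : Subgroup G} (hR : IsPGroup p R)
    (hn : Cfsg.IsNarrow p R) (hr : ¬ Cfsg.PRankLE p 2 R) (hA : A ≤ Subgroup.normalizer (R : Set G))
    {a : G} (haA : a ∈ A) (ha : a ∈ ⁅A, A⁆ ∨ ∃ b ∈ A, a = b ^ (p - 1))
    (hcop : (orderOf a).Coprime p) : a ∈ Subgroup.centralizer (R : Set G) :=
  small_mem_centralizer hp2 hR (smallCentralizer_of_narrow hn hr) hr hA haA ha hcop

/-- Operators of odd order on a narrow `p`-group: the derived group is a `p`-group modulo the kernel. -/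
theorem narrow_commutator_coprime_le_centralizer (hp2 : p ≠ 2) {R A : Subgroup G} (hR : IsPGroup p R)
    (hn : Cfsg.IsNarrow p R) (hA : A ≤ Subgroup.normalizer (R : Set G))
    (hAs : Group.IsSolvable A) (hodd : Odd (Nat.card A)) {a : G} (ha : a ∈ ⁅A, A⁆)
    (hcop : (orderOf a).Coprime p) : a ∈ Subgroup.centralizer (R : Set G) := by
  by_cases hr : Cfsg.PRankLE p 2 R
  · exact OddLocal43.commutator_coprime_le_centralizer hp2 hR hr hA hAs hodd ha hcop
  · exact narrow_mem_centralizer hp2 hR hn hr hA (Subgroup.commutator_le_self A ha) (Or.inl ha) hcop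

/-- If `q` divides `p (p - 1)` it is at most `p`; in general `q`-elements, `q > p` odd, act trivially on
narrow `p`-groups. -/
theorem narrow_prime_pow_mem_centralizer (hp2 : p ≠ 2) {R : Subgroup G} (hR : IsPGroup p R)
    (hn : Cfsg.IsNarrow p R) {a : G} (ha : a ∈ Subgroup.normalizer (R : Set G))
    {q k : ℕ} (hq : q.Prime) (hq2 : q ≠ 2) (hqp : p < q) (hord : orderOf a ∣ q ^ k) :
    a ∈ Subgroup.centralizer (R : Set G) := by
  by_cases hr : Cfsg.PRankLE p 2 R
  · exact OddLocal43.prime_pow_mem_centralizer hp2 hR hr ha hq hq2 hqp hord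
  have hcop : (orderOf a).Coprime (p - 1) := by
    refine Nat.Coprime.coprime_dvd_left hord (Nat.Coprime.pow_left k ?_)
    exact (hq.coprime_iff_not_dvd).mpr fun h => absurd (Nat.le_of_dvd
      (Nat.sub_pos_of_lt hpf.out.one_lt) h) (by omega)
  have hcop' : (orderOf (a ^ (p - 1))).Coprime p := by
    refine Nat.Coprime.coprime_dvd_left ((orderOf_pow_dvd _).trans hord) (Nat.Coprime.pow_left k ?_)
    exact (Nat.coprime_primes hq hpf.out).mpr hqp.ne'
  have h := narrow_mem_centralizer hp2 hR hn hr (A := Subgroup.zpowers a) (Subgroup.zpowers_le.mpr ha)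
    (pow_mem (Subgroup.mem_zpowers a) _) (Or.inr ⟨a, Subgroup.mem_zpowers a, rfl⟩) hcop'
  exact (Subgroup.zpowers_le.mpr h) (OddLocal43.mem_zpowers_pow_of_coprime hcop)

end Operators

end Cfsg.Agent.OddLocal44
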