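import Cfsg.Agent.OddLocal43.RankTwoSolvable
import Cfsg.Agent.OddLocal44.Narrow
import Cfsg.Agent.BGSigma.SmallRank
import Cfsg.Agent.Lib.Thompson.PSolvable

set_option autoImplicit false

/-!
The structure of solvable groups of odd order with narrow Sylow `p`-subgroups.
-/

open scoped commutatorElement

namespace Cfsg.Agent.OddLocal44

variable {G : Type*} [Group G] [Finite G] {p : ℕ} [hpf : Fact p.Prime]

/-- The conclusions on `G` follow from the structure of `G / O_{p'}(G)`. -/
theorem structure_of_reduced (hoddQ : Odd (Nat.card (G ⧸ Cfsg.pPrimeCore p G)))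
    (hd : IsPGroup p (commutator (G ⧸ Cfsg.pPrimeCore p G)))
    (hle : commutator (G ⧸ Cfsg.pPrimeCore p G) ≤ Cfsg.pCore p (G ⧸ Cfsg.pPrimeCore p G))
    (hidx : ((Cfsg.pCore p (G ⧸ Cfsg.pPrimeCore p G)).index).Coprime p)
    (hq : ∀ q : ℕ, q.Prime → q ∣ Nat.card (G ⧸ Cfsg.pPrimeCore p G) → q ≤ p) :
    (∀ q : ℕ, q.Prime → q ∣ (Cfsg.pPrimeCore p G).index → q ≤ p) ∧
      ((p = 3 ∨ ∀ q : ℕ, q.Prime → q ∣ Nat.card G → p ≤ q) → Cfsg.HasNormalPComplement p G) ∧
      Cfsg.HasNormalPComplement p ↥(commutator G) ∧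
      (∀ L : Subgroup ↥(commutator G), (Nat.card L).Coprime p → L ≤ Cfsg.pPrimeCore p ↥(commutator G)) ∧
      commutator G ≤ Cfsg.pPrimePCore p G ∧ ((Cfsg.pPrimePCore p G).index).Coprime p := by
  set N := Cfsg.pPrimeCore p G with hN
  have hNc : (Nat.card N).Coprime p := Thompson.card_pPrimeCore_coprime
  have hmap : (commutator G).map (QuotientGroup.mk' N) = commutator (G ⧸ N) := by
    rw [commutator_def, commutator_def, Subgroup.map_commutator,
      Subgroup.map_top_of_surjective _ (QuotientGroup.mk'_surjective N)]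
  -- the kernel inside the derived subgroup
  set M := N.subgroupOf (commutator G) with hM
  have hMc : (Nat.card M).Coprime p := by
    refine hNc.coprime_dvd_left ?_
    rw [hM, Nat.card_congr (Subgroup.equivMapOfInjective _ (commutator G).subtype
      (commutator G).subtype_injective).toEquiv, Subgroup.subgroupOf_map_subtype]
    exact Subgroup.card_dvd_of_le inf_le_left
  have hMq : ∀ x : ↥(commutator G), ∃ k, x ^ p ^ k ∈ M := by
    intro x
    obtain ⟨k, hk⟩ := hd ⟨QuotientGroup.mk' N x, hmap ▸ Subgroup.mem_map_of_mem _ x.2⟩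
    refine ⟨k, ?_⟩
    rw [Subgroup.mem_subgroupOf, Subgroup.coe_pow, ← QuotientGroup.eq_one_iff, QuotientGroup.mk_pow]
    exact congrArg Subtype.val hk
  refine ⟨fun q hqp hdvd => hq q hqp (by rwa [← Subgroup.index_eq_card]), ?_, ?_, ?_, ?_, ?_⟩
  · intro h
    refine OddLocal43.hasNormalPComplement_of_quotient N hNc ?_
    have hall : ∀ q : ℕ, q.Prime → q ∣ Nat.card (G ⧸ N) → q = p := fun q hqp hdvd => by
      have h1 := hq q hqp hdvd
      rcases h with rfl | h
      · have := OddLocal43.ne_two_of_dvd_odd hoddQ hdvd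
        have := hqp.two_le
        omega
      · exact le_antisymm h1 (h q hqp (hdvd.trans N.card_quotient_dvd_card))
    exact IsPGroup.of_card (Nat.eq_prime_pow_of_unique_prime_dvd Nat.card_pos.ne' (hall _))
  · refine OddLocal43.hasNormalPComplement_of_quotient M hMc fun x => ?_
    obtain ⟨y, rfl⟩ := QuotientGroup.mk'_surjective M x
    obtain ⟨k, hk⟩ := hMq y
    exact ⟨k, by rw [← map_pow]; exact (QuotientGroup.eq_one_iff _).mpr hk⟩
  · intro L hL x hx
    refine Thompson.le_pPrimeCore (N := M) inferInstance hMc ?_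
    obtain ⟨k, hk⟩ := hMq x
    obtain ⟨m, hm⟩ := exists_pow_eq_self_of_coprime
      (((hL.coprime_dvd_left (Subgroup.orderOf_dvd_natCard L hx)).pow_right k).symm)
    exact hm ▸ pow_mem hk m
  · intro x hx
    exact hle (hmap ▸ Subgroup.mem_map_of_mem _ hx)
  · show (((Cfsg.pCore p (G ⧸ N)).comap (QuotientGroup.mk' N)).index).Coprime p
    rwa [Subgroup.index_comap_of_surjective _ (QuotientGroup.mk'_surjective N)]


theorem narrow_of_mulEquiv {P Q : Type*} [Group P] [Group Q] (e : P ≃* Q) (h : Cfsg.IsNarrow p P) :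
    Cfsg.IsNarrow p Q := by
  rcases h with h | ⟨R₀, R₁, h0, h1, hinf, hcomm, hsup⟩
  · exact Or.inl (H40.rankLE_of_mulEquiv e h)
  refine Or.inr ⟨R₀.map e.toMonoidHom, R₁.map e.toMonoidHom, ?_, ?_, ?_, ?_, ?_⟩
  · rwa [Subgroup.card_map_of_injective e.injective]
  · exact isCyclic_of_surjective (Subgroup.equivMapOfInjective R₁ e.toMonoidHom e.injective).toMonoidHom
      (Subgroup.equivMapOfInjective R₁ e.toMonoidHom e.injective).surjective
  · rw [← Subgroup.map_inf _ _ _ e.injective, hinf, Subgroup.map_bot]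
  · rintro _ ⟨a, ha, rfl⟩ _ ⟨b, hb, rfl⟩
    rw [← map_mul, hcomm a ha b hb, map_mul]
  · rw [← Subgroup.map_sup, hsup]
    ext y
    obtain ⟨x, rfl⟩ := e.surjective y
    rw [show e x = e.toMonoidHom x from rfl, Subgroup.mem_map_iff_mem e.injective,
      Subgroup.mem_centralizer_iff, Subgroup.mem_centralizer_iff]
    constructor
    · rintro h _ ⟨a, ha, rfl⟩
      rw [← map_mul, h a ha, map_mul]
    · intro h a ha
      have := h _ ⟨a, ha, rfl⟩
      rw [← map_mul, ← map_mul] at this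
      exact e.injective this

/-- A group whose Sylow `p`-subgroup has rank two has rank two. -/
theorem prankLE_of_sylow (S : Sylow p G) (h : Cfsg.PRankLE p 2 ↥(S : Subgroup G)) :
    Cfsg.PRankLE p 2 G := by
  intro A hA hAp
  obtain ⟨T, hT⟩ := (H40.isPGroup_of_pow_eq_one hAp).exists_le_sylow
  by_contra hcon
  exact H40.not_rankLE_subgroup (H := (T : Subgroup G)) ⟨hA, hAp⟩ hT (not_le.mp hcon)
    (H40.rankLE_of_mulEquiv (S.equiv T) h)

/-- The reduced group when the Sylow subgroups are narrow of rank at least three. -/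
theorem reduced_narrow [Group.IsSolvable G] (hodd : Odd (Nat.card G)) (hp2 : p ≠ 2)
    (hO : Cfsg.pPrimeCore p G = ⊥) (hn : Cfsg.IsNarrow p ↥(Cfsg.pCore p G))
    (hr : ¬ Cfsg.PRankLE p 2 ↥(Cfsg.pCore p G)) :
    IsPGroup p (commutator G) ∧ commutator G ≤ Cfsg.pCore p G ∧
      ∀ q : ℕ, q.Prime → q ∣ Nat.card G → q ≤ p := by
  set R := Cfsg.pCore p G with hR
  have hRp : IsPGroup p R := Thompson.isPGroup_pCore
  have hC : Subgroup.centralizer (R : Set G) ≤ R := OddLocal43.centralizer_pCore_le_of_solvable hO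
  have hd : IsPGroup p (commutator G) := by
    refine OddLocal43.isPGroup_of_coprime_eq_one fun b hb hcop => ?_
    have h := narrow_mem_centralizer hp2 hRp hn hr (A := ⊤) Subgroup.le_normalizer_of_normal
      (Subgroup.mem_top b) (Or.inl (by rwa [← commutator_def])) hcop
    exact OddLocal43.eq_one_of_isPGroup_of_coprime hpf.out hRp (hC h) hcop
  refine ⟨hd, Thompson.le_pCore inferInstance hd, fun q hq hdvd => ?_⟩
  by_contra hqp
  haveI : Fact q.Prime := ⟨hq⟩
  obtain ⟨g, hg⟩ := exists_prime_orderOf_dvd_card' q hdvd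
  have h := narrow_prime_pow_mem_centralizer hp2 hRp hn
    (Subgroup.le_normalizer_of_normal (K := ⊤) (Subgroup.mem_top g)) hq
    (OddLocal43.ne_two_of_dvd_odd hodd hdvd) (by omega) (k := 1) (by rw [hg, pow_one])
  have h1 := OddLocal43.eq_one_of_isPGroup_of_coprime hpf.out hRp (hC h)
    (by rw [hg]; exact (Nat.coprime_primes hq hpf.out).mpr (by omega))
  rw [h1, orderOf_one] at hg
  exact hq.one_lt.ne hg

theorem structure_narrow_sylow [Group.IsSolvable G] (hodd : Odd (Nat.card G)) (hpG : p ∣ Nat.card G)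
    (S : Sylow p G) (hS : Cfsg.IsNarrow p ↥(S : Subgroup G))
    (hr : ¬ Cfsg.PRankLE p 2 ↥(S : Subgroup G)) (hpl : Cfsg.PLengthLE p 1 G) :
    (∀ q : ℕ, q.Prime → q ∣ (Cfsg.pPrimeCore p G).index → q ≤ p) ∧
      ((p = 3 ∨ ∀ q : ℕ, q.Prime → q ∣ Nat.card G → p ≤ q) → Cfsg.HasNormalPComplement p G) ∧
      Cfsg.HasNormalPComplement p ↥(commutator G) ∧
      (∀ L : Subgroup ↥(commutator G), (Nat.card L).Coprime p → L ≤ Cfsg.pPrimeCore p ↥(commutator G)) ∧
      commutator G ≤ Cfsg.pPrimePCore p G ∧ ((Cfsg.pPrimePCore p G).index).Coprime p := by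
  set π := QuotientGroup.mk' (Cfsg.pPrimeCore p G) with hπ
  have hπs : Function.Surjective π := QuotientGroup.mk'_surjective _
  have hp2 : p ≠ 2 := OddLocal43.ne_two_of_dvd_odd hodd hpG
  have hoddQ : Odd (Nat.card (G ⧸ Cfsg.pPrimeCore p G)) :=
    hodd.of_dvd_nat (Subgroup.card_quotient_dvd_card _)
  set R := Cfsg.pCore p (G ⧸ Cfsg.pPrimeCore p G) with hR
  have hidx : ¬ p ∣ R.index := by
    rw [← Subgroup.index_comap_of_surjective R hπs]
    exact BGSigma.plengthLE_one_iff.mp hpl
  let f : ↥(S : Subgroup G) →* G ⧸ Cfsg.pPrimeCore p G := π.comp (S : Subgroup G).subtype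
  have hfinj : Function.Injective f := by
    rw [injective_iff_map_eq_one]
    intro x hx
    have h1 : (x : G) ∈ (S : Subgroup G) ⊓ Cfsg.pPrimeCore p G :=
      ⟨x.2, (QuotientGroup.eq_one_iff _).mp hx⟩
    rw [Thompson.inf_eq_bot_of_isPGroup_of_coprime S.2 Thompson.card_pPrimeCore_coprime,
      Subgroup.mem_bot] at h1
    exact Subtype.ext h1
  have hfr : f.range = R := by
    rw [MonoidHom.range_comp, Subgroup.range_subtype]
    have h2 : R ≤ (S : Subgroup G).map π := by
      have := Thompson.pCore_le_sylow (p := p) (S.mapSurjective hπs)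
      rwa [Sylow.coe_mapSurjective] at this
    exact le_antisymm ((Thompson.isPGroup_pCore.toSylow hidx).is_maximal' (S.2.map π) h2).le h2
  let e := (MonoidHom.ofInjective hfinj).trans (MulEquiv.subgroupCongr hfr)
  obtain ⟨hd, hle, hq⟩ := reduced_narrow hoddQ hp2 Thompson.pPrimeCore_quotient_pPrimeCore
    (narrow_of_mulEquiv e hS) (fun h => hr (H40.rankLE_of_mulEquiv e.symm h))
  exact structure_of_reduced hoddQ hd hle ((hpf.out.coprime_iff_not_dvd.mpr hidx).symm) hq

end Cfsg.Agent.OddLocal44
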