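import Mathlib.Data.Nat.Prime.Basic
import Mathlib.Tactic.Linarith
import Mathlib.Tactic.Ring

set_option autoImplicit false

/-!
Arithmetic used in Peterfalvi, §11.
-/

namespace Cfsg.Agent.OddLocal44

/-- Peterfalvi (11.1): `4 q² + 1 < p ^ q` for distinct odd primes `p`, `q`. -/
theorem four_sq_lt_pow {p q : ℕ} (hp : p.Prime) (hq : q.Prime) (hp2 : p ≠ 2) (hq2 : q ≠ 2)
    (hne : p ≠ q) : 4 * q ^ 2 + 1 < p ^ q := by
  have hp3 : 3 ≤ p := by have := hp.two_le; omega
  have hq3 : 3 ≤ q := by have := hq.two_le; omega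
  rcases eq_or_lt_of_le hq3 with rfl | hq4
  · have h4 : p ≠ 4 := fun h => by subst h; exact absurd hp (by decide)
    have hp5 : 5 ≤ p := by omega
    calc 4 * 3 ^ 2 + 1 < 5 ^ 3 := by norm_num
      _ ≤ p ^ 3 := Nat.pow_le_pow_left hp5 3
  · have key : ∀ n : ℕ, 5 ≤ n → 4 * n ^ 2 + 1 < 3 ^ n := by
      intro n hn
      induction n, hn using Nat.le_induction with
      | base => norm_num
      | succ n hn ih => rw [pow_succ 3 n]; nlinarith
    have hq5 : 5 ≤ q := by
      rcases eq_or_lt_of_le (show 4 ≤ q from hq4) with rfl | h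
      · exact absurd hq (by decide)
      · exact h
    exact (key q hq5).trans_le (Nat.pow_le_pow_left hp3 q)

end Cfsg.Agent.OddLocal44
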