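import Cfsg.Agent.OddLocal44.FixedPointStab
import Cfsg.Agent.Lib.Thompson.PSolvable
import Cfsg.Agent.H40.Hyperplane
import Cfsg.Agent.BGUniq.Ambient
import Cfsg.Prelude.Def_OddOrderLocal
import Cfsg.Prelude.Def_CaseTheorems
import Cfsg.Prelude.Def_Local

set_option autoImplicit false

/-!
The transitivity theorem for maximal invariant `q`-subgroups of a large abelian `p`-subgroup when the
`p`-locals are `p`-constrained.
-/

open scoped commutatorElement

namespace Cfsg.Agent.OddLocal44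

section Constrained

variable {H : Type*} [Group H] [Finite H] {p : ℕ} [hpf : Fact p.Prime]

theorem centralizer_pCore_quotient_le (hH : Cfsg.IsPConstrained p H) :
    Subgroup.centralizer (Cfsg.pCore p (H ⧸ Cfsg.pPrimeCore p H) : Set (H ⧸ Cfsg.pPrimeCore p H)) ≤
      Cfsg.pCore p (H ⧸ Cfsg.pPrimeCore p H) := by
  intro y hy
  obtain ⟨x, rfl⟩ := QuotientGroup.mk'_surjective (Cfsg.pPrimeCore p H) y
  set π := QuotientGroup.mk' (Cfsg.pPrimeCore p H) with hπ
  show x ∈ Cfsg.pPrimePCore p H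
  obtain ⟨P⟩ := (inferInstance : Nonempty (Sylow p ↥(Cfsg.pPrimePCore p H)))
  set P' : Subgroup H := (P : Subgroup ↥(Cfsg.pPrimePCore p H)).map (Cfsg.pPrimePCore p H).subtype
    with hP'
  have hPp : IsPGroup p P' := P.isPGroup'.map _
  have hPU : P' ≤ Cfsg.pPrimePCore p H := Subgroup.map_subtype_le _
  have hfr : Subgroup.normalizer (P' : Set H) ⊔ Cfsg.pPrimePCore p H = ⊤ :=
    Sylow.normalizer_sup_eq_top P
  have htop : Subgroup.normalizer (P' : Set H) ⊔ Cfsg.pPrimeCore p H = ⊤ := by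
    rw [← top_le_iff, ← hfr]
    refine sup_le le_sup_left ?_
    rw [← Thompson.sylow_pPrimePCore_sup P]
    exact sup_le le_sup_right (Subgroup.le_normalizer.trans le_sup_left)
  obtain ⟨n, hn, o, ho, rfl⟩ :=
    Subgroup.mem_sup_of_normal_right.1 (htop.ge (Subgroup.mem_top x))
  refine mul_mem (hH P ?_) (Thompson.pPrimeCore_le_pPrimePCore ho)
  refine Subgroup.mem_centralizer_iff.2 fun u hu => ?_
  have hmk : π (n * o) = π n := by
    rw [map_mul, show π o = 1 from (QuotientGroup.eq_one_iff o).2 ho, mul_one]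
  have hcomm : π u * π n = π n * π u := by
    rw [hmk] at hy
    exact Subgroup.mem_centralizer_iff.1 hy _ (hPU hu)
  have hO : ⁅n, u⁆ ∈ Cfsg.pPrimeCore p H := by
    rw [← QuotientGroup.eq_one_iff]
    show π ⁅n, u⁆ = 1
    rw [map_commutatorElement, commutatorElement_eq_one_iff_mul_comm]
    exact hcomm.symm
  have hP : ⁅n, u⁆ ∈ P' := by
    rw [commutatorElement_def]
    exact mul_mem ((Subgroup.mem_normalizer_iff.1 hn u).1 hu) (inv_mem hu)
  have h1 : ⁅n, u⁆ ∈ P' ⊓ Cfsg.pPrimeCore p H := ⟨hP, hO⟩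
  rw [Thompson.inf_eq_bot_of_isPGroup_of_coprime hPp Thompson.card_pPrimeCore_coprime,
    Subgroup.mem_bot, commutatorElement_eq_one_iff_mul_comm] at h1
  exact h1.symm

/-- In a `p`-constrained group, the `p'`-subgroups normalized by an abelian `p`-subgroup containing
all `p`-elements of its centralizer lie in `O_{p'}`. -/
theorem le_pPrimeCore_of_invariant (hH : Cfsg.IsPConstrained p H)
    (h2 : p = 2 → ∀ P : Subgroup H, IsPGroup p P → ∀ a ∈ P, ∀ b ∈ P, ∀ c ∈ P, Commute ⁅a, b⁆ c)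
    {E : Subgroup H} (hE : IsPGroup p E)
    (hEfull : ∀ x ∈ Subgroup.centralizer (E : Set H), ∀ n : ℕ, x ^ p ^ n = 1 → x ∈ E)
    {Q : Subgroup H} (hEQ : E ≤ Subgroup.normalizer (Q : Set H)) (hQ : (Nat.card Q).Coprime p) :
    Q ≤ Cfsg.pPrimeCore p H := by
  set π := QuotientGroup.mk' (Cfsg.pPrimeCore p H) with hπ
  have hπs : Function.Surjective π := QuotientGroup.mk'_surjective _
  set R := Cfsg.pCore p (H ⧸ Cfsg.pPrimeCore p H) with hR
  obtain ⟨S, hES⟩ := hE.exists_le_sylow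
  have hRS : R ≤ (S : Subgroup H).map π := by
    have := Thompson.pCore_le_sylow (p := p) (S.mapSurjective hπs)
    rwa [Sylow.coe_mapSurjective] at this
  have hRp : IsPGroup p R := Thompson.isPGroup_pCore
  have hEπ : IsPGroup p (E.map π) := hE.map π
  have hQπ : (Nat.card (Q.map π)).Coprime p := hQ.coprime_dvd_left (Subgroup.card_map_dvd _ _)
  have hEQπ : E.map π ≤ Subgroup.normalizer ((Q.map π : Subgroup _) : Set _) :=
    (Subgroup.map_mono hEQ).trans (Subgroup.le_normalizer_map π)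
  have hnorm : ∀ X : Subgroup (H ⧸ Cfsg.pPrimeCore p H), X ≤ Subgroup.normalizer (R : Set _) :=
    fun X => by rw [Subgroup.normalizer_eq_top]; exact le_top
  have hRQ : R ⊓ Q.map π = ⊥ := Thompson.inf_eq_bot_of_isPGroup_of_coprime hRp hQπ
  have hfixE : ∀ r ∈ R, r ∈ Subgroup.centralizer ((E.map π : Subgroup _) : Set _) → r ∈ E.map π := by
    intro r hr hrc
    obtain ⟨s, hs, rfl⟩ := hRS hr
    refine ⟨s, ?_, rfl⟩
    obtain ⟨n, hn⟩ := S.isPGroup' ⟨s, hs⟩
    refine hEfull s (Subgroup.mem_centralizer_iff.2 fun e he => ?_) n (congrArg Subtype.val hn)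
    have hO : ⁅e, s⁆ ∈ Cfsg.pPrimeCore p H := by
      rw [← QuotientGroup.eq_one_iff]
      show π ⁅e, s⁆ = 1
      rw [map_commutatorElement, commutatorElement_eq_one_iff_mul_comm]
      exact Subgroup.mem_centralizer_iff.1 hrc _ ⟨e, he, rfl⟩
    have hS : ⁅e, s⁆ ∈ (S : Subgroup H) := by
      rw [commutatorElement_def]
      exact mul_mem (mul_mem (mul_mem (hES he) hs) (inv_mem (hES he))) (inv_mem hs)
    have h1 : ⁅e, s⁆ ∈ (S : Subgroup H) ⊓ Cfsg.pPrimeCore p H := ⟨hS, hO⟩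
    rw [Thompson.inf_eq_bot_of_isPGroup_of_coprime S.isPGroup' Thompson.card_pPrimeCore_coprime,
      Subgroup.mem_bot, commutatorElement_eq_one_iff_mul_comm] at h1
    exact h1
  have hfix : R ⊓ Subgroup.centralizer ((E.map π : Subgroup _) : Set _) ≤
      Subgroup.centralizer ((Q.map π : Subgroup _) : Set _) := by
    rintro r ⟨hr, hrc⟩
    refine Subgroup.mem_centralizer_iff.2 fun q hq => ?_
    have hrE := hfixE r hr hrc
    have h1 : ⁅r, q⁆ ∈ R ⊓ Q.map π := by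
      refine ⟨?_, ?_⟩
      · have : q * r⁻¹ * q⁻¹ ∈ R :=
          (Subgroup.mem_normalizer_iff.1 (hnorm (Q.map π) hq) r⁻¹).1 (inv_mem hr)
        rw [show ⁅r, q⁆ = r * (q * r⁻¹ * q⁻¹) by rw [commutatorElement_def]; group]
        exact mul_mem hr this
      · rw [commutatorElement_def]
        exact (Q.map π).mul_mem ((Subgroup.mem_normalizer_iff.1 (hEQπ hrE) q).1 hq)
          ((Q.map π).inv_mem hq)
    rw [hRQ, Subgroup.mem_bot, commutatorElement_eq_one_iff_mul_comm] at h1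
    exact h1.symm
  have hle : R ≤ Subgroup.centralizer ((Q.map π : Subgroup _) : Set _) := by
    rcases eq_or_ne p 2 with hp2 | hp2
    · refine le_centralizer_of_fixedPoints_class_two hRp hQπ hEQπ (hnorm _) (hnorm _) ?_ hfix
      intro r hr e he
      obtain ⟨s, hs, rfl⟩ := hRS hr
      obtain ⟨e', he', rfl⟩ := he
      rw [← map_commutatorElement]
      have key : ∀ c ∈ (S : Subgroup H), π c * π ⁅s, e'⁆ = π ⁅s, e'⁆ * π c := fun c hc => by
        rw [← map_mul, ← map_mul]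
        exact congrArg π (h2 hp2 S S.isPGroup' s hs e' (hES he') c hc).symm
      refine ⟨Subgroup.mem_centralizer_iff.2 fun y hy => ?_,
        Subgroup.mem_centralizer_iff.2 fun y hy => ?_⟩
      · obtain ⟨c, hc, rfl⟩ := hRS hy
        exact key c hc
      · obtain ⟨c, hc, rfl⟩ := hy
        exact key c (hES hc)
    · exact le_centralizer_of_fixedPoints hp2 hEπ hQπ hEQπ hRp (hnorm _) (hnorm _) hfix
  have hQR : Q.map π ≤ R :=
    (Subgroup.le_centralizer_iff.1 hle).trans (centralizer_pCore_quotient_le hH)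
  have hbot : Q.map π = ⊥ := by rw [← hRQ, inf_eq_right.2 hQR]
  rwa [Subgroup.map_eq_bot_iff, QuotientGroup.ker_mk'] at hbot

end Constrained

section Ambient

variable {G : Type*} [Group G] [Finite G] {p : ℕ} [hpf : Fact p.Prime]

theorem coprime_sup_of_le_normalizer {D X : Subgroup G} (hXD : X ≤ Subgroup.normalizer (D : Set G))
    (hD : (Nat.card D).Coprime p) (hX : (Nat.card X).Coprime p) :
    (Nat.card (D ⊔ X : Subgroup G)).Coprime p := by
  have hsup : D ⊔ X ≤ Subgroup.normalizer (D : Set G) := sup_le Subgroup.le_normalizer hXD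
  have h := Thompson.card_sup_dvd_mul (X.subgroupOf (Subgroup.normalizer (D : Set G)))
    (D.subgroupOf (Subgroup.normalizer (D : Set G)))
  rw [← Subgroup.subgroupOf_sup hXD Subgroup.le_normalizer,
    Nat.card_congr (Subgroup.subgroupOfEquivOfLe (sup_le hXD Subgroup.le_normalizer)).toEquiv,
    Nat.card_congr (Subgroup.subgroupOfEquivOfLe hXD).toEquiv,
    Nat.card_congr (Subgroup.subgroupOfEquivOfLe Subgroup.le_normalizer).toEquiv, sup_comm] at h
  exact (hX.mul_left hD).coprime_dvd_left h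

theorem commutator_commute_of_class_two (hp : ∀ S : Sylow p G,
      Group.IsNilpotent (S : Subgroup G) ∧ Group.nilpotencyClass (S : Subgroup G) ≤ 2)
    {P : Subgroup G} (hP : IsPGroup p P) {a b c : G} (ha : a ∈ P) (hb : b ∈ P) (hc : c ∈ P) :
    Commute ⁅a, b⁆ c := by
  obtain ⟨S, hS⟩ := hP.exists_le_sylow
  haveI := (hp S).1
  set a' : ↥(S : Subgroup G) := ⟨a, hS ha⟩
  set b' : ↥(S : Subgroup G) := ⟨b, hS hb⟩
  set c' : ↥(S : Subgroup G) := ⟨c, hS hc⟩
  have hm : ⁅⁅a', b'⁆, c'⁆ ∈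
      Subgroup.lowerCentralSeries (⊤ : Subgroup ↥(S : Subgroup G)) 2 :=
    Subgroup.commutator_mem_commutator (Subgroup.commutator_mem_commutator (Subgroup.mem_top _)
      (Subgroup.mem_top _)) (Subgroup.mem_top _)
  rw [(Subgroup.lowerCentralSeries_eq_bot_iff_nilpotencyClass_le).2 (hp S).2, Subgroup.mem_bot] at hm
  exact commutatorElement_eq_one_iff_mul_comm.1 (congrArg Subtype.val hm)

/-- `x` of order prime to `p` in `C(E)` lies in `O_{p'}(C(E))`, if `E` is the set of `p`-elements. -/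
theorem mem_piCoreOf_centralizer {E : Subgroup G} (hE : IsPGroup p E)
    (hEc : ∀ a ∈ E, ∀ b ∈ E, a * b = b * a)
    (hEfull : ∀ x ∈ Subgroup.centralizer (E : Set G), ∀ n : ℕ, x ^ p ^ n = 1 → x ∈ E)
    {x : G} (hx : x ∈ Subgroup.centralizer (E : Set G)) (hxp : (orderOf x).Coprime p) :
    x ∈ Cfsg.piCoreOf (Cfsg.primesNotDvd p) (Subgroup.centralizer (E : Set G)) := by
  set C := Subgroup.centralizer (E : Set G) with hC
  have hEC : E ≤ C := fun a ha => Subgroup.mem_centralizer_iff.2 fun b hb => hEc b hb a ha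
  set Z := E.subgroupOf C with hZ
  have hZc : Z ≤ Subgroup.center C := fun z hz => Subgroup.mem_center_iff.2 fun c =>
    Subtype.ext (Subgroup.mem_centralizer_iff.1 c.2 _ hz).symm
  haveI : Z.Normal := ⟨fun z hz g => by
    rwa [Subgroup.mem_center_iff.mp (hZc hz) g, mul_inv_cancel_right]⟩
  have hZp : IsPGroup p Z := hE.comap_subtype
  have hidx : ¬ p ∣ Z.index := by
    intro hd
    rw [Subgroup.index_eq_card] at hd
    obtain ⟨y, hy⟩ := exists_prime_orderOf_dvd_card' p hd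
    obtain ⟨c, rfl⟩ := QuotientGroup.mk'_surjective Z y
    have hcp : (c ^ p : C) ∈ Z := by
      rw [← QuotientGroup.eq_one_iff]
      show QuotientGroup.mk' Z (c ^ p) = 1
      rw [map_pow, ← hy, pow_orderOf_eq_one]
    -- split off the `p`-part of `c`
    obtain ⟨n, hn⟩ := hZp ⟨_, hcp⟩
    have h1 : (c : G) ^ p ^ (n + 1) = 1 := by
      have := congrArg (fun z : Z => ((z : C) : G)) hn
      simpa [pow_succ', pow_mul] using this
    have h2 : c ∈ Z := hEfull c c.2 (n + 1) h1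
    rw [show QuotientGroup.mk' Z c = 1 from (QuotientGroup.eq_one_iff c).2 h2, orderOf_one] at hy
    exact hpf.out.one_lt.ne hy
  obtain ⟨m, hm⟩ := IsPGroup.iff_card.1 hZp
  have hcop : (Nat.card Z).Coprime Z.index := by
    rw [hm]; exact ((hpf.out.coprime_iff_not_dvd).2 hidx).pow_left m
  obtain ⟨N, hN⟩ := Subgroup.exists_right_complement'_of_coprime hcop
  have hdec : ∀ g : C, ∃ z ∈ Z, ∃ k ∈ N, g = z * k := fun g => by
    obtain ⟨⟨⟨z, hz⟩, ⟨k, hk⟩⟩, hzk⟩ := hN.2 g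
    exact ⟨z, hz, k, hk, hzk.symm⟩
  have hNn : N.Normal := ⟨fun k hk g => by
    obtain ⟨z, hz, l, hl, rfl⟩ := hdec g
    rw [show z * l * k * (z * l)⁻¹ = z * (l * k * l⁻¹) * z⁻¹ by group,
      ← Subgroup.mem_center_iff.1 (hZc hz), mul_inv_cancel_right]
    exact mul_mem (mul_mem hl hk) (inv_mem hl)⟩
  have hNcard : Nat.card N = Z.index := by
    have h1 := hN.card_mul
    rw [← Subgroup.card_mul_index Z] at h1
    exact Nat.eq_of_mul_eq_mul_left Nat.card_pos h1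
  have hNp : (Nat.card N).Coprime p := by
    rw [hNcard]; exact ((hpf.out.coprime_iff_not_dvd).2 hidx).symm
  rw [BGUniq.piCoreOf_primesNotDvd hpf.out]
  refine ⟨⟨x, hx⟩, Thompson.le_pPrimeCore hNn hNp ?_, rfl⟩
  obtain ⟨z, hz, k, hk, hzk⟩ := hdec ⟨x, hx⟩
  have hcomm : Commute z k := (Subgroup.mem_center_iff.1 (hZc hz) k).symm
  have h1 : z ^ (orderOf x * Nat.card N) = 1 := by
    have hk1 : k ^ Nat.card N = 1 := congrArg Subtype.val (pow_card_eq_one' (x := (⟨k, hk⟩ : N)))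
    have hx1 : (⟨x, hx⟩ : C) ^ (orderOf x * Nat.card N) = 1 :=
      Subtype.ext (by show x ^ _ = 1; rw [pow_mul, pow_orderOf_eq_one, one_pow])
    rwa [hzk, hcomm.mul_pow, mul_comm (orderOf x), pow_mul k, hk1, one_pow, mul_one,
      mul_comm (Nat.card N)] at hx1
  obtain ⟨n, hn⟩ := IsPGroup.iff_orderOf.1 hZp ⟨z, hz⟩
  rw [Subgroup.orderOf_mk] at hn
  have h2 := orderOf_dvd_of_pow_eq_one h1
  rw [hn] at h2
  have h3 : p ^ n = 1 :=
    Nat.eq_one_of_dvd_coprimes ((hxp.mul_left hNp).symm.pow_left n) dvd_rfl h2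
  rw [← hn, orderOf_eq_one_iff] at h3
  rw [hzk, h3, one_mul]
  exact hk

theorem card_lt_of_lt {H K : Subgroup G} (h : H < K) : Nat.card H < Nat.card K :=
  Set.Finite.card_lt_card (K : Set G).toFinite (SetLike.coe_ssubset_coe.2 h)

/-- The transitivity theorem. -/
theorem transitivity_maxInv
    (hloc : ∀ T : Subgroup G, IsPGroup p T → T ≠ ⊥ →
      Cfsg.IsPConstrained p ↥(Subgroup.normalizer (T : Set G)))
    (h2 : p = 2 → ∀ S : Sylow p G,
      Group.IsNilpotent (S : Subgroup G) ∧ Group.nilpotencyClass (S : Subgroup G) ≤ 2)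
    {E : Subgroup G} (hEp : IsPGroup p E) (hEc : IsMulCommutative E) (hE3 : ¬ Cfsg.PRankLE p 2 E)
    (hEfull : ∀ x ∈ Subgroup.centralizer (E : Set G), IsPGroup p (Subgroup.zpowers x) → x ∈ E)
    {q : ℕ} [hqf : Fact q.Prime] (hqp : q ≠ p) :
    ∀ Q₁ ∈ Cfsg.maxInvSubgroups ⊤ E {q}, ∀ Q₂ ∈ Cfsg.maxInvSubgroups ⊤ E {q},
      ∃ k ∈ Cfsg.piCoreOf (Cfsg.primesNotDvd p) (Subgroup.centralizer (E : Set G)),
        Q₂ = Q₁.map (MulAut.conj k).toMonoidHom := by
  classical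
  set C := Subgroup.centralizer (E : Set G) with hC
  set K := Cfsg.piCoreOf (Cfsg.primesNotDvd p) C with hK
  have hKC : K ≤ C := Subgroup.map_subtype_le _
  have hEcomm : ∀ a ∈ E, ∀ b ∈ E, a * b = b * a := fun a ha b hb =>
    congrArg Subtype.val (hEc.is_comm.comm (⟨a, ha⟩ : E) ⟨b, hb⟩)
  have hfull : ∀ x ∈ C, ∀ n : ℕ, x ^ p ^ n = 1 → x ∈ E := fun x hx n hn => hEfull x hx fun y => by
    obtain ⟨j, hj⟩ := y.2
    refine ⟨n, Subtype.ext ?_⟩
    rw [Subgroup.coe_pow, ← hj, Subgroup.coe_one]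
    show (x ^ j) ^ p ^ n = 1
    rw [← zpow_natCast, ← zpow_mul, mul_comm, zpow_mul, zpow_natCast, hn, one_zpow]
  have hmemK : ∀ x ∈ C, (orderOf x).Coprime p → x ∈ K := fun x hx hxp =>
    mem_piCoreOf_centralizer hEp hEcomm hfull hx hxp
  obtain ⟨A, hA, hAcard⟩ := H40.exists_elementary_of_not_rankLE hE3
  set E₀ := A.map E.subtype with hE₀
  have hE₀el : Cfsg.IsElementaryAbelian p E₀ := H40.elementary_map hA _
  have hE₀E : E₀ ≤ E := Subgroup.map_subtype_le _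
  have hE₀card : p ^ 3 ≤ Nat.card E₀ := by
    rw [hE₀, Subgroup.card_map_of_injective E.subtype_injective]; exact hAcard
  have hqgroup : ∀ Y ∈ Cfsg.invSubgroups ⊤ E {q}, IsPGroup q Y := fun Y hY =>
    IsPGroup.of_card (Nat.eq_prime_pow_of_unique_prime_dvd Nat.card_pos.ne' fun {d} hd hdvd => hY.2.1 d hd hdvd)
  have hqcop : ∀ {Y : Subgroup G}, IsPGroup q Y → (Nat.card Y).Coprime p := fun {Y} hY => by
    obtain ⟨n, hn⟩ := IsPGroup.iff_card.1 hY
    rw [hn]; exact ((Nat.coprime_primes hqf.out hpf.out).2 hqp).pow_left n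
  have hinv : ∀ {Y : Subgroup G}, IsPGroup q Y → E ≤ Subgroup.normalizer (Y : Set G) →
      Y ∈ Cfsg.invSubgroups ⊤ E {q} := fun {Y} hY hEY => by
    refine ⟨le_top, fun d hd hdvd => ?_, hEY⟩
    obtain ⟨n, hn⟩ := IsPGroup.iff_card.1 hY
    rw [hn] at hdvd
    exact (Nat.prime_dvd_prime_iff_eq hd hqf.out).1 (hd.dvd_of_dvd_pow hdvd)
  have hconjInv : ∀ {Y : Subgroup G}, ∀ k ∈ C, E ≤ Subgroup.normalizer (Y : Set G) →
      E ≤ Subgroup.normalizer ((Y.map (MulAut.conj k).toMonoidHom : Subgroup G) : Set G) := by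
    intro Y k hk hEY e he
    have he' : (MulAut.conj k).toMonoidHom e = e := by
      show k * e * k⁻¹ = e
      rw [← Subgroup.mem_centralizer_iff.1 hk e he, mul_inv_cancel_right]
    rw [← he']
    exact Subgroup.le_normalizer_map _ ⟨e, hEY he, rfl⟩
  have hmul : ∀ (a b : G) (Y : Subgroup G), (Y.map (MulAut.conj a).toMonoidHom).map
      (MulAut.conj b).toMonoidHom = Y.map (MulAut.conj (b * a)).toMonoidHom := fun a b Y => by
    rw [Subgroup.map_map]
    congr 1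
    ext x
    simp [mul_assoc]
  have hone : ∀ Y : Subgroup G, Y.map (MulAut.conj (1 : G)).toMonoidHom = Y := fun Y => by
    rw [map_one]; exact Subgroup.map_id Y
  have hmaxconj : ∀ k ∈ C, ∀ Y ∈ Cfsg.maxInvSubgroups ⊤ E {q},
      Y.map (MulAut.conj k).toMonoidHom ∈ Cfsg.maxInvSubgroups ⊤ E {q} := by
    intro k hk Y hY
    refine ⟨hinv ((hqgroup Y hY.1).map _) (hconjInv k hk hY.1.2.2), fun Z hZ hYZ => ?_⟩
    have h1 := hY.2 _ (hinv ((hqgroup Z hZ).map _) (hconjInv k⁻¹ (inv_mem hk) hZ.2.2)) (by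
      have := Subgroup.map_mono (f := (MulAut.conj k⁻¹).toMonoidHom) hYZ
      rwa [hmul, inv_mul_cancel, hone] at this)
    rw [← h1, hmul, mul_inv_cancel, hone]
  suffices key : ∀ n, ∀ Q₁ ∈ Cfsg.maxInvSubgroups ⊤ E {q}, ∀ Q₂ ∈ Cfsg.maxInvSubgroups ⊤ E {q},
      Nat.card G - Nat.card (Q₁ ⊓ Q₂ : Subgroup G) ≤ n →
      ∃ k ∈ K, Q₂ = Q₁.map (MulAut.conj k).toMonoidHom from
    fun Q₁ h₁ Q₂ h₂' => key _ Q₁ h₁ Q₂ h₂' le_rfl
  intro n
  induction n using Nat.strong_induction_on with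
  | _ n IH =>
  intro Q₁ hQ₁ Q₂ hQ₂ hn
  by_cases heq : Q₁ = Q₂
  · exact ⟨1, one_mem _, by rw [hone, heq]⟩
  set D := Q₁ ⊓ Q₂ with hD
  have hIH : ∀ X₁ ∈ Cfsg.maxInvSubgroups ⊤ E {q}, ∀ X₂ ∈ Cfsg.maxInvSubgroups ⊤ E {q},
      Nat.card D < Nat.card (X₁ ⊓ X₂ : Subgroup G) →
      ∃ k ∈ K, X₂ = X₁.map (MulAut.conj k).toMonoidHom := fun X₁ hX₁ X₂ hX₂ hlt => by
    refine IH _ ?_ X₁ hX₁ X₂ hX₂ le_rfl
    have h1 := Subgroup.card_le_card_group (X₁ ⊓ X₂ : Subgroup G)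
    omega
  have hq1 := hqgroup Q₁ hQ₁.1
  have hq2 := hqgroup Q₂ hQ₂.1
  have hDne1 : D ≠ Q₁ := fun h => heq (hQ₁.2 Q₂ hQ₂.1 (inf_eq_left.1 h)).symm
  have hDne2 : D ≠ Q₂ := fun h => heq (hQ₂.2 Q₁ hQ₁.1 (inf_eq_right.1 h))
  have hED : E ≤ Subgroup.normalizer (D : Set G) := Coprime.le_normalizer_inf hQ₁.1.2.2 hQ₂.1.2.2
  have hDp := hqcop (hq1.to_le (inf_le_left : D ≤ Q₁))
  -- the hyperplanes
  have hyp : ∀ Q : Subgroup G, IsPGroup q Q → E ≤ Subgroup.normalizer (Q : Set G) → D ≤ Q → D ≠ Q →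
      ∃ B : Subgroup G, B ≤ E₀ ∧ B.relIndex E₀ ≤ p ∧ ∃ x ∈ Q, x ∉ D ∧
        x ∈ Subgroup.normalizer (D : Set G) ∧ x ∈ Subgroup.centralizer (B : Set G) := by
    intro Q hQ hEQ hDQ hne
    set N := Q ⊓ Subgroup.normalizer (D : Set G) with hN
    obtain ⟨g, hgQ, hgD, hgN⟩ := H40.exists_normalizer_gt hQ hDQ hne
    by_contra hcon
    push Not at hcon
    refine hgD ?_
    have hEN : E₀ ≤ Subgroup.normalizer (N : Set G) :=
      hE₀E.trans (Coprime.le_normalizer_inf hEQ (hED.trans Subgroup.le_normalizer))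
    have hNp : ¬ p ∣ Nat.card N :=
      (hpf.out.coprime_iff_not_dvd).1 (hqcop (hQ.to_le inf_le_left)).symm
    refine (H40.le_iSup_hyperplane hE₀el hNp hEN).trans (iSup_le fun B => ?_) ⟨hgQ, hgN⟩
    rintro x ⟨⟨hxQ, hxN⟩, hxC⟩
    by_contra hxD
    exact hcon B B.2.1 B.2.2 x hxQ hxD hxN hxC
  obtain ⟨B₁, hB₁, hB₁i, x₁, hx₁Q, hx₁D, hx₁N, hx₁C⟩ := hyp Q₁ hq1 hQ₁.1.2.2 inf_le_left hDne1
  obtain ⟨B₂, hB₂, hB₂i, x₂, hx₂Q, hx₂D, hx₂N, hx₂C⟩ := hyp Q₂ hq2 hQ₂.1.2.2 inf_le_right hDne2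
  have hB : B₁ ⊓ B₂ ≠ ⊥ := by
    intro h
    have h1 := (Subgroup.relIndex_inf_le (H := B₁) (K := B₂) (L := E₀)).trans
      (Nat.mul_le_mul hB₁i hB₂i)
    rw [h, Subgroup.relIndex_bot_left] at h1
    have h3 := hE₀card.trans h1
    rw [pow_succ, pow_two] at h3
    have := hpf.out.two_le
    nlinarith
  obtain ⟨b, hb, hb1⟩ := (B₁ ⊓ B₂).bot_or_exists_ne_one.resolve_left hB
  have hbE : b ∈ E := hE₀E (hB₁ hb.1)
  set T := Subgroup.zpowers b with hT
  have hTp : IsPGroup p T := hEp.to_le (Subgroup.zpowers_le.2 hbE)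
  have hT1 : T ≠ ⊥ := by rwa [ne_eq, Subgroup.zpowers_eq_bot]
  set H := Subgroup.normalizer (T : Set G) with hH
  have hCbH : Subgroup.centralizer ({b} : Set G) ≤ H := by
    rw [← Subgroup.centralizer_closure, ← Subgroup.zpowers_eq_closure]
    exact Subgroup.centralizer_le_normalizer _
  have hECb : E ≤ Subgroup.centralizer ({b} : Set G) := fun e he =>
    Subgroup.mem_centralizer_singleton_iff.2 (hEcomm e he b hbE)
  have hEH : E ≤ H := hECb.trans hCbH
  set L := (Cfsg.pPrimeCore p H).map H.subtype with hL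
  have hEL : E ≤ Subgroup.normalizer (L : Set G) := by
    intro e he
    refine Subgroup.le_normalizer_map H.subtype ⟨⟨e, hEH he⟩, ?_, rfl⟩
    rw [Subgroup.normalizer_eq_top]; exact Subgroup.mem_top _
  have hLp : (Nat.card L).Coprime p := by
    rw [hL, Subgroup.card_map_of_injective H.subtype_injective]
    exact Thompson.card_pPrimeCore_coprime
  have keyL : ∀ Y : Subgroup G, IsPGroup q Y → E ≤ Subgroup.normalizer (Y : Set G) → Y ≤ H →
      Y ≤ L := by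
    intro Y hY hEY hYH
    have h := le_pPrimeCore_of_invariant (hloc T hTp hT1)
      (fun hp2 P hP a ha b' hb' c hc => by
        have h3 := commutator_commute_of_class_two (h2 hp2) (hP.map H.subtype)
          (Subgroup.mem_map_of_mem _ ha) (Subgroup.mem_map_of_mem _ hb')
          (Subgroup.mem_map_of_mem _ hc)
        exact Subtype.ext h3.eq)
      (E := E.subgroupOf H) hEp.comap_subtype
      (fun x hx m hm => hfull x (Subgroup.mem_centralizer_iff.2 fun e he =>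
        congrArg Subtype.val (Subgroup.mem_centralizer_iff.1 hx ⟨e, hEH he⟩ he)) m
          (congrArg Subtype.val hm))
      (Q := Y.subgroupOf H)
      (Coprime.le_normalizer_of_conj_mem fun e he y hy => (Subgroup.mem_normalizer_iff.1 (hEY he) y).1 hy)
      (by rw [Nat.card_congr (Subgroup.subgroupOfEquivOfLe hYH).toEquiv]; exact hqcop hY)
    intro y hy
    exact ⟨⟨y, hYH hy⟩, h hy, rfl⟩
  set X := Subgroup.normalizer (D : Set G) ⊓ L with hX
  have hXD : X ≤ Subgroup.normalizer (D : Set G) := inf_le_left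
  set K₀ := D ⊔ X with hK₀
  have hEX : E ≤ Subgroup.normalizer (X : Set G) :=
    Coprime.le_normalizer_inf (hED.trans Subgroup.le_normalizer) hEL
  have hEK₀ : E ≤ Subgroup.normalizer (K₀ : Set G) := Coprime.le_normalizer_sup hED hEX
  have hK₀p : (Nat.card K₀).Coprime p :=
    coprime_sup_of_le_normalizer hXD hDp (hLp.coprime_dvd_left (Subgroup.card_dvd_of_le inf_le_right))
  have hcop : (Nat.card E).Coprime (Nat.card K₀) := by
    obtain ⟨m, hm⟩ := IsPGroup.iff_card.1 hEp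
    rw [hm]; exact hK₀p.symm.pow_left m
  haveI := hEp.isNilpotent
  have hsolv : Group.IsSolvable E ∨ Group.IsSolvable K₀ := Or.inl inferInstance
  -- `U = D · (N_Q(D) ∩ C(b))`
  have main : ∀ Q : Subgroup G, IsPGroup q Q → E ≤ Subgroup.normalizer (Q : Set G) → D ≤ Q →
      ∀ x ∈ Q, x ∉ D → x ∈ Subgroup.normalizer (D : Set G) →
        x ∈ Subgroup.centralizer ({b} : Set G) →
        ∃ U : Subgroup G, U ≤ Q ∧ D < U ∧ ∃ P : Sylow q K₀, U ≤ (P : Subgroup K₀).map K₀.subtype ∧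
          E ≤ Subgroup.normalizer ((P : Subgroup K₀).map K₀.subtype : Set G) := by
    intro Q hQ hEQ hDQ x hxQ hxD hxN hxC
    set Y := Q ⊓ Subgroup.normalizer (D : Set G) ⊓ Subgroup.centralizer ({b} : Set G) with hY
    have hEY : E ≤ Subgroup.normalizer (Y : Set G) :=
      Coprime.le_normalizer_inf (Coprime.le_normalizer_inf hEQ (hED.trans Subgroup.le_normalizer))
        (hECb.trans Subgroup.le_normalizer)
    have hYL : Y ≤ L := keyL Y (hQ.to_le (inf_le_left.trans inf_le_left)) hEY (inf_le_right.trans hCbH)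
    have hUQ : D ⊔ Y ≤ Q := sup_le hDQ (inf_le_left.trans inf_le_left)
    refine ⟨D ⊔ Y, hUQ, lt_of_le_of_ne le_sup_left fun h => hxD ?_,
      Coprime.exists_invariant_sylow_ge E K₀ hEK₀ hcop hsolv q (D ⊔ Y) ?_ (hQ.to_le hUQ)
        (Coprime.le_normalizer_sup hED hEY)⟩
    · rw [h]; exact Subgroup.mem_sup_right ⟨⟨hxQ, hxN⟩, hxC⟩
    · exact sup_le_sup le_rfl (le_inf (inf_le_left.trans inf_le_right) hYL)
  obtain ⟨U₁, hU₁Q, hDU₁, P₁, hU₁P, hP₁⟩ := main Q₁ hq1 hQ₁.1.2.2 inf_le_left x₁ hx₁Q hx₁D hx₁N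
    (Subgroup.mem_centralizer_singleton_iff.2 (Subgroup.mem_centralizer_iff.1 hx₁C b hb.1).symm)
  obtain ⟨U₂, hU₂Q, hDU₂, P₂, hU₂P, hP₂⟩ := main Q₂ hq2 hQ₂.1.2.2 inf_le_right x₂ hx₂Q hx₂D hx₂N
    (Subgroup.mem_centralizer_singleton_iff.2 (Subgroup.mem_centralizer_iff.1 hx₂C b hb.2).symm)
  obtain ⟨c, hcC, hcP⟩ := Coprime.exists_invariant_sylow_conj E K₀ hEK₀ hcop hsolv q P₁ P₂ hP₁ hP₂
  have hcK : (c : G) ∈ K := hmemK _ hcC
    (hK₀p.coprime_dvd_left ((Subgroup.orderOf_coe c).dvd.trans (orderOf_dvd_natCard _)))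
  set R₁ := (P₁ : Subgroup K₀).map K₀.subtype with hR₁
  obtain ⟨Q₃, hR₁Q₃, hQ₃⟩ : ∃ Q₃, R₁ ≤ Q₃ ∧ Q₃ ∈ Cfsg.maxInvSubgroups ⊤ E {q} := by
    obtain ⟨Q₃, hle, hmax⟩ := (Cfsg.invSubgroups ⊤ E {q}).toFinite.exists_le_maximal
      (hinv (P₁.isPGroup'.map _) hP₁)
    exact ⟨Q₃, hle, hmax.1, fun Z hZ hQZ => le_antisymm (hmax.2 hZ hQZ) hQZ⟩
  obtain ⟨k₁, hk₁, he₁⟩ := hIH Q₁ hQ₁ Q₃ hQ₃ (card_lt_of_lt
    (hDU₁.trans_le (le_inf hU₁Q (hU₁P.trans hR₁Q₃))))
  have hR₂ : (P₂ : Subgroup K₀).map K₀.subtype = R₁.map (MulAut.conj (c : G)).toMonoidHom := by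
    have e : K₀.subtype.comp (MulAut.conj c).toMonoidHom =
        (MulAut.conj (c : G)).toMonoidHom.comp K₀.subtype := by ext x; simp
    rw [← hcP, hR₁, Subgroup.map_map, ← e, ← Subgroup.map_map]
    rfl
  obtain ⟨k₂, hk₂, he₂⟩ := hIH _ (hmaxconj c hcC Q₃ hQ₃) Q₂ hQ₂ (card_lt_of_lt
    (hDU₂.trans_le (le_inf (hU₂P.trans (hR₂.le.trans (Subgroup.map_mono hR₁Q₃))) hU₂Q)))
  refine ⟨k₂ * (c * k₁), mul_mem hk₂ (mul_mem hcK hk₁), ?_⟩
  rw [he₂, he₁, hmul, hmul, mul_assoc]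

end Ambient

end Cfsg.Agent.OddLocal44
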