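import Cfsg.Agent.Lib.Coprime.SchurZassenhaus
import Mathlib.Algebra.Group.Subgroup.Finite

set_option autoImplicit false

/-!
Small helpers about conjugates of subgroups.
-/

namespace Cfsg.Agent.OddLocal44

variable {G : Type*} [Group G]

lemma conjBy_one (H : Subgroup G) : H.map (MulAut.conj (1 : G)).toMonoidHom = H := by
  ext x; simp

lemma conjBy_conjBy (H : Subgroup G) (a b : G) :
    (H.map (MulAut.conj b).toMonoidHom).map (MulAut.conj a).toMonoidHom
      = H.map (MulAut.conj (a * b)).toMonoidHom := by
  rw [Subgroup.map_map]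
  congr 1
  ext x
  simp [mul_assoc]

lemma card_conjBy (H : Subgroup G) (g : G) :
    Nat.card (H.map (MulAut.conj g).toMonoidHom) = Nat.card H :=
  Subgroup.card_map_of_injective (MulEquiv.injective (MulAut.conj g))

lemma mem_normalizer_of_conjBy_eq {H : Subgroup G} {g : G}
    (h : H.map (MulAut.conj g).toMonoidHom = H) : g ∈ Subgroup.normalizer (H : Set G) := by
  rw [Subgroup.mem_normalizer_iff]
  intro z
  constructor
  · intro hz
    have := Subgroup.mem_map_of_mem (MulAut.conj g).toMonoidHom hz
    rwa [h] at this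
  · intro hz
    rw [← h] at hz
    obtain ⟨z', hz', he⟩ := hz
    have : z' = z := by simpa using he
    exact this ▸ hz'

lemma conjBy_eq_of_mem_normalizer {H : Subgroup G} {g : G}
    (h : g ∈ Subgroup.normalizer (H : Set G)) : H.map (MulAut.conj g).toMonoidHom = H := by
  ext x
  constructor
  · rintro ⟨z, hz, rfl⟩
    exact (Subgroup.mem_normalizer_iff.1 h z).1 hz
  · intro hx
    refine ⟨g⁻¹ * x * g, (Subgroup.mem_normalizer_iff.1 h _).2 ?_, by simp [mul_assoc]⟩
    simpa [mul_assoc] using hx

/-- Conjugacy of complements, for subgroups of the same order coprime to a solvable normal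
subgroup. -/
theorem exists_conj_eq [Finite G] (N H H' : Subgroup G) [N.Normal] [Group.IsSolvable N]
    (hle : H' ≤ N ⊔ H) (hcop : (Nat.card H).Coprime (Nat.card N))
    (hcard : Nat.card H' = Nat.card H) :
    ∃ w ∈ N, H' = H.map (MulAut.conj w).toMonoidHom := by
  have htop : ∀ X : Subgroup G, X ≤ Subgroup.normalizer (N : Set G) := fun X => by
    rw [Subgroup.normalizer_eq_top_iff.2 inferInstance]; exact le_top
  obtain ⟨n, hn, h⟩ := Coprime.exists_conj_le N H' H (htop _) (htop _) hle (hcard ▸ hcop) hcop
    (Or.inr inferInstance)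
  have hm : H'.map (MulAut.conj n).toMonoidHom = H := by
    refine Subgroup.eq_of_le_of_card_ge ?_ (le_of_eq (by rw [card_conjBy, hcard]))
    rintro _ ⟨x, hx, rfl⟩
    exact h x hx
  exact ⟨n⁻¹, N.inv_mem hn, by rw [← hm, conjBy_conjBy, inv_mul_cancel, conjBy_one]⟩

end Cfsg.Agent.OddLocal44
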