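import Cfsg.Prelude.Def_OddOrderLocal
import Cfsg.Agent.OddLocal44.SelfCentralizing
import Cfsg.Agent.OddLocal44.Stability
import Cfsg.Agent.S1467
import Cfsg.Agent.OddLocal44.Conj
import Cfsg.Agent.Lib.Transfer.Focal

set_option autoImplicit false

/-!
The Puig series of a subgroup, seen inside the ambient group, and Puig's theorem in odd order:
`O_{p'}(G) N_G(Z(L(S))) = G`.
-/

open Cfsg

namespace Cfsg.Agent.OddLocal44

variable {G : Type*} [Group G]

/-- The subgroup generated by the abelian subgroups of `H` normalized by `X`. -/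
def relStep (H X : Subgroup G) : Subgroup G :=
  sSup {A : Subgroup G | A ≤ H ∧ IsMulCommutative A ∧ X ≤ Subgroup.normalizer (A : Set G)}

/-- The Puig series of `H`, inside the ambient group. -/
def relSeq (H : Subgroup G) : ℕ → Subgroup G
  | 0 => ⊥
  | n + 1 => relStep H (relSeq H n)

/-- `L(H)` inside the ambient group. -/
def relUpper (H : Subgroup G) : Subgroup G := (puigSubgroup ↥H).map H.subtype

/-- `L_*(H)` inside the ambient group. -/
def relLower (H : Subgroup G) : Subgroup G := (puigLower ↥H).map H.subtype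

lemma relStep_le (H X : Subgroup G) : relStep H X ≤ H := sSup_le fun _ hA => hA.1

lemma relSeq_le (H : Subgroup G) : ∀ n, relSeq H n ≤ H
  | 0 => bot_le
  | _ + 1 => relStep_le _ _

lemma map_puigStep {H : Subgroup G} (X : Subgroup ↥H) :
    (puigStep X).map H.subtype = relStep H (X.map H.subtype) := by
  rw [puigStep, relStep, sSup_eq_iSup', Subgroup.map_iSup]
  refine le_antisymm (iSup_le ?_) (sSup_le ?_)
  · rintro ⟨A, hA, hAX⟩
    refine le_sSup ⟨Subgroup.map_subtype_le _, ?_,
      (Subgroup.map_mono hAX).trans (Subgroup.le_normalizer_map _)⟩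
    haveI := hA
    infer_instance
  · rintro A ⟨hAH, hA, hAX⟩
    haveI := hA
    have hm : (A.subgroupOf H).map H.subtype = A := Subgroup.map_subgroupOf_eq_of_le hAH
    refine le_of_eq_of_le hm.symm (le_iSup_of_le ⟨A.subgroupOf H, ?_, ?_⟩ le_rfl)
    · refine ⟨⟨fun a b => Subtype.ext (Subtype.ext ?_)⟩⟩
      exact (congrArg Subtype.val (hA.is_comm.comm (⟨((a : H) : G), a.2⟩ : A) ⟨((b : H) : G), b.2⟩) :)
    · intro x hx
      have h1 := hAX (Subgroup.mem_map_of_mem _ hx)
      rw [Subgroup.mem_normalizer_iff] at h1 ⊢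
      exact fun a => h1 (a : G)

lemma map_puigSeq (H : Subgroup G) : ∀ n, (puigSeq ↥H n).map H.subtype = relSeq H n
  | 0 => Subgroup.map_bot _
  | n + 1 => by
    show (puigStep (puigSeq ↥H n)).map H.subtype = relStep H (relSeq H n)
    rw [map_puigStep, map_puigSeq H n]

lemma relStep_antitone {H X Y : Subgroup G} (h : X ≤ Y) : relStep H Y ≤ relStep H X :=
  sSup_le_sSup fun _ hA => ⟨hA.1, hA.2.1, h.trans hA.2.2⟩

lemma relSeq_one (H : Subgroup G) : relSeq H 1 = H := by
  rw [← map_puigSeq, S1467.puigSeq_one, ← MonoidHom.range_eq_map, Subgroup.range_subtype]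

lemma stabilize [Finite G] (H : Subgroup G) :
    ∃ k : ℕ, ∀ n : ℕ, k ≤ n → relSeq H (2 * n) = relLower H ∧ relSeq H (2 * n + 1) = relUpper H := by
  obtain ⟨k, hk⟩ := S1467.puig_stabilize (G := H)
  refine ⟨k, fun n hn => ?_⟩
  rw [relLower, relUpper, ← map_puigSeq, ← map_puigSeq, (hk n hn).1, (hk n hn).2]
  exact ⟨rfl, rfl⟩

lemma relStep_relLower [Finite G] (H : Subgroup G) : relStep H (relLower H) = relUpper H := by
  rw [relLower, relUpper, ← map_puigStep, S1467.puigStep_puigLower]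

lemma relStep_relUpper [Finite G] (H : Subgroup G) : relStep H (relUpper H) = relLower H := by
  rw [relLower, relUpper, ← map_puigStep, S1467.puigStep_puigSubgroup]

lemma relLower_le_relUpper (H : Subgroup G) : relLower H ≤ relUpper H :=
  Subgroup.map_mono S1467.puigLower_le_puigSubgroup

lemma relSeq_even_le_relLower (H : Subgroup G) (n : ℕ) : relSeq H (2 * n) ≤ relLower H := by
  rw [← map_puigSeq]
  exact Subgroup.map_mono (le_iSup (fun m => puigSeq ↥H (2 * m)) n)

lemma relUpper_le_relSeq_odd (H : Subgroup G) (n : ℕ) : relUpper H ≤ relSeq H (2 * n + 1) := by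
  rw [← map_puigSeq]
  exact Subgroup.map_mono (iInf_le (fun m => puigSeq ↥H (2 * m + 1)) n)

lemma relUpper_le (H : Subgroup G) : relUpper H ≤ H := Subgroup.map_subtype_le _

/-- Whatever normalizes `H` and `X` normalizes `relStep H X`. -/
lemma le_normalizer_relStep {H X N : Subgroup G} (hH : N ≤ Subgroup.normalizer (H : Set G))
    (hX : N ≤ Subgroup.normalizer (X : Set G)) :
    N ≤ Subgroup.normalizer (relStep H X : Set G) := by
  refine Coprime.le_normalizer_of_conj_mem fun g hg x hx => ?_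
  have : relStep H X ≤ (relStep H X).comap (MulAut.conj g).toMonoidHom := by
    refine sSup_le fun A hA => ?_
    rw [← Subgroup.map_le_iff_le_comap]
    refine le_sSup ⟨?_, ?_, ?_⟩
    · rintro _ ⟨a, ha, rfl⟩
      exact (Subgroup.mem_normalizer_iff.1 (hH hg) a).1 (hA.1 ha)
    · haveI := hA.2.1
      infer_instance
    · intro y hy
      have hy' : g⁻¹ * y * g ∈ X := by
        have := (Subgroup.mem_normalizer_iff.1 (hX (N.inv_mem hg)) y).1 hy
        rwa [inv_inv] at this
      refine Subgroup.le_normalizer_map (MulAut.conj g).toMonoidHom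
        ⟨g⁻¹ * y * g, hA.2.2 hy', ?_⟩
      simp [mul_assoc]
  exact this hx

lemma le_normalizer_relSeq {H N : Subgroup G} (hH : N ≤ Subgroup.normalizer (H : Set G)) :
    ∀ n, N ≤ Subgroup.normalizer (relSeq H n : Set G)
  | 0 => (Subgroup.normalizer_eq_top_iff.2 (inferInstance : (⊥ : Subgroup G).Normal)).ge.trans' le_top
  | n + 1 => le_normalizer_relStep hH (le_normalizer_relSeq hH n)

lemma le_normalizer_relUpper [Finite G] {H N : Subgroup G}
    (hH : N ≤ Subgroup.normalizer (H : Set G)) :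
    N ≤ Subgroup.normalizer (relUpper H : Set G) := by
  obtain ⟨k, hk⟩ := stabilize H
  rw [← (hk k le_rfl).2]
  exact le_normalizer_relSeq hH _

lemma relSeq_normal (H : Subgroup G) [hH : H.Normal] (n : ℕ) : (relSeq H n).Normal := by
  rw [← Subgroup.normalizer_eq_top_iff, eq_top_iff]
  exact le_normalizer_relSeq (Subgroup.normalizer_eq_top_iff.2 hH).ge n

/-- In a finite `p`-group every positive term of the Puig series contains its centralizer. -/
lemma inf_centralizer_relStep_le [Finite G] {p : ℕ} [Fact p.Prime] {H : Subgroup G}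
    (hH : IsPGroup p H) {X : Subgroup G} (hX : X ≤ H) :
    H ⊓ Subgroup.centralizer (relStep H X : Set G) ≤ relStep H X := by
  haveI : Group.IsNilpotent H := hH.isNilpotent
  obtain ⟨A, -, hAn, hAc⟩ := exists_normal_centralizer_eq_ge (⊥ : Subgroup H) bot_le
  haveI : IsMulCommutative A := Subgroup.le_centralizer_iff_isMulCommutative.1 hAc.ge
  have hA : A.map H.subtype ≤ relStep H X := by
    refine le_sSup ⟨Subgroup.map_subtype_le _, inferInstance, hX.trans ?_⟩
    refine Coprime.le_normalizer_of_conj_mem fun h hh a ha => ?_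
    obtain ⟨a, ha', rfl⟩ := ha
    exact ⟨_, hAn.conj_mem a ha' ⟨h, hh⟩, rfl⟩
  rintro c ⟨hcH, hcC⟩
  refine hA ⟨⟨c, hcH⟩, hAc.le (Subgroup.mem_centralizer_iff.2 fun a ha => Subtype.ext ?_), rfl⟩
  exact Subgroup.mem_centralizer_iff.1 hcC _ (hA (Subgroup.mem_map_of_mem _ ha))

lemma inf_centralizer_relSeq_le [Finite G] {p : ℕ} [Fact p.Prime] {H : Subgroup G}
    (hH : IsPGroup p H) (n : ℕ) :
    H ⊓ Subgroup.centralizer (relSeq H (n + 1) : Set G) ≤ relSeq H (n + 1) :=
  inf_centralizer_relStep_le hH (relSeq_le H n)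

/-- If `L(S) ≤ R ≤ S` then `L(R) = L(S)`. -/
theorem relUpper_eq_of_le [Finite G] {S R : Subgroup G} (hRS : R ≤ S) (hLR : relUpper S ≤ R) :
    relUpper R = relUpper S := by
  have hlowR : relLower S ≤ R := (relLower_le_relUpper S).trans hLR
  have h1 : ∀ n, relSeq S (2 * n) ≤ relSeq R (2 * n) ∧ relSeq R (2 * n + 1) ≤ relSeq S (2 * n + 1) := by
    intro n
    induction n with
    | zero => exact ⟨le_rfl, by rw [relSeq_one, relSeq_one]; exact hRS⟩
    | succ n ih =>
      have e : relSeq S (2 * (n + 1)) ≤ relSeq R (2 * (n + 1)) := sSup_le fun A hA =>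
        le_sSup ⟨(le_sSup hA).trans ((relSeq_even_le_relLower S (n + 1)).trans hlowR), hA.2.1,
          ih.2.trans hA.2.2⟩
      exact ⟨e, sSup_le fun A hA => le_sSup ⟨hA.1.trans hRS, hA.2.1, e.trans hA.2.2⟩⟩
  have h2 : ∀ n, relSeq R (2 * n) ≤ relLower S ∧ relUpper S ≤ relSeq R (2 * n + 1) := by
    intro n
    induction n with
    | zero => exact ⟨bot_le, by rw [relSeq_one]; exact hLR⟩
    | succ n ih =>
      have e : relSeq R (2 * (n + 1)) ≤ relLower S := by
        rw [← relStep_relUpper]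
        exact sSup_le fun A hA => le_sSup ⟨hA.1.trans hRS, hA.2.1, ih.2.trans hA.2.2⟩
      refine ⟨e, ?_⟩
      rw [← relStep_relLower]
      refine sSup_le fun A hA => le_sSup ⟨?_, hA.2.1, e.trans hA.2.2⟩
      exact (le_sSup hA).trans ((relStep_relLower S).le.trans hLR)
  obtain ⟨a, ha⟩ := stabilize S
  obtain ⟨b, hb⟩ := stabilize R
  have hn := le_max_left a b
  have hn' := le_max_right a b
  rw [← (hb _ hn').2]
  refine le_antisymm ?_ (h2 _).2
  rw [← (ha _ hn).2]
  exact (h1 _).2

/-- A map injective on `H` commutes with the Puig series of `H`. -/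
lemma map_relStep {K : Type*} [Group K] (f : G →* K) {H X : Subgroup G}
    (hf : ∀ x ∈ H, f x = 1 → x = 1) (hX : X ≤ H) :
    (relStep H X).map f = relStep (H.map f) (X.map f) := by
  have hinj : ∀ {a b : G}, a ∈ H → b ∈ H → f a = f b → a = b := by
    intro a b ha hb hab
    exact mul_inv_eq_one.1 (hf _ (H.mul_mem ha (H.inv_mem hb)) (by
      rw [map_mul, map_inv, hab, mul_inv_cancel]))
  rw [relStep, relStep, sSup_eq_iSup', Subgroup.map_iSup]
  refine le_antisymm (iSup_le ?_) (sSup_le ?_)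
  · rintro ⟨A, hAH, hA, hAX⟩
    haveI := hA
    exact le_sSup ⟨Subgroup.map_mono hAH, inferInstance,
      (Subgroup.map_mono hAX).trans (Subgroup.le_normalizer_map _)⟩
  · rintro B ⟨hBH, hB, hBX⟩
    have hA : (H ⊓ B.comap f).map f = B := by
      refine le_antisymm (Subgroup.map_le_iff_le_comap.2 inf_le_right) fun b hb => ?_
      obtain ⟨h, hh, rfl⟩ := hBH hb
      exact ⟨h, ⟨hh, hb⟩, rfl⟩
    refine le_of_eq_of_le hA.symm (le_iSup_of_le ⟨H ⊓ B.comap f, inf_le_left, ?_, ?_⟩ le_rfl)
    · refine ⟨⟨fun a b => Subtype.ext (hinj (H.mul_mem a.2.1 b.2.1) (H.mul_mem b.2.1 a.2.1) ?_)⟩⟩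
      show f ((a : G) * (b : G)) = f ((b : G) * (a : G))
      rw [map_mul, map_mul]
      exact (congrArg Subtype.val (hB.is_comm.comm (⟨f a, a.2.2⟩ : B) ⟨f b, b.2.2⟩) :)
    · refine Coprime.le_normalizer_of_conj_mem fun x hx a ha => ⟨?_, ?_⟩
      · exact H.mul_mem (H.mul_mem (hX hx) ha.1) (H.inv_mem (hX hx))
      · show f (x * a * x⁻¹) ∈ B
        rw [map_mul, map_mul, map_inv]
        exact (Subgroup.mem_normalizer_iff.1 (hBX (Subgroup.mem_map_of_mem _ hx)) _).1 ha.2

lemma map_relSeq {K : Type*} [Group K] (f : G →* K) {H : Subgroup G}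
    (hf : ∀ x ∈ H, f x = 1 → x = 1) : ∀ n, (relSeq H n).map f = relSeq (H.map f) n
  | 0 => Subgroup.map_bot _
  | n + 1 => by
    show (relStep H (relSeq H n)).map f = relStep (H.map f) (relSeq (H.map f) n)
    rw [map_relStep f hf (relSeq_le H n), map_relSeq f hf n]

lemma map_relUpper [Finite G] {K : Type*} [Group K] [Finite K] (f : G →* K) {H : Subgroup G}
    (hf : ∀ x ∈ H, f x = 1 → x = 1) : (relUpper H).map f = relUpper (H.map f) := by
  obtain ⟨a, ha⟩ := stabilize H
  obtain ⟨b, hb⟩ := stabilize (H.map f)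
  rw [← (ha _ (le_max_left a b)).2, ← (hb _ (le_max_right a b)).2, map_relSeq f hf]

/-- `Z(L(H))` inside the ambient group. -/
def centerPuig (H : Subgroup G) : Subgroup G :=
  relUpper H ⊓ Subgroup.centralizer (relUpper H : Set G)

lemma centerPuig_eq (H : Subgroup G) :
    ((Subgroup.center ↥(puigSubgroup ↥H)).map (puigSubgroup ↥H).subtype).map H.subtype
      = centerPuig H := by
  ext x
  constructor
  · rintro ⟨_, ⟨z, hz, rfl⟩, rfl⟩
    refine ⟨Subgroup.mem_map_of_mem _ z.2, Subgroup.mem_centralizer_iff.2 ?_⟩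
    rintro _ ⟨u, hu, rfl⟩
    exact congrArg (fun t : puigSubgroup ↥H => ((t : H) : G)) (Subgroup.mem_center_iff.1 hz ⟨u, hu⟩)
  · rintro ⟨⟨y, hy, rfl⟩, hc⟩
    refine ⟨y, ⟨⟨y, hy⟩, Subgroup.mem_center_iff.2 fun u => Subtype.ext (Subtype.ext ?_), rfl⟩, rfl⟩
    exact Subgroup.mem_centralizer_iff.1 hc _ (Subgroup.mem_map_of_mem _ u.2)

lemma map_centerPuig [Finite G] {K : Type*} [Group K] [Finite K] (f : G →* K) {H : Subgroup G}
    (hf : ∀ x ∈ H, f x = 1 → x = 1) : (centerPuig H).map f = centerPuig (H.map f) := by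
  rw [centerPuig, centerPuig, ← map_relUpper f hf]
  ext y
  constructor
  · rintro ⟨x, ⟨hx, hxc⟩, rfl⟩
    refine ⟨Subgroup.mem_map_of_mem _ hx, Subgroup.mem_centralizer_iff.2 ?_⟩
    rintro _ ⟨u, hu, rfl⟩
    rw [← map_mul, ← map_mul, Subgroup.mem_centralizer_iff.1 hxc u hu]
  · rintro ⟨⟨x, hx, rfl⟩, hxc⟩
    refine ⟨x, ⟨hx, Subgroup.mem_centralizer_iff.2 fun u hu => ?_⟩, rfl⟩
    have hu' := relUpper_le H hu
    have hx' := relUpper_le H hx
    have h1 : f (u * x * (x * u)⁻¹) = 1 := by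
      rw [map_mul, map_mul, map_inv, map_mul,
        Subgroup.mem_centralizer_iff.1 hxc _ (Subgroup.mem_map_of_mem _ hu), mul_inv_cancel]
    exact mul_inv_eq_one.1 (hf _ (H.mul_mem (H.mul_mem hu' hx') (H.inv_mem (H.mul_mem hx' hu'))) h1)

lemma le_normalizer_centerPuig [Finite G] {H N : Subgroup G}
    (hH : N ≤ Subgroup.normalizer (H : Set G)) :
    N ≤ Subgroup.normalizer (centerPuig H : Set G) :=
  Coprime.le_normalizer_inf (le_normalizer_relUpper hH)
    (Coprime.le_normalizer_centralizer (le_normalizer_relUpper hH))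

variable {p : ℕ} [Fact p.Prime] [Finite G]

/-- The Puig series of a Sylow subgroup and of `O_p(G)`. -/
theorem relSeq_sylow_pCore [Group.IsSolvable G] (hp : p ≠ 2) (hodd : Odd (Nat.card G))
    (hO : pPrimeCore p G = ⊥) (S : Sylow p G) (n : ℕ) :
    relSeq (S : Subgroup G) (2 * n) ≤ relSeq (pCore p G) (2 * n) ∧
      relSeq (pCore p G) (2 * n + 1) ≤ relSeq (S : Subgroup G) (2 * n + 1) := by
  induction n with
  | zero => exact ⟨le_rfl, by rw [relSeq_one, relSeq_one]; exact Thompson.pCore_le_sylow S⟩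
  | succ n ih =>
    haveI := relSeq_normal (pCore p G) (2 * n + 1)
    have hP : IsPGroup p (relSeq (pCore p G) (2 * n + 1)) :=
      Thompson.isPGroup_pCore.to_le (relSeq_le _ _)
    have e : relSeq (S : Subgroup G) (2 * (n + 1)) ≤ relSeq (pCore p G) (2 * (n + 1)) := by
      refine sSup_le fun A hA => le_sSup ⟨?_, hA.2.1, ih.2.trans hA.2.2⟩
      have h := sSup_le_pCore hp hodd (relSeq (pCore p G) (2 * n + 1)) hP {A}
        (by rintro B rfl; exact ⟨hA.2.1, ih.2.trans hA.2.2⟩) hO
        (inf_centralizer_relSeq_le Thompson.isPGroup_pCore _)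
      rwa [sSup_singleton] at h
    exact ⟨e, sSup_le fun A hA =>
      le_sSup ⟨hA.1.trans (Thompson.pCore_le_sylow S), hA.2.1, e.trans hA.2.2⟩⟩

theorem puig_chain [Group.IsSolvable G] (hp : p ≠ 2) (hodd : Odd (Nat.card G))
    (hO : pPrimeCore p G = ⊥) (S : Sylow p G) :
    relLower (S : Subgroup G) ≤ relLower (pCore p G) ∧
      relUpper (pCore p G) ≤ relUpper (S : Subgroup G) := by
  obtain ⟨a, ha⟩ := stabilize (S : Subgroup G)
  obtain ⟨b, hb⟩ := stabilize (pCore p G)
  rw [← (ha _ (le_max_left a b)).1, ← (hb _ (le_max_right a b)).1,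
    ← (ha _ (le_max_left a b)).2, ← (hb _ (le_max_right a b)).2]
  exact relSeq_sylow_pCore hp hodd hO S _

/-- Puig: `Z(L(S))` is normal when `O_{p'}(G) = 1`. -/
theorem centerPuig_normal [Group.IsSolvable G] (hp : p ≠ 2) (hodd : Odd (Nat.card G))
    (hO : pPrimeCore p G = ⊥) (S : Sylow p G) : (centerPuig (S : Subgroup G)).Normal := by
  set T := pCore p G
  set Z := centerPuig (S : Subgroup G) with hZ
  obtain ⟨hlow, hup⟩ := puig_chain hp hodd hO S
  haveI hZc : IsMulCommutative Z :=
    ⟨⟨fun a b => Subtype.ext (Subgroup.mem_centralizer_iff.1 b.2.2 a a.2.1)⟩⟩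
  have hSZ : (S : Subgroup G) ≤ Subgroup.normalizer (Z : Set G) :=
    le_normalizer_centerPuig Subgroup.le_normalizer
  have hZT : Z ≤ T := abelian_le_pCore hp hodd hO hZc ((Thompson.pCore_le_sylow S).trans hSZ)
  set LT := relUpper T with hLT
  have hLTsc : T ⊓ Subgroup.centralizer (LT : Set G) ≤ LT := by
    obtain ⟨k, hk⟩ := stabilize T
    rw [hLT, ← (hk k le_rfl).2]
    exact inf_centralizer_relSeq_le Thompson.isPGroup_pCore _
  set Y := centerPuig T with hY
  haveI : Y.Normal := by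
    rw [← Subgroup.normalizer_eq_top_iff, eq_top_iff]
    exact le_normalizer_centerPuig (Subgroup.normalizer_eq_top_iff.2 inferInstance).ge
  have hZY : Z ≤ Y := fun z hz => by
    have hzc : z ∈ Subgroup.centralizer (LT : Set G) :=
      Subgroup.centralizer_le (SetLike.coe_subset_coe.2 hup) hz.2
    exact ⟨hLTsc ⟨hZT hz, hzc⟩, hzc⟩
  have hYT : Y ≤ T := inf_le_left.trans (relUpper_le T)
  have hYlow : Y ≤ relLower (S : Subgroup G) := by
    intro y hy
    rw [← relStep_relUpper]
    refine inf_centralizer_relStep_le S.2 (relUpper_le _) ⟨Thompson.pCore_le_sylow S (hYT hy), ?_⟩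
    rw [relStep_relUpper]
    exact Subgroup.centralizer_le
      (SetLike.coe_subset_coe.2 (hlow.trans (relLower_le_relUpper T))) hy.2
  set C := Subgroup.centralizer (Y : Set G) with hC
  set K := (pCore p (G ⧸ C)).comap (QuotientGroup.mk' C) with hK
  have hSK : relUpper (S : Subgroup G) ≤ K := by
    rw [← relStep_relLower]
    exact Subgroup.map_le_iff_le_comap.1 (sSup_map_le_pCore_quotient hp hodd Y
      (Thompson.isPGroup_pCore.to_le hYT) _ fun A hA => ⟨hA.2.1, hYlow.trans hA.2.2⟩)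
  set R := (S : Subgroup G) ⊓ K with hR
  have hRL : relUpper R = relUpper (S : Subgroup G) :=
    relUpper_eq_of_le inf_le_left (le_inf (relUpper_le _) hSK)
  have hKC : K ≤ C ⊔ R := by
    intro k hk
    obtain ⟨s, hs, hsk⟩ := (show QuotientGroup.mk' C k ∈ (S : Subgroup G).map (QuotientGroup.mk' C) by
      rw [← Sylow.coe_mapSurjective (QuotientGroup.mk'_surjective C) S]
      exact Thompson.pCore_le_sylow _ hk)
    have hsK : s ∈ K := by rw [hK, Subgroup.mem_comap, hsk]; exact hk
    have hc : k * s⁻¹ ∈ C := (QuotientGroup.eq_one_iff _).1 (by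
      show QuotientGroup.mk' C (k * s⁻¹) = 1
      rw [map_mul, map_inv, hsk, mul_inv_cancel])
    rw [show k = k * s⁻¹ * s by group]
    exact Subgroup.mul_mem_sup hc ⟨hs, hsK⟩
  obtain ⟨Q, hQ⟩ := Transfer.exists_sylow_subgroupOf_normal (P := S) K
  have hQR : (Q : Subgroup K).map K.subtype = R := by
    rw [hQ, Subgroup.subgroupOf_map_subtype]
  have hfr := Sylow.normalizer_sup_eq_top Q
  rw [hQR] at hfr
  rw [← Subgroup.normalizer_eq_top_iff, eq_top_iff, ← hfr]
  have h1 : Subgroup.normalizer (R : Set G) ≤ Subgroup.normalizer (Z : Set G) := by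
    have : Z = centerPuig R := by rw [hZ, centerPuig, centerPuig, hRL]
    rw [this]
    exact le_normalizer_centerPuig le_rfl
  have h2 : C ≤ Subgroup.normalizer (Z : Set G) :=
    le_trans (Subgroup.centralizer_le (SetLike.coe_subset_coe.2 hZY))
      (Subgroup.centralizer_le_normalizer _)
  exact sup_le h1 (hKC.trans (sup_le h2 (inf_le_left.trans hSZ)))

/-- Puig's theorem in odd order: `G = O_{p'}(G) N_G(Z(L(S)))`. -/
theorem pPrimeCore_sup_normalizer_centerPuig [Group.IsSolvable G] (hp : p ≠ 2)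
    (hodd : Odd (Nat.card G)) (S : Sylow p G) :
    pPrimeCore p G ⊔ Subgroup.normalizer (centerPuig (S : Subgroup G) : Set G) = ⊤ := by
  set O := pPrimeCore p G with hO
  set f := QuotientGroup.mk' O with hf
  have hfs : Function.Surjective f := QuotientGroup.mk'_surjective _
  haveI : Group.IsSolvable (G ⧸ O) := Group.isSolvable_of_surjective hfs
  have hinj : ∀ x ∈ (S : Subgroup G), f x = 1 → x = 1 := fun x hx hx1 => by
    have h : x ∈ (S : Subgroup G) ⊓ O := ⟨hx, (QuotientGroup.eq_one_iff x).1 hx1⟩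
    rwa [Thompson.inf_eq_bot_of_isPGroup_of_coprime S.2 Thompson.card_pPrimeCore_coprime,
      Subgroup.mem_bot] at h
  set Z := centerPuig (S : Subgroup G) with hZ
  have hnorm := centerPuig_normal hp (hodd.of_dvd_nat (Subgroup.card_quotient_dvd_card O))
    Thompson.pPrimeCore_quotient_pPrimeCore (S.mapSurjective hfs)
  rw [Sylow.coe_mapSurjective, ← map_centerPuig f hinj] at hnorm
  haveI hnorm2 : (O ⊔ Z).Normal := by
    have := hnorm.comap f
    rwa [Subgroup.comap_map_eq, QuotientGroup.ker_mk', sup_comm] at this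
  haveI : Group.IsSolvable O := inferInstance
  have hcop : (Nat.card Z).Coprime (Nat.card O) := by
    obtain ⟨k, hk⟩ := IsPGroup.iff_card.1
      (S.2.to_le (show Z ≤ (S : Subgroup G) from inf_le_left.trans (relUpper_le _)))
    rw [hk]
    exact Nat.Coprime.pow_left _ Thompson.card_pPrimeCore_coprime.symm
  rw [eq_top_iff]
  intro g _
  -- Frattini argument for the conjugates of `Z` in `O Z`
  obtain ⟨w, hwO, hw⟩ : ∃ w ∈ O, Z.map (MulAut.conj g).toMonoidHom
      = Z.map (MulAut.conj w).toMonoidHom := by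
    refine exists_conj_eq O Z _ ?_ hcop ?_
    · rintro _ ⟨z, hz, rfl⟩
      exact hnorm2.conj_mem z (Subgroup.mem_sup_right hz) g
    · rw [Subgroup.card_map_of_injective (MulEquiv.injective (MulAut.conj g))]
  have hn : w⁻¹ * g ∈ Subgroup.normalizer (Z : Set G) :=
    mem_normalizer_of_conjBy_eq (by rw [← conjBy_conjBy, hw, conjBy_conjBy, inv_mul_cancel, conjBy_one])
  rw [show g = w * (w⁻¹ * g) by group]
  exact Subgroup.mul_mem_sup hwO hn

end Cfsg.Agent.OddLocal44
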