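import Mathlib.GroupTheory.Sylow
import Mathlib.Algebra.Group.Subgroup.Finite

set_option autoImplicit false

/-!
A counting argument: a group of odd order with abelian centralizers behaving like those of a
subgroup of `SL(2)` in characteristic `p` has a normal abelian Sylow `p`-subgroup.
-/

open scoped commutatorElement

namespace Cfsg.Agent.OddLocal44

variable {G : Type*} [Group G]

/-- The non-identity elements lying in conjugates of `A`, given by a system of coset representatives. -/
noncomputable def conjUnion [Finite G] (A N : Subgroup G) : Finset G :=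
  (Set.finite_range fun z : (G ⧸ N) × {a : A // a ≠ 1} =>
    z.1.out * ((z.2 : A) : G) * z.1.out⁻¹).toFinset

lemma mem_conjUnion [Finite G] {A N : Subgroup G} {x : G} (hx : x ∈ conjUnion A N) :
    ∃ g : G, ∃ a ∈ A, a ≠ 1 ∧ g * a * g⁻¹ = x := by
  obtain ⟨z, rfl⟩ := (Set.Finite.mem_toFinset _).1 hx
  exact ⟨_, _, (z.2 : A).2, fun h => z.2.2 (Subtype.ext h), rfl⟩

lemma card_conjUnion [Finite G] {A N : Subgroup G}
    (hTI : ∀ g : G, ∀ a ∈ A, a ≠ 1 → g * a * g⁻¹ ∈ A → g ∈ N) :
    (conjUnion A N).card = N.index * (Nat.card A - 1) := by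
  classical
  unfold conjUnion
  rw [← Nat.card_eq_card_finite_toFinset, Nat.card_range_of_injective]
  · rw [Nat.card_prod, ← Subgroup.index_eq_card]
    congr 1
    haveI : Fintype A := Fintype.ofFinite _
    rw [Nat.card_eq_fintype_card, Fintype.card_subtype, Finset.filter_ne',
      Finset.card_erase_of_mem (Finset.mem_univ _), Finset.card_univ, Nat.card_eq_fintype_card]
  · rintro ⟨c, ⟨⟨a, ha⟩, ha1⟩⟩ ⟨d, ⟨⟨b, hb⟩, hb1⟩⟩ h
    have h' : c.out * a * c.out⁻¹ = d.out * b * d.out⁻¹ := h
    have h1 : (d.out⁻¹ * c.out) * a * (d.out⁻¹ * c.out)⁻¹ = b := by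
      calc (d.out⁻¹ * c.out) * a * (d.out⁻¹ * c.out)⁻¹
          = d.out⁻¹ * (c.out * a * c.out⁻¹) * d.out := by simp only [mul_inv_rev, inv_inv, mul_assoc]
        _ = b := by rw [h']; group
    have hk : d.out⁻¹ * c.out ∈ N := hTI _ a ha (fun h => ha1 (Subtype.ext h)) (h1.symm ▸ hb)
    have hcd : d = c := by
      rw [← QuotientGroup.out_eq' d, ← QuotientGroup.out_eq' c]
      exact QuotientGroup.eq.2 hk
    subst hcd
    have : a = b := by simpa using h'
    subst this
    rfl

/-- The counting theorem. Its hypotheses hold for subgroups of odd order of `SL(2)` in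
characteristic `p`: centralizers are abelian, centralizers of `p`-elements are `p`-groups,
centralizers of the other elements are self-normalizing, and conjugation actions on the
centralizer of a `p`-element commute. -/
theorem sylow_normal_of_centralizers [Finite G] (p : ℕ) [hp : Fact p.Prime] (hp2 : p ≠ 2)
    (hodd : Odd (Nat.card G))
    (hab : ∀ x : G, x ≠ 1 → IsMulCommutative (Subgroup.centralizer ({x} : Set G)))
    (hpc : ∀ x : G, x ≠ 1 → IsPGroup p (Subgroup.zpowers x) →
      IsPGroup p (Subgroup.centralizer ({x} : Set G)))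
    (hsn : ∀ y : G, ¬ IsPGroup p (Subgroup.zpowers y) → ∀ g : G,
      g * y * g⁻¹ ∈ Subgroup.centralizer ({y} : Set G) → g ∈ Subgroup.centralizer ({y} : Set G))
    (hN : ∀ x : G, x ≠ 1 → IsPGroup p (Subgroup.zpowers x) → ∀ g h : G,
      g * x * g⁻¹ ∈ Subgroup.centralizer ({x} : Set G) →
      h * x * h⁻¹ ∈ Subgroup.centralizer ({x} : Set G) →
      ⁅g, h⁆ ∈ Subgroup.centralizer ({x} : Set G))
    (P : Sylow p G) : (P : Subgroup G).Normal ∧ IsMulCommutative (P : Subgroup G) := by
  classical
  haveI : Fintype G := Fintype.ofFinite G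
  have hself : ∀ x : G, x ∈ Subgroup.centralizer ({x} : Set G) := fun x =>
    Subgroup.mem_centralizer_singleton_iff.2 rfl
  rcases eq_or_ne (P : Subgroup G) ⊥ with hP | hP
  · refine ⟨hP ▸ inferInstance, ?_⟩
    rw [hP]
    infer_instance
  haveI : Nontrivial (P : Subgroup G) := (Subgroup.nontrivial_iff_ne_bot _).2 hP
  haveI := P.2.center_nontrivial
  obtain ⟨⟨z₀, hz₀⟩, hz1⟩ := exists_ne (1 : Subgroup.center (P : Subgroup G))
  set z : G := (z₀ : G) with hz
  have hzne : z ≠ 1 := fun h => hz1 (Subtype.ext (Subtype.ext h))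
  have hzp : IsPGroup p (Subgroup.zpowers z) :=
    P.2.to_le ((Subgroup.zpowers_le).2 z₀.2)
  have hPz : (P : Subgroup G) ≤ Subgroup.centralizer ({z} : Set G) := fun u hu => by
    rw [Subgroup.mem_centralizer_singleton_iff]
    exact congrArg Subtype.val (Subgroup.mem_center_iff.1 hz₀ ⟨u, hu⟩)
  have hCz : Subgroup.centralizer ({z} : Set G) = P :=
    P.3 (hpc z hzne hzp) hPz
  have hPab : IsMulCommutative (P : Subgroup G) := hCz ▸ hab z hzne
  refine ⟨?_, hPab⟩
  have hPC : ∀ x ∈ (P : Subgroup G), x ≠ 1 → Subgroup.centralizer ({x} : Set G) = P := by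
    intro x hx hx1
    refine P.3 (hpc x hx1 (P.2.to_le (Subgroup.zpowers_le.2 hx))) fun u hu => ?_
    rw [Subgroup.mem_centralizer_singleton_iff]
    exact congrArg Subtype.val (hPab.is_comm.comm (⟨u, hu⟩ : (P : Subgroup G)) ⟨x, hx⟩)
  -- the normalizer of `P`
  set N := Subgroup.normalizer ((P : Subgroup G) : Set G) with hNdef
  have hPN : (P : Subgroup G) ≤ N := Subgroup.le_normalizer
  have hTIP : ∀ g : G, ∀ a ∈ (P : Subgroup G), a ≠ 1 → g * a * g⁻¹ ∈ (P : Subgroup G) → g ∈ N := by
    intro g a ha ha1 hga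
    have hga1 : g * a * g⁻¹ ≠ 1 := by simpa using ha1
    rw [hNdef, Subgroup.mem_normalizer_iff]
    intro u
    constructor
    · intro hu
      rw [← hPC _ hga hga1, Subgroup.mem_centralizer_singleton_iff]
      rw [← hPC a ha ha1, Subgroup.mem_centralizer_singleton_iff] at hu
      calc g * u * g⁻¹ * (g * a * g⁻¹) = g * (u * a) * g⁻¹ := by group
        _ = g * (a * u) * g⁻¹ := by rw [hu]
        _ = g * a * g⁻¹ * (g * u * g⁻¹) := by group
    · intro hu
      rw [← hPC a ha ha1, Subgroup.mem_centralizer_singleton_iff]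
      rw [← hPC _ hga hga1, Subgroup.mem_centralizer_singleton_iff] at hu
      calc u * a = g⁻¹ * (g * u * g⁻¹ * (g * a * g⁻¹)) * g := by group
        _ = g⁻¹ * (g * a * g⁻¹ * (g * u * g⁻¹)) * g := by rw [hu]
        _ = a * u := by group
  by_contra hnn
  have hNne : N ≠ ⊤ := fun h => hnn (Subgroup.normalizer_eq_top_iff.1 h)
  -- there is an element which is not a `p`-element
  obtain ⟨y₀, hy₀⟩ : ∃ y : G, ¬ IsPGroup p (Subgroup.zpowers y) := by
    by_contra! hall
    have hG : IsPGroup p G := fun g => by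
      obtain ⟨k, hk⟩ := hall g ⟨g, Subgroup.mem_zpowers g⟩
      exact ⟨k, congrArg Subtype.val hk⟩
    have : (P : Subgroup G) = ⊤ :=
      (P.3 (hG.to_subgroup ⊤) le_top).symm
    exact hnn (this ▸ inferInstance)
  -- conjugates of centralizers of the non-`p`-elements
  have hTIA : ∀ y : G, ¬ IsPGroup p (Subgroup.zpowers y) → ∀ g : G,
      ∀ a ∈ Subgroup.centralizer ({y} : Set G), a ≠ 1 →
      g * a * g⁻¹ ∈ Subgroup.centralizer ({y} : Set G) → g ∈ Subgroup.centralizer ({y} : Set G) := by
    intro y hy g a ha ha1 hga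
    have hy1 : y ≠ 1 := by
      rintro rfl
      exact hy (by rw [Subgroup.zpowers_one_eq_bot]; exact IsPGroup.of_bot)
    have hanp : ¬ IsPGroup p (Subgroup.zpowers a) := by
      intro hap
      refine hy ((hpc a ha1 hap).to_le (Subgroup.zpowers_le.2 ?_))
      rw [Subgroup.mem_centralizer_singleton_iff] at ha ⊢
      exact ha.symm
    have heq : ∀ b, b ∈ Subgroup.centralizer ({y} : Set G) → b ∈ Subgroup.centralizer ({a} : Set G) := by
      intro b hb
      rw [Subgroup.mem_centralizer_singleton_iff]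
      exact congrArg Subtype.val ((hab y hy1).is_comm.comm
        (⟨b, hb⟩ : Subgroup.centralizer ({y} : Set G)) ⟨a, ha⟩)
    have hgC := hsn a hanp g (heq _ hga)
    rw [Subgroup.mem_centralizer_singleton_iff]
    exact congrArg Subtype.val ((hab a ha1).is_comm.comm
      (⟨g, hgC⟩ : Subgroup.centralizer ({a} : Set G)) ⟨y, heq y (hself y)⟩)
  have hcard3 : ∀ y : G, ¬ IsPGroup p (Subgroup.zpowers y) →
      3 ≤ Nat.card (Subgroup.centralizer ({y} : Set G)) := by
    intro y hy
    have hy1 : y ≠ 1 := by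
      rintro rfl
      exact hy (by rw [Subgroup.zpowers_one_eq_bot]; exact IsPGroup.of_bot)
    haveI : Nontrivial (Subgroup.centralizer ({y} : Set G)) :=
      ⟨⟨y, hself y⟩, 1, fun h => hy1 (congrArg Subtype.val h)⟩
    have h1 := Finite.one_lt_card (α := Subgroup.centralizer ({y} : Set G))
    obtain ⟨c, hc⟩ := hodd.of_dvd_nat (Subgroup.card_subgroup_dvd_card (Subgroup.centralizer ({y} : Set G)))
    omega
  set U := conjUnion (P : Subgroup G) N with hU
  have hUcard : U.card = N.index * (Nat.card (P : Subgroup G) - 1) := card_conjUnion hTIP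
  let V : G → Finset G := fun y =>
    conjUnion (Subgroup.centralizer ({y} : Set G)) (Subgroup.centralizer ({y} : Set G))
  have hVcard : ∀ y : G, ¬ IsPGroup p (Subgroup.zpowers y) → (V y).card =
      (Subgroup.centralizer ({y} : Set G)).index * (Nat.card (Subgroup.centralizer ({y} : Set G)) - 1) :=
    fun y hy => card_conjUnion (hTIA y hy)
  have hsub1 : ∀ y, V y ⊆ Finset.univ.erase 1 := fun y x hx => by
    obtain ⟨g, a, -, ha1, rfl⟩ := mem_conjUnion hx
    simpa using ha1
  have hsubU : U ⊆ Finset.univ.erase 1 := fun x hx => by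
    obtain ⟨g, a, -, ha1, rfl⟩ := mem_conjUnion hx
    simpa using ha1
  have hdisj : ∀ y, ¬ IsPGroup p (Subgroup.zpowers y) → Disjoint U (V y) := by
    intro y hy
    rw [Finset.disjoint_left]
    intro x hx hx'
    obtain ⟨g, a, ha, ha1, rfl⟩ := mem_conjUnion hx
    obtain ⟨g', b, hb, hb1, hbx⟩ := mem_conjUnion hx'
    obtain ⟨k, hk⟩ := P.2 ⟨a, ha⟩
    have hbp : b ^ p ^ k = 1 := by
      have h2 : (g' * b * g'⁻¹) ^ p ^ k = 1 := by
        rw [hbx, conj_pow, show a ^ p ^ k = 1 from congrArg Subtype.val hk]; simp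
      rw [conj_pow] at h2
      simpa using h2
    have hbP : IsPGroup p (Subgroup.zpowers b) := by
      rintro ⟨u, n, rfl⟩
      exact ⟨k, Subtype.ext (by
        show (b ^ n) ^ p ^ k = 1
        rw [← zpow_natCast, ← zpow_mul, mul_comm, zpow_mul, zpow_natCast, hbp, one_zpow])⟩
    refine hy ((hpc b hb1 hbP).to_le (Subgroup.zpowers_le.2 ?_))
    rw [Subgroup.mem_centralizer_singleton_iff] at hb ⊢
    exact hb.symm
  set g₀ := Nat.card G with hg₀
  set q := Nat.card (P : Subgroup G) with hq
  set m := N.index with hm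
  have hq3 : 3 ≤ q := by
    have h1 := Finite.one_lt_card (α := (P : Subgroup G))
    obtain ⟨c, hc⟩ := hodd.of_dvd_nat (Subgroup.card_subgroup_dvd_card (P : Subgroup G))
    omega
  have hm3 : 3 ≤ m := by
    have h1 : m ≠ 1 := fun h => hNne (Subgroup.index_eq_one.1 h)
    have h2 : m ≠ 0 := Subgroup.index_ne_zero_of_finite
    obtain ⟨c, hc⟩ := hodd.of_dvd_nat N.index_dvd_card
    omega
  have htot : (Finset.univ.erase (1 : G)).card = g₀ - 1 := by
    rw [Finset.card_erase_of_mem (Finset.mem_univ _), Finset.card_univ, hg₀, Nat.card_eq_fintype_card]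
  have hmg : m * Nat.card N = g₀ := N.index_mul_card
  by_cases hk1 : ∀ u ∈ N, u ∈ (P : Subgroup G)
  · -- `N = P`
    have hNP : N = P := le_antisymm hk1 hPN
    set A := Subgroup.centralizer ({y₀} : Set G)
    have hle : U.card + (V y₀).card ≤ g₀ - 1 := by
      rw [← htot, ← Finset.card_union_of_disjoint (hdisj y₀ hy₀)]
      exact Finset.card_le_card (Finset.union_subset hsubU (hsub1 y₀))
    have hVy : (V y₀).card = A.index * (Nat.card A - 1) := hVcard y₀ hy₀
    rw [hUcard, hVy] at hle
    have ha3 : 3 ≤ Nat.card A := hcard3 y₀ hy₀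
    have hA : A.index * Nat.card A = g₀ := A.index_mul_card
    rw [hNP, ← hq] at hmg
    have hg1 : 1 ≤ g₀ := Nat.card_pos
    obtain ⟨q', hq'⟩ : ∃ q', q = q' + 1 := ⟨q - 1, by omega⟩
    obtain ⟨a', ha'⟩ : ∃ a', Nat.card A = a' + 1 := ⟨Nat.card A - 1, by omega⟩
    rw [ha', Nat.add_sub_cancel] at hle
    rw [hq', Nat.add_sub_cancel] at hle
    rw [ha'] at hA ha3
    rw [hq'] at hmg hq3
    have e1 : m * q' + A.index * a' + 1 ≤ g₀ := by omega
    nlinarith
  push_neg at hk1
  obtain ⟨y, hyN, hyP⟩ := hk1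
  have hNmem : ∀ n ∈ N, ∀ u ∈ (P : Subgroup G), n * u * n⁻¹ ∈ (P : Subgroup G) := fun n hn u hu =>
    (Subgroup.mem_normalizer_iff.1 hn u).1 hu
  have hy : ¬ IsPGroup p (Subgroup.zpowers y) := by
    intro h
    refine hyP ?_
    have hle : Subgroup.zpowers y ≤ N := Subgroup.zpowers_le.2 hyN
    have h2 := P.3 (IsPGroup.to_sup_of_normal_right' h P.2 hle) le_sup_right
    rw [← h2]
    exact Subgroup.mem_sup_left (Subgroup.mem_zpowers y)
  have hy1 : y ≠ 1 := fun h => hyP (h ▸ one_mem _)
  set A := Subgroup.centralizer ({y} : Set G) with hA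
  -- `N = P K` with `K = A ∩ N`
  set K := A ⊓ N with hK
  have hKP : ∀ x ∈ K, x ∈ (P : Subgroup G) → x = 1 := by
    intro x hxK hxP
    by_contra hx1
    refine hyP ?_
    rw [← hPC x hxP hx1, Subgroup.mem_centralizer_singleton_iff]
    exact (Subgroup.mem_centralizer_singleton_iff.1 hxK.1).symm
  have hNcard : Nat.card N = q * Nat.card K := by
    have hbij : Function.Bijective
        (fun z : ↥(P : Subgroup G) × K => (⟨(z.1 : G) * z.2, N.mul_mem (hPN z.1.2) z.2.2.2⟩ : N)) := by
      constructor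
      · rintro ⟨u, k⟩ ⟨u', k'⟩ h
        have h' : (u : G) * k = u' * k' := congrArg Subtype.val h
        have h2 : (u' : G)⁻¹ * u = k' * (k : G)⁻¹ := by
          rw [eq_mul_inv_iff_mul_eq, mul_assoc, inv_mul_eq_iff_eq_mul]; exact h'
        have h3 : (u' : G)⁻¹ * u = 1 :=
          hKP _ (h2 ▸ K.mul_mem k'.2 (K.inv_mem k.2))
            ((P : Subgroup G).mul_mem ((P : Subgroup G).inv_mem u'.2) u.2)
        have hu : u = u' := Subtype.ext (inv_mul_eq_one.1 h3).symm
        subst hu
        exact Prod.ext rfl (Subtype.ext (mul_left_cancel h'))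
      · rintro ⟨n, hn⟩
        -- the coset `P y` is the set of `P`-conjugates of `y`
        have hsurj : ∀ u ∈ (P : Subgroup G), ∃ v ∈ (P : Subgroup G), v * y * v⁻¹ = u * y := by
          intro u hu
          let f : ↥(P : Subgroup G) → ↥(P : Subgroup G) := fun v =>
            ⟨(v : G) * (y * (v : G)⁻¹ * y⁻¹),
              (P : Subgroup G).mul_mem v.2 (hNmem y hyN _ ((P : Subgroup G).inv_mem v.2))⟩
          have hf : Function.Injective f := by
            intro v w hvw
            have h' : (v : G) * (y * (v : G)⁻¹ * y⁻¹) = w * (y * (w : G)⁻¹ * y⁻¹) :=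
              congrArg Subtype.val hvw
            have h2 : (w : G)⁻¹ * v * y = y * ((w : G)⁻¹ * v) := by
              calc (w : G)⁻¹ * v * y = (w : G)⁻¹ * ((v : G) * (y * (v : G)⁻¹ * y⁻¹)) * y * v := by group
                _ = _ := by rw [h']; group
            have h3 : (w : G)⁻¹ * v = 1 :=
              hKP _ ⟨Subgroup.mem_centralizer_singleton_iff.2 h2,
                N.mul_mem (N.inv_mem (hPN w.2)) (hPN v.2)⟩
                ((P : Subgroup G).mul_mem ((P : Subgroup G).inv_mem w.2) v.2)
            exact Subtype.ext (inv_mul_eq_one.1 h3).symm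
          obtain ⟨v, hv⟩ := (Finite.injective_iff_surjective.1 hf) ⟨u, hu⟩
          refine ⟨v, v.2, ?_⟩
          rw [← show (v : G) * (y * (v : G)⁻¹ * y⁻¹) = u from congrArg Subtype.val hv]
          group
        have hcomm : ⁅n, y⁆ ∈ (P : Subgroup G) := by
          rw [← hPC z z₀.2 hzne]
          refine hN z hzne hzp n y ?_ ?_
          · rw [hCz]; exact hNmem n hn z z₀.2
          · rw [hCz]; exact hNmem y hyN z z₀.2
        obtain ⟨v, hv, hvy⟩ := hsurj _ hcomm
        rw [commutatorElement_def] at hvy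
        have hvA : v⁻¹ * n ∈ A := by
          rw [hA, Subgroup.mem_centralizer_singleton_iff]
          calc v⁻¹ * n * y = v⁻¹ * (n * y * n⁻¹ * y⁻¹ * y) * n := by group
            _ = v⁻¹ * (v * y * v⁻¹) * n := by rw [hvy]
            _ = _ := by group
        exact ⟨(⟨v, hv⟩, ⟨v⁻¹ * n, hvA, N.mul_mem (N.inv_mem (hPN hv)) hn⟩),
          Subtype.ext (mul_inv_cancel_left v n)⟩
    rw [← Nat.card_eq_of_bijective _ hbij, Nat.card_prod]
  obtain ⟨j, hj⟩ : Nat.card K ∣ Nat.card A := Subgroup.card_dvd_of_le inf_le_left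
  have hkpos : 0 < Nat.card K := Nat.card_pos
  have ha3 : 3 ≤ Nat.card A := hcard3 y hy
  have hVy : (V y).card = A.index * (Nat.card A - 1) := hVcard y hy
  have hiA : A.index * Nat.card A = g₀ := A.index_mul_card
  have hle : U.card + (V y).card ≤ g₀ - 1 := by
    rw [← htot, ← Finset.card_union_of_disjoint (hdisj y hy)]
    exact Finset.card_le_card (Finset.union_subset hsubU (hsub1 y))
  -- no further class of non-`p`-elements
  have hnomore : U ∪ V y = Finset.univ.erase 1 := by
    refine Finset.Subset.antisymm (Finset.union_subset hsubU (hsub1 y)) fun x hx => ?_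
    by_contra hxn
    have hxnp : ¬ IsPGroup p (Subgroup.zpowers x) := by
      intro hxp
      obtain ⟨R, hR⟩ := hxp.exists_le_sylow
      obtain ⟨g, hg⟩ := MulAction.exists_smul_eq G R P
      apply hxn
      refine Finset.mem_union_left _ ?_
      -- `U` contains every non-identity element of every conjugate of `P`
      have hxg : g * x * g⁻¹ ∈ (P : Subgroup G) := by
        rw [← hg, Sylow.coe_subgroup_smul]
        exact ⟨x, hR (Subgroup.mem_zpowers x), rfl⟩
      set c : G ⧸ N := QuotientGroup.mk g⁻¹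
      have hcN : c.out⁻¹ * g⁻¹ ∈ N := QuotientGroup.eq.1 (QuotientGroup.out_eq' c)
      have hb : c.out⁻¹ * x * c.out ∈ (P : Subgroup G) := by
        have := hNmem _ hcN _ hxg
        convert this using 1
        group
      have hb1 : (⟨c.out⁻¹ * x * c.out, hb⟩ : (P : Subgroup G)) ≠ 1 := by
        intro h
        have h' : c.out⁻¹ * x * c.out = 1 := congrArg Subtype.val h
        apply (Finset.mem_erase.1 hx).1
        calc x = c.out * (c.out⁻¹ * x * c.out) * c.out⁻¹ := by group
          _ = 1 := by rw [h']; group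
      refine (Set.Finite.mem_toFinset _).2 ⟨(c, ⟨_, hb1⟩), ?_⟩
      show c.out * (c.out⁻¹ * x * c.out) * c.out⁻¹ = x
      group
    have hVV : Disjoint (V y) (V x) := by
      rw [Finset.disjoint_left]
      intro u hu hu'
      obtain ⟨g, a, ha, ha1, rfl⟩ := mem_conjUnion hu
      obtain ⟨g', b, hb, hb1, hbx⟩ := mem_conjUnion hu'
      -- so a conjugate of `x` centralizes `a`
      apply hxn
      refine Finset.mem_union_right _ ?_
      set k := g⁻¹ * g' with hk
      have hab' : k * b * k⁻¹ = a := by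
        rw [hk]
        calc g⁻¹ * g' * b * (g⁻¹ * g')⁻¹ = g⁻¹ * (g' * b * g'⁻¹) * g := by group
          _ = a := by rw [hbx]; group
      have hxA : k * x * k⁻¹ ∈ A := by
        have h1 : k * x * k⁻¹ ∈ Subgroup.centralizer ({a} : Set G) := by
          rw [Subgroup.mem_centralizer_singleton_iff, ← hab']
          rw [hA] at *
          calc k * x * k⁻¹ * (k * b * k⁻¹) = k * (x * b) * k⁻¹ := by group
            _ = k * (b * x) * k⁻¹ := by rw [Subgroup.mem_centralizer_singleton_iff.1 hb]
            _ = _ := by group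
        rw [hA, Subgroup.mem_centralizer_singleton_iff]
        exact congrArg Subtype.val ((hab a ha1).is_comm.comm
          (⟨_, h1⟩ : Subgroup.centralizer ({a} : Set G))
          ⟨y, Subgroup.mem_centralizer_singleton_iff.2 (Subgroup.mem_centralizer_singleton_iff.1 ha).symm⟩)
      set c : G ⧸ A := QuotientGroup.mk k⁻¹
      have hcA : c.out⁻¹ * k⁻¹ ∈ A := QuotientGroup.eq.1 (QuotientGroup.out_eq' c)
      have hb' : c.out⁻¹ * x * c.out ∈ A := by
        have := A.mul_mem (A.mul_mem hcA hxA) (A.inv_mem hcA)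
        convert this using 1
        group
      have hb1' : (⟨c.out⁻¹ * x * c.out, hb'⟩ : A) ≠ 1 := by
        intro h
        have h' : c.out⁻¹ * x * c.out = 1 := congrArg Subtype.val h
        apply (Finset.mem_erase.1 hx).1
        calc x = c.out * (c.out⁻¹ * x * c.out) * c.out⁻¹ := by group
          _ = 1 := by rw [h']; group
      refine (Set.Finite.mem_toFinset _).2 ⟨(c, ⟨_, hb1'⟩), ?_⟩
      show c.out * (c.out⁻¹ * x * c.out) * c.out⁻¹ = x
      group
    have h2 : (V y).card + (V x).card ≤ g₀ - 1 := by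
      rw [← htot, ← Finset.card_union_of_disjoint hVV]
      exact Finset.card_le_card (Finset.union_subset (hsub1 y) (hsub1 x))
    set B := Subgroup.centralizer ({x} : Set G)
    have hVx : (V x).card = B.index * (Nat.card B - 1) := hVcard x hxnp
    rw [hVy, hVx] at h2
    have hb3 : 3 ≤ Nat.card B := hcard3 x hxnp
    have hiB : B.index * Nat.card B = g₀ := B.index_mul_card
    have hg1 : 1 ≤ g₀ := Nat.card_pos
    obtain ⟨a', ha'⟩ : ∃ a', Nat.card A = a' + 1 := ⟨Nat.card A - 1, by omega⟩
    obtain ⟨b', hb'⟩ : ∃ b', Nat.card B = b' + 1 := ⟨Nat.card B - 1, by omega⟩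
    rw [ha', Nat.add_sub_cancel, hb', Nat.add_sub_cancel] at h2
    rw [ha'] at hiA ha3
    rw [hb'] at hiB hb3
    have e1 : A.index * a' + B.index * b' + 1 ≤ g₀ := by omega
    nlinarith
  have heq : U.card + (V y).card = g₀ - 1 := by
    rw [← htot, ← hnomore, Finset.card_union_of_disjoint (hdisj y hy)]
  rw [hUcard, hVy] at heq
  have hg1 : 1 ≤ g₀ := Nat.card_pos
  obtain ⟨q', hq'⟩ : ∃ q', q = q' + 1 := ⟨q - 1, by omega⟩
  obtain ⟨a', ha'⟩ : ∃ a', Nat.card A = a' + 1 := ⟨Nat.card A - 1, by omega⟩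
  rw [hq', Nat.add_sub_cancel, ha', Nat.add_sub_cancel] at heq
  have e1 : m * q' + A.index * a' + 1 = g₀ := by omega
  have e2 : A.index * a' + A.index = g₀ := by rw [← hiA, ha']; ring
  have e3 : A.index = m * q' + 1 := by omega
  -- `j (m q' + 1) = m q`
  have e4 : j * (m * q' + 1) = m * q := by
    apply Nat.eq_of_mul_eq_mul_right hkpos
    calc j * (m * q' + 1) * Nat.card K = A.index * (Nat.card K * j) := by rw [e3]; ring
      _ = g₀ := by rw [← hj, hiA]
      _ = _ := by rw [← hmg, hNcard]; ring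
  rw [hq'] at e4 hq3
  rcases j with _ | _ | j
  · simp at e4; omega
  · simp only [zero_add, one_mul] at e4
    nlinarith
  · nlinarith

end Cfsg.Agent.OddLocal44
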