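import Mathlib.LinearAlgebra.Matrix.GeneralLinearGroup.Defs
import Mathlib.LinearAlgebra.Matrix.Charpoly.Coeff
import Mathlib.Algebra.CharP.Lemmas
import Mathlib.LinearAlgebra.Matrix.CharP
import Cfsg.Agent.OddLocal44.CACount

set_option autoImplicit false

/-!
Finite subgroups of odd order of `GL(2, F)` in characteristic `p`: the `p`-elements commute, and if
no line is invariant then `p` does not divide the order.
-/

open scoped commutatorElement Matrix

namespace Cfsg.Agent.OddLocal44

variable {F : Type*} [Field F]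

/-- `(tr g)² - 4 det g`, written in the entries. -/
def disc2 (g : Matrix (Fin 2) (Fin 2) F) : F := (g 0 0 - g 1 1) ^ 2 + 4 * g 0 1 * g 1 0

/-- Two commuting matrices: the traceless parts are proportional. -/
lemma commute2_entries {g h : Matrix (Fin 2) (Fin 2) F} (hc : g * h = h * g) :
    g 0 1 * h 1 0 = h 0 1 * g 1 0 ∧ h 0 1 * (g 0 0 - g 1 1) = g 0 1 * (h 0 0 - h 1 1) ∧
      h 1 0 * (g 0 0 - g 1 1) = g 1 0 * (h 0 0 - h 1 1) := by
  have h00 := congrFun (congrFun hc 0) 0
  have h01 := congrFun (congrFun hc 0) 1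
  have h10 := congrFun (congrFun hc 1) 0
  simp [Matrix.mul_apply, Fin.sum_univ_two] at h00 h01 h10
  exact ⟨by linear_combination h00, by linear_combination h01, by linear_combination -h10⟩

/-- If `h` commutes with the non-scalar `g`, its traceless part is a multiple of that of `g`. -/
lemma exists_multiple {g h : Matrix (Fin 2) (Fin 2) F} (hc : g * h = h * g)
    (hg : g 0 1 ≠ 0 ∨ g 1 0 ≠ 0 ∨ g 0 0 - g 1 1 ≠ 0) :
    ∃ c : F, h 0 1 = c * g 0 1 ∧ h 1 0 = c * g 1 0 ∧ h 0 0 - h 1 1 = c * (g 0 0 - g 1 1) := by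
  obtain ⟨e1, e2, e3⟩ := commute2_entries hc
  rcases hg with h1 | h1 | h1
  · refine ⟨h 0 1 / g 0 1, ?_, ?_, ?_⟩ <;> field_simp
    · linear_combination e1
    · linear_combination -e2
  · refine ⟨h 1 0 / g 1 0, ?_, ?_, ?_⟩ <;> field_simp
    · linear_combination -e1
    · linear_combination -e3
  · refine ⟨(h 0 0 - h 1 1) / (g 0 0 - g 1 1), ?_, ?_, ?_⟩ <;> field_simp
    · linear_combination e2
    · linear_combination e3

lemma eq_smul_one_of_entries {g : Matrix (Fin 2) (Fin 2) F} (h01 : g 0 1 = 0) (h10 : g 1 0 = 0)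
    (hd : g 0 0 - g 1 1 = 0) : g = (g 0 0) • (1 : Matrix (Fin 2) (Fin 2) F) := by
  ext i j
  fin_cases i <;> fin_cases j <;> simp [h01, h10]
  linear_combination -hd

lemma mul_comm_of_multiple {g h k : Matrix (Fin 2) (Fin 2) F} {c d : F}
    (hh : h 0 1 = c * g 0 1 ∧ h 1 0 = c * g 1 0 ∧ h 0 0 - h 1 1 = c * (g 0 0 - g 1 1))
    (hk : k 0 1 = d * g 0 1 ∧ k 1 0 = d * g 1 0 ∧ k 0 0 - k 1 1 = d * (g 0 0 - g 1 1)) :
    h * k = k * h := by
  obtain ⟨a1, a2, a3⟩ := hh
  obtain ⟨b1, b2, b3⟩ := hk
  have a4 : h 0 0 = h 1 1 + c * (g 0 0 - g 1 1) := by linear_combination a3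
  have b4 : k 0 0 = k 1 1 + d * (g 0 0 - g 1 1) := by linear_combination b3
  ext i j
  fin_cases i <;> fin_cases j <;>
    simp [Matrix.mul_apply, Fin.sum_univ_two, a1, a2, b1, b2, a4, b4] <;> ring

lemma adjugate2 (g : Matrix (Fin 2) (Fin 2) F) :
    g * ((g 0 0 + g 1 1) • (1 : Matrix (Fin 2) (Fin 2) F) - g)
      = (g 0 0 * g 1 1 - g 0 1 * g 1 0) • (1 : Matrix (Fin 2) (Fin 2) F) := by
  ext i j
  fin_cases i <;> fin_cases j <;> simp [Matrix.mul_apply, Fin.sum_univ_two] <;> ring

lemma trace_conj2 (g : GL (Fin 2) F) (x : GL (Fin 2) F) :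
    ((g * x * g⁻¹ : GL (Fin 2) F) : Matrix (Fin 2) (Fin 2) F).trace
      = (x : Matrix (Fin 2) (Fin 2) F).trace := by
  rw [Units.val_mul, Matrix.trace_mul_comm, ← Units.val_mul, inv_mul_cancel_left]

variable (p : ℕ) [Fact p.Prime] [CharP F p]

omit [Fact p.Prime] in
lemma two_ne_zero_of_char (hp : p ≠ 2) : (2 : F) ≠ 0 := by
  intro h
  have h' : ((2 : ℕ) : F) = 0 := by exact_mod_cast h
  rw [CharP.cast_eq_zero_iff F p] at h'
  rcases (Nat.dvd_prime Nat.prime_two).1 h' with h1 | h1
  · exact CharP.char_ne_one F p h1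
  · exact hp h1

lemma pow_p_eq_one_of_sq_eq_zero {n : Type*} [Fintype n] [DecidableEq n] [Nonempty n]
    {M : Matrix n n F} (h : (M - 1) * (M - 1) = 0) : M ^ p = 1 := by
  have h1 : (M - 1) ^ p = 0 := by
    obtain ⟨k, hk⟩ := Nat.exists_eq_add_of_le (Fact.out : p.Prime).two_le
    rw [hk, pow_add, pow_two, h, zero_mul]
  have h2 := sub_pow_char_pow_of_commute (p := p) 1 (Commute.one_right M)
  rw [pow_one, h1, one_pow, eq_comm, sub_eq_zero] at h2
  exact h2

lemma trace_eq_card_of_pow {n : Type*} [Fintype n] [DecidableEq n] [Nonempty n]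
    {M : Matrix n n F} {k : ℕ} (h : M ^ p ^ k = 1) : M.trace = Fintype.card n := by
  have h1 : (M - 1) ^ p ^ k = 0 := by
    rw [sub_pow_char_pow_of_commute _ _ (Commute.one_right M), h, one_pow, sub_self]
  have h2 := (Matrix.isNilpotent_trace_of_isNilpotent ⟨_, h1⟩).eq_zero
  rwa [Matrix.trace_sub, Matrix.trace_one, sub_eq_zero] at h2

section Special

variable {p}

/-- The counting theorem applies to subgroups of odd order of `SL(2, F)`. -/
lemma sylow_normal_of_det_one (hp : p ≠ 2) (G : Subgroup (GL (Fin 2) F)) [Finite G]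
    (hdet : ∀ g ∈ G, (g : Matrix (Fin 2) (Fin 2) F).det = 1) (hodd : Odd (Nat.card G))
    (P : Sylow p G) : (P : Subgroup G).Normal ∧ IsMulCommutative (P : Subgroup G) := by
  have h2 : (2 : F) ≠ 0 := two_ne_zero_of_char p hp
  let M : G → Matrix (Fin 2) (Fin 2) F := fun g => ((g : GL (Fin 2) F) : Matrix (Fin 2) (Fin 2) F)
  have hMinj : Function.Injective M := fun a b h => Subtype.ext (Units.ext h)
  have hMmul : ∀ a b : G, M (a * b) = M a * M b := fun a b => rfl
  have hM1 : M 1 = 1 := rfl
  have hMpow : ∀ (a : G) (k : ℕ), M (a ^ k) = M a ^ k := fun a k => by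
    simp [M]
  have hdet' : ∀ g : G, M g 0 0 * M g 1 1 - M g 0 1 * M g 1 0 = 1 := fun g => by
    rw [← Matrix.det_fin_two]; exact hdet _ g.2
  have hcomm : ∀ a b : G, a * b = b * a ↔ M a * M b = M b * M a := fun a b =>
    ⟨fun h => by rw [← hMmul, ← hMmul, h], fun h => hMinj (by rw [hMmul, hMmul, h])⟩
  have hneg : ∀ g : G, M g ≠ -1 := by
    intro g h
    have h1 : M (g ^ Nat.card G) = 1 := by rw [pow_card_eq_one', hM1]
    rw [hMpow, h, hodd.neg_one_pow] at h1
    have := congrFun (congrFun h1 0) 0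
    simp at this
    exact h2 (by linear_combination -this)
  have hns : ∀ g : G, g ≠ 1 → M g 0 1 ≠ 0 ∨ M g 1 0 ≠ 0 ∨ M g 0 0 - M g 1 1 ≠ 0 := by
    intro g hg
    by_contra! h
    obtain ⟨h01, h10, hd⟩ := h
    have hsc := eq_smul_one_of_entries h01 h10 hd
    have hsq : (M g 0 0 - 1) * (M g 0 0 + 1) = 0 := by
      have := hdet' g
      rw [h01, h10, ← sub_eq_zero.1 hd] at this
      linear_combination this
    rcases mul_eq_zero.1 hsq with h' | h'
    · exact hg (hMinj (by rw [hsc, sub_eq_zero.1 h', one_smul, hM1]))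
    · exact hneg g (by rw [hsc, eq_neg_of_add_eq_zero_left h', neg_smul, one_smul])
  -- trace two means `p`-element
  have hsqz : ∀ g : G, M g 0 0 + M g 1 1 = 2 → (M g - 1) * (M g - 1) = 0 := by
    intro g hg
    have hd := hdet' g
    ext i j
    fin_cases i <;> fin_cases j <;> simp [Matrix.mul_apply, Fin.sum_univ_two]
    · linear_combination (M g 0 0) * hg - hd
    · linear_combination (M g 0 1) * hg
    · linear_combination (M g 1 0) * hg
    · linear_combination (M g 1 1) * hg - hd
  have htr : ∀ g : G, IsPGroup p (Subgroup.zpowers g) ↔ M g 0 0 + M g 1 1 = 2 := by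
    intro g
    constructor
    · intro h
      obtain ⟨k, hk⟩ := h ⟨g, Subgroup.mem_zpowers g⟩
      have hk' : M g ^ p ^ k = 1 := by
        rw [← hMpow, show g ^ p ^ k = 1 from congrArg Subtype.val hk, hM1]
      have := trace_eq_card_of_pow p hk'
      rw [Matrix.trace_fin_two] at this
      simpa using this
    · intro h
      have h1 : g ^ p = 1 :=
        hMinj (by rw [hMpow, pow_p_eq_one_of_sq_eq_zero p (hsqz g h), hM1])
      rintro ⟨u, n, rfl⟩
      refine ⟨1, Subtype.ext ?_⟩
      show (g ^ n) ^ p ^ 1 = 1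
      rw [pow_one, ← zpow_natCast, ← zpow_mul, mul_comm, zpow_mul, zpow_natCast, h1, one_zpow]
  have hcs : ∀ x u : G, u ∈ Subgroup.centralizer ({x} : Set G) → M x * M u = M u * M x := fun x u hu =>
    ((hcomm u x).1 (Subgroup.mem_centralizer_singleton_iff.1 hu)).symm
  refine sylow_normal_of_centralizers p hp hodd ?_ ?_ ?_ ?_ P
  · -- abelian centralizers
    intro x hx
    refine ⟨⟨fun a b => Subtype.ext ((hcomm a b).2 ?_)⟩⟩
    obtain ⟨c, hc⟩ := exists_multiple (hcs x a a.2) (hns x hx)
    obtain ⟨d, hd⟩ := exists_multiple (hcs x b b.2) (hns x hx)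
    exact mul_comm_of_multiple hc hd
  · -- centralizers of `p`-elements
    intro x hx hxp u
    have hxt := (htr x).1 hxp
    obtain ⟨c, c1, c2, c3⟩ := exists_multiple (hcs x u u.2) (hns x hx)
    have hsq : (M u 0 0 + M u 1 1 - 2) * (M u 0 0 + M u 1 1 + 2) = 0 := by
      linear_combination 4 * hdet' u + (M u 0 0 - M u 1 1 + c * (M x 0 0 - M x 1 1)) * c3
        + (4 * M u 1 0) * c1 + (4 * c * M x 0 1) * c2 - (4 * c ^ 2) * hdet' x
        + c ^ 2 * (M x 0 0 + M x 1 1 + 2) * hxt
    rcases mul_eq_zero.1 hsq with h | h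
    · obtain ⟨k, hk⟩ := (htr u).2 (sub_eq_zero.1 h) ⟨u, Subgroup.mem_zpowers _⟩
      exact ⟨k, Subtype.ext (congrArg Subtype.val hk :)⟩
    · exfalso
      have hd := hdet' u
      have hM : (-M u - 1) * (-M u - 1) = 0 := by
        ext i j
        fin_cases i <;> fin_cases j <;> simp [Matrix.mul_apply, Fin.sum_univ_two]
        · linear_combination (M u 0 0) * h - hd
        · linear_combination (M u 0 1) * h
        · linear_combination (M u 1 0) * h
        · linear_combination (M u 1 1) * h - hd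
      have h1 := pow_p_eq_one_of_sq_eq_zero p hM
      rw [((Fact.out : p.Prime).odd_of_ne_two hp).neg_pow, neg_eq_iff_eq_neg, ← hMpow] at h1
      exact hneg _ h1
  · -- centralizers of the other elements are self-normalizing
    intro y hy g hg
    have hy1 : y ≠ 1 := by
      rintro rfl
      exact hy (by rw [Subgroup.zpowers_one_eq_bot]; exact IsPGroup.of_bot)
    set h := g * y * g⁻¹ with hh
    obtain ⟨c, c1, c2, c3⟩ := exists_multiple (hcs y h hg) (hns y hy1)
    have htr' : M h 0 0 + M h 1 1 = M y 0 0 + M y 1 1 := by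
      have := trace_conj2 (g : GL (Fin 2) F) y
      rw [Matrix.trace_fin_two, Matrix.trace_fin_two] at this
      exact this
    have hne2 : M y 0 0 + M y 1 1 - 2 ≠ 0 := fun e => hy ((htr y).2 (sub_eq_zero.1 e))
    have hne2' : M y 0 0 + M y 1 1 + 2 ≠ 0 := by
      intro e
      have hd := hdet' y
      have hM : (-M y - 1) * (-M y - 1) = 0 := by
        ext i j
        fin_cases i <;> fin_cases j <;> simp [Matrix.mul_apply, Fin.sum_univ_two]
        · linear_combination (M y 0 0) * e - hd
        · linear_combination (M y 0 1) * e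
        · linear_combination (M y 1 0) * e
        · linear_combination (M y 1 1) * e - hd
      have h1 := pow_p_eq_one_of_sq_eq_zero p hM
      rw [((Fact.out : p.Prime).odd_of_ne_two hp).neg_pow, neg_eq_iff_eq_neg, ← hMpow] at h1
      exact hneg _ h1
    have hsq : ((c - 1) * (c + 1)) * ((M y 0 0 + M y 1 1 - 2) * (M y 0 0 + M y 1 1 + 2)) = 0 := by
      linear_combination (M h 0 0 + M h 1 1 + M y 0 0 + M y 1 1) * htr' - 4 * hdet' h
        - (M h 0 0 - M h 1 1 + c * (M y 0 0 - M y 1 1)) * c3
        - (4 * M h 1 0) * c1 - (4 * c * M y 0 1) * c2 + (4 * c ^ 2) * hdet' y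
    have hfin : g * g ∈ Subgroup.centralizer ({y} : Set G) := by
      rw [Subgroup.mem_centralizer_singleton_iff]
      have hgh : h * g = g * y := by rw [hh, inv_mul_cancel_right]
      rcases mul_eq_zero.1 ((mul_eq_zero.1 hsq).resolve_right (mul_ne_zero hne2 hne2')) with hc | hc
      · have hhy : h = y := by
          apply hMinj
          obtain rfl : c = 1 := sub_eq_zero.1 hc
          ext i j
          fin_cases i <;> fin_cases j <;> simp
          · apply mul_left_cancel₀ h2; linear_combination htr' + c3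
          · linear_combination c1
          · linear_combination c2
          · apply mul_left_cancel₀ h2; linear_combination htr' - c3
        rw [hhy] at hgh
        calc g * g * y = g * (g * y) := mul_assoc _ _ _
          _ = g * (y * g) := by rw [← hgh]
          _ = (g * y) * g := (mul_assoc _ _ _).symm
          _ = _ := by rw [← hgh, mul_assoc]
      · obtain rfl : c = -1 := eq_neg_of_add_eq_zero_left hc
        -- here `h` is the inverse of `y`
        have hhy : h = y⁻¹ := by
          apply eq_inv_of_mul_eq_one_right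
          apply hMinj
          rw [hMmul, hM1]
          have he : M h = (M y 0 0 + M y 1 1) • (1 : Matrix (Fin 2) (Fin 2) F) - M y := by
            ext i j
            fin_cases i <;> fin_cases j <;> simp
            · apply mul_left_cancel₀ h2; linear_combination htr' + c3
            · linear_combination c1
            · linear_combination c2
            · apply mul_left_cancel₀ h2; linear_combination htr' - c3
          rw [he, adjugate2, hdet', one_smul]
        rw [hhy] at hgh
        have h3 : g * y⁻¹ = y * g := by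
          calc g * y⁻¹ = y * (y⁻¹ * g) * y⁻¹ := by group
            _ = y * (g * y) * y⁻¹ := by rw [hgh]
            _ = _ := by group
        calc g * g * y = g * (g * y) := mul_assoc _ _ _
          _ = g * (y⁻¹ * g) := by rw [← hgh]
          _ = (g * y⁻¹) * g := (mul_assoc _ _ _).symm
          _ = _ := by rw [h3, mul_assoc]
    obtain ⟨m, hm⟩ := hodd
    have hg' : (g * g) ^ (m + 1) = g := by
      rw [← pow_two, ← pow_mul, show 2 * (m + 1) = Nat.card G + 1 by rw [hm]; ring, pow_succ,
        pow_card_eq_one', one_mul]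
    exact hg' ▸ pow_mem hfin _
  · -- conjugation actions on the centralizer of a `p`-element commute
    intro x hx hxp g h hg hh
    have hxt := (htr x).1 hxp
    set N := M x - 1 with hN
    have key : ∀ n : G, n * x * n⁻¹ ∈ Subgroup.centralizer ({x} : Set G) →
        ∃ c : F, M n * N = c • (N * M n) := by
      intro n hn
      obtain ⟨c, c1, c2, c3⟩ := exists_multiple (hcs x (n * x * n⁻¹) hn) (hns x hx)
      refine ⟨c, ?_⟩
      have htr' : M (n * x * n⁻¹) 0 0 + M (n * x * n⁻¹) 1 1 = M x 0 0 + M x 1 1 := by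
        have := trace_conj2 (n : GL (Fin 2) F) x
        rw [Matrix.trace_fin_two, Matrix.trace_fin_two] at this
        exact this
      have he : M (n * x * n⁻¹) - 1 = c • N := by
        ext i j
        fin_cases i <;> fin_cases j <;> simp [hN]
        · apply mul_left_cancel₀ h2; linear_combination htr' + c3 + (1 - c) * hxt
        · linear_combination c1
        · linear_combination c2
        · apply mul_left_cancel₀ h2; linear_combination htr' - c3 + (1 - c) * hxt
      calc M n * N = M (n * x) - M n := by rw [hN, hMmul, mul_sub, mul_one]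
        _ = M (n * x * n⁻¹ * n) - M n := by rw [inv_mul_cancel_right]
        _ = (M (n * x * n⁻¹) - 1) * M n := by rw [hMmul, sub_mul, one_mul]
        _ = c • (N * M n) := by rw [he, smul_mul_assoc]
    obtain ⟨c, hc⟩ := key g hg
    obtain ⟨d, hd⟩ := key h hh
    have h1 : M (g * h) * N = (c * d) • (N * M (g * h)) := by
      rw [hMmul, mul_assoc, hd, mul_smul_comm, ← mul_assoc, hc, smul_mul_assoc, smul_smul,
        mul_assoc, mul_comm d c]
    have h1' : M (h * g) * N = (c * d) • (N * M (h * g)) := by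
      rw [hMmul, mul_assoc, hc, mul_smul_comm, ← mul_assoc, hd, smul_mul_assoc, smul_smul,
        mul_assoc]
    have hN0 : N ≠ 0 := fun e => hx (hMinj (by rw [hM1]; exact sub_eq_zero.1 e))
    have hcd : c * d ≠ 0 := by
      intro e
      rw [e, zero_smul] at h1
      apply hN0
      calc N = M ((g * h)⁻¹ * (g * h)) * N := by rw [inv_mul_cancel, hM1, one_mul]
        _ = 0 := by rw [hMmul, mul_assoc, h1, mul_zero]
    rw [Subgroup.mem_centralizer_singleton_iff, hcomm]
    have hw : ⁅g, h⁆ * (h * g) = g * h := by rw [commutatorElement_def]; group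
    have hgoal : M ⁅g, h⁆ * N = N * M ⁅g, h⁆ := by
      have h3 : M ⁅g, h⁆ * N * M (h * g) = N * M ⁅g, h⁆ * M (h * g) := by
        apply smul_right_injective _ hcd
        simp only
        rw [mul_assoc, mul_assoc, ← hMmul ⁅g, h⁆ (h * g), hw, ← h1, ← mul_smul_comm, ← h1',
          ← mul_assoc, ← hMmul, hw]
      calc M ⁅g, h⁆ * N = M ⁅g, h⁆ * N * M (h * g) * M (h * g)⁻¹ := by
            rw [mul_assoc (M ⁅g, h⁆ * N), ← hMmul, mul_inv_cancel, hM1, mul_one]
        _ = _ := by rw [h3, mul_assoc (N * M ⁅g, h⁆), ← hMmul, mul_inv_cancel, hM1, mul_one]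
    have := hgoal
    rw [hN, mul_sub, sub_mul, mul_one, one_mul] at this
    exact sub_left_inj.1 this

end Special

variable {p}

/-- In a finite subgroup of odd order of `GL(2, F)`, `F` of characteristic `p`, the `p`-elements
commute and each conjugate of one commutes with it. -/
theorem gl2_odd_p_elements_commute (hp : p ≠ 2) (H : Subgroup (GL (Fin 2) F)) [Finite H]
    (hodd : Odd (Nat.card H)) {x y : GL (Fin 2) F} (hx : x ∈ H) (hy : y ∈ H)
    {a b : ℕ} (hxa : x ^ p ^ a = 1) (hyb : y ^ p ^ b = 1) : x * y = y * x := by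
  let S : Subgroup (GL (Fin 2) F) := H ⊓ Matrix.GeneralLinearGroup.det.ker
  haveI : Finite S := Finite.of_injective (Subgroup.inclusion (inf_le_left : S ≤ H))
    (Subgroup.inclusion_injective _)
  have hS : Odd (Nat.card S) := hodd.of_dvd_nat (Subgroup.card_dvd_of_le inf_le_left)
  have hdet : ∀ g ∈ S, (g : Matrix (Fin 2) (Fin 2) F).det = 1 := fun g hg =>
    congrArg Units.val (MonoidHom.mem_ker.1 hg.2)
  have hmem : ∀ {z : GL (Fin 2) F} {k : ℕ}, z ∈ H → z ^ p ^ k = 1 → z ∈ S := by
    intro z k hz hzk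
    refine ⟨hz, Units.ext ?_⟩
    have h1 : ((Matrix.GeneralLinearGroup.det z : Fˣ) : F) ^ p ^ k = 1 := by
      rw [← Units.val_pow_eq_pow_val, ← map_pow, hzk, map_one, Units.val_one]
    have h3 := sub_pow_char_pow (p := p) (n := k) ((Matrix.GeneralLinearGroup.det z : Fˣ) : F) 1
    rw [h1, one_pow, sub_self] at h3
    exact sub_eq_zero.1 (eq_zero_of_pow_eq_zero h3)
  let P : Sylow p S := default
  obtain ⟨hn, hc⟩ := sylow_normal_of_det_one hp S hdet hS P
  haveI := hn
  haveI : Unique (Sylow p S) := Sylow.unique_of_normal P hn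
  have hin : ∀ (z : GL (Fin 2) F) (hz : z ∈ S) {k : ℕ}, z ^ p ^ k = 1 → (⟨z, hz⟩ : S) ∈ (P : Subgroup S) := by
    intro z hz k hk
    have hpz : IsPGroup p (Subgroup.zpowers (⟨z, hz⟩ : S)) := by
      rintro ⟨u, n, rfl⟩
      refine ⟨k, Subtype.ext (Subtype.ext ?_)⟩
      show (z ^ n) ^ p ^ k = 1
      rw [← zpow_natCast, ← zpow_mul, mul_comm, zpow_mul, zpow_natCast, hk, one_zpow]
    obtain ⟨Q, hQ⟩ := hpz.exists_le_sylow
    rw [Subsingleton.elim Q P] at hQ
    exact hQ (Subgroup.mem_zpowers _)
  have h4 := hc.is_comm.comm (⟨_, hin x (hmem hx hxa) hxa⟩ : (P : Subgroup S))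
    ⟨_, hin y (hmem hy hyb) hyb⟩
  exact congrArg Subtype.val (congrArg Subtype.val h4)

/-- An irreducible subgroup of odd order of `GL(2, F)` has order prime to `p`. -/
theorem gl2_odd_not_dvd_card (hp : p ≠ 2) (H : Subgroup (GL (Fin 2) F)) [Finite H]
    (hodd : Odd (Nat.card H))
    (hirr : ∀ v : Fin 2 → F, v ≠ 0 →
      ∃ g ∈ H, (g : Matrix (Fin 2) (Fin 2) F).mulVec v ∉ Submodule.span F {v}) :
    ¬ p ∣ Nat.card H := by
  intro hdvd
  obtain ⟨⟨x, hxH⟩, hxo⟩ := exists_prime_orderOf_dvd_card' p hdvd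
  have hxp : x ^ p ^ 1 = 1 := by
    have := pow_orderOf_eq_one (⟨x, hxH⟩ : H)
    rw [hxo] at this
    simpa using congrArg Subtype.val this
  set N : Matrix (Fin 2) (Fin 2) F := (x : Matrix (Fin 2) (Fin 2) F) - 1 with hN
  have hxm : (x : Matrix (Fin 2) (Fin 2) F) ^ p ^ 1 = 1 := by
    rw [← Units.val_pow_eq_pow_val, hxp, Units.val_one]
  have hnil : IsNilpotent N := ⟨p ^ 1, by
    rw [hN, sub_pow_char_pow_of_commute _ _ (Commute.one_right _), hxm, one_pow, sub_self]⟩
  have hN0 : N ≠ 0 := by
    intro h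
    have hx1 : x = 1 := Units.ext (sub_eq_zero.1 h)
    subst hx1
    exact (Fact.out : p.Prime).one_lt.ne' (hxo.symm.trans orderOf_one).symm.symm
  have htr0 : N 0 0 + N 1 1 = 0 := by
    have := (Matrix.isNilpotent_trace_of_isNilpotent hnil).eq_zero
    rwa [Matrix.trace_fin_two] at this
  have hdet0 : N 0 0 * N 1 1 - N 0 1 * N 1 0 = 0 := by
    rw [← Matrix.det_fin_two]
    obtain ⟨k, hk⟩ := hnil
    have h' := congrArg Matrix.det hk
    rw [Matrix.det_pow, Matrix.det_zero] at h'
    exact eq_zero_of_pow_eq_zero h'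
  -- a vector spanning the kernel
  obtain ⟨v, hv, hker⟩ : ∃ v : Fin 2 → F, v ≠ 0 ∧ N.mulVec v = 0 ∧
      ∀ w, N.mulVec w = 0 → w ∈ Submodule.span F {v} := by
    by_cases h01 : N 0 1 = 0
    · have h00 : N 0 0 = 0 := by
        have h' : N 0 0 * N 0 0 = 0 := by
          rw [h01] at hdet0; linear_combination (N 0 0) * htr0 - hdet0
        exact mul_self_eq_zero.1 h'
      have h10 : N 1 0 ≠ 0 := by
        intro h10
        apply hN0
        ext i j
        fin_cases i <;> fin_cases j <;> simp [h00, h01, h10]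
        linear_combination htr0 - h00
      refine ⟨![0, 1], by simp, ?_, fun w hw => ?_⟩
      · ext i
        fin_cases i <;> simp [Matrix.mulVec, dotProduct, Fin.sum_univ_two, h01]
        linear_combination htr0 - h00
      · have h1 := congrFun hw 1
        simp [Matrix.mulVec, dotProduct, Fin.sum_univ_two] at h1
        have h11 : N 1 1 = 0 := by linear_combination htr0 - h00
        rw [h11, zero_mul, add_zero] at h1
        rw [Submodule.mem_span_singleton]
        refine ⟨w 1, ?_⟩
        ext i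
        fin_cases i <;> simp
        exact ((mul_eq_zero.1 h1).resolve_left h10).symm
    · refine ⟨![N 0 1, -N 0 0], by simp [h01], ?_, fun w hw => ?_⟩
      · ext i
        fin_cases i <;> simp [Matrix.mulVec, dotProduct, Fin.sum_univ_two]
        · ring
        · linear_combination -hdet0
      · have h1 := congrFun hw 0
        simp [Matrix.mulVec, dotProduct, Fin.sum_univ_two] at h1
        rw [Submodule.mem_span_singleton]
        refine ⟨w 0 / N 0 1, ?_⟩
        ext i
        fin_cases i <;> simp <;> field_simp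
        linear_combination -h1
  obtain ⟨g, hg, hgv⟩ := hirr v hv
  apply hgv
  refine hker.2 _ ?_
  -- `x` commutes with `g x g⁻¹`, and the kernel of `N` is `g`-invariant
  set x' := g * x * g⁻¹ with hx'
  have hx'H : x' ∈ H := H.mul_mem (H.mul_mem hg hxH) (H.inv_mem hg)
  have hx'p : x' ^ p ^ 1 = 1 := by rw [hx', conj_pow, hxp, mul_one, mul_inv_cancel]
  have hcom : (x : Matrix (Fin 2) (Fin 2) F) * x' = (x' : Matrix (Fin 2) (Fin 2) F) * x :=
    congrArg Units.val (gl2_odd_p_elements_commute hp H hodd hxH hx'H hxp hx'p)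
  set N' : Matrix (Fin 2) (Fin 2) F := (x' : Matrix (Fin 2) (Fin 2) F) - 1 with hN'
  have hns : (x : Matrix (Fin 2) (Fin 2) F) 0 1 ≠ 0 ∨ (x : Matrix (Fin 2) (Fin 2) F) 1 0 ≠ 0 ∨
      (x : Matrix (Fin 2) (Fin 2) F) 0 0 - (x : Matrix (Fin 2) (Fin 2) F) 1 1 ≠ 0 := by
    by_contra! h
    obtain ⟨e1, e2, e3⟩ := h
    apply hN0
    have e4 : N 0 0 = 0 := by
      apply mul_left_cancel₀ (two_ne_zero_of_char (F := F) p hp)
      rw [mul_zero]
      simp [hN, -mul_eq_zero] at htr0 ⊢
      linear_combination htr0 + e3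
    ext i j
    fin_cases i <;> fin_cases j <;> simp [hN, e1, e2]
    · simpa [hN] using e4
    · simp [hN] at htr0 e4
      linear_combination htr0 - e4
  obtain ⟨c, c1, c2, c3⟩ := exists_multiple hcom hns
  have htr' : N' 0 0 + N' 1 1 = 0 := by
    have := trace_conj2 g x
    rw [Matrix.trace_fin_two, Matrix.trace_fin_two, ← hx'] at this
    simp [hN'] at *
    simp [hN] at htr0
    linear_combination this + htr0
  have hNN' : N' = c • N := by
    have h2 : (2 : F) ≠ 0 := two_ne_zero_of_char p hp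
    simp [hN, hN'] at htr0 htr'
    ext i j
    fin_cases i <;> fin_cases j <;> simp [hN, hN']
    · apply mul_left_cancel₀ h2; linear_combination htr' + c3 - c * htr0
    · linear_combination c1
    · linear_combination c2
    · apply mul_left_cancel₀ h2; linear_combination htr' - c3 - c * htr0
  have hgN : N' * (g : Matrix (Fin 2) (Fin 2) F) = (g : Matrix (Fin 2) (Fin 2) F) * N := by
    rw [hN', hN, sub_mul, mul_sub, one_mul, mul_one, ← Units.val_mul, ← Units.val_mul, hx',
      inv_mul_cancel_right]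
  have hc0 : c ≠ 0 := by
    rintro rfl
    rw [zero_smul] at hNN'
    rw [hNN', zero_mul] at hgN
    apply hN0
    calc N = ((g⁻¹ : GL (Fin 2) F) : Matrix (Fin 2) (Fin 2) F) * ((g : Matrix (Fin 2) (Fin 2) F) * N) := by
          rw [← mul_assoc, ← Units.val_mul, inv_mul_cancel, Units.val_one, one_mul]
      _ = 0 := by rw [← hgN, mul_zero]
  have h5 : N'.mulVec ((g : Matrix (Fin 2) (Fin 2) F).mulVec v) = 0 := by
    rw [Matrix.mulVec_mulVec, hgN, ← Matrix.mulVec_mulVec, hker.1, Matrix.mulVec_zero]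
  rw [hNN', Matrix.smul_mulVec] at h5
  exact (smul_eq_zero.1 h5).resolve_left hc0

end Cfsg.Agent.OddLocal44
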