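import Mathlib.LinearAlgebra.Eigenspace.Triangularizable
import Mathlib.LinearAlgebra.Eigenspace.Zero
import Mathlib.LinearAlgebra.Matrix.ToLin
import Mathlib.FieldTheory.IsAlgClosed.AlgebraicClosure
import Mathlib.RingTheory.Noetherian.Basic
import Mathlib.Algebra.Module.ZMod
import Cfsg.Agent.OddLocal44.GLTwo
import Cfsg.Agent.Lib.Involution.BaerSuzuki
import Cfsg.Agent.Lib.Coprime.Action
import Cfsg.Agent.OddLocal43.Coprime
import Cfsg.Agent.Lib.Thompson.Cores
import Cfsg.Agent.Lib.PGroup.Basic

set_option autoImplicit false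

/-!
Quadratic action in groups of odd order: a `p`-element acting quadratically on a `p`-group lies in
the `p`-core modulo the kernel of the action.
-/

open scoped commutatorElement

namespace Cfsg.Agent.OddLocal44

section Linear

variable {F : Type*} [Field F] {p : ℕ} [Fact p.Prime] [CharP F p]
variable {V : Type*} [AddCommGroup V] [Module F V] [FiniteDimensional F V]

/-- Matrix of an upper unipotent transformation. -/
def upperUnip (c : F) : GL (Fin 2) F :=
  ⟨!![1, c; 0, 1], !![1, -c; 0, 1],
    by ext i j; fin_cases i <;> fin_cases j <;> simp [Matrix.mul_apply, Fin.sum_univ_two],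
    by ext i j; fin_cases i <;> fin_cases j <;> simp [Matrix.mul_apply, Fin.sum_univ_two]⟩

/-- Matrix of a lower unipotent transformation. -/
def lowerUnip (c : F) : GL (Fin 2) F :=
  ⟨!![1, 0; c, 1], !![1, 0; -c, 1],
    by ext i j; fin_cases i <;> fin_cases j <;> simp [Matrix.mul_apply, Fin.sum_univ_two],
    by ext i j; fin_cases i <;> fin_cases j <;> simp [Matrix.mul_apply, Fin.sum_univ_two]⟩

/-- In a linear group of odd order in characteristic `p`, two quadratic elements have nilpotent
product of differences. -/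
lemma pair_nilpotent [IsAlgClosed F] (hp : p ≠ 2) {K : Type*} [Group K] [Finite K]
    (hodd : Odd (Nat.card K)) (ρ : K →* Module.End F V) (x y : K)
    (hx : (ρ x - 1) * (ρ x - 1) = 0) (hy : (ρ y - 1) * (ρ y - 1) = 0) :
    IsNilpotent ((ρ x - 1) * (ρ y - 1)) := by
  set a := ρ x - 1 with ha
  set b := ρ y - 1 with hb
  by_contra hnil
  obtain ⟨l, hl, hl0⟩ : ∃ l : F, (a * b).HasEigenvalue l ∧ l ≠ 0 := by
    by_contra! h
    apply hnil
    rw [LinearMap.isNilpotent_iff_charpoly]
    have hroots : ∀ r ∈ (a * b).charpoly.roots, r = (0 : F) := fun r hr =>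
      h r (((a * b).hasEigenvalue_iff_isRoot_charpoly r).2
        ((Polynomial.mem_roots (LinearMap.charpoly_monic _).ne_zero).1 hr))
    have hs := (IsAlgClosed.splits (a * b).charpoly).eq_prod_roots_of_monic (LinearMap.charpoly_monic _)
    have hcard : Multiset.card (a * b).charpoly.roots = Module.finrank F V := by
      rw [← (IsAlgClosed.splits (a * b).charpoly).natDegree_eq_card_roots, LinearMap.charpoly_natDegree]
    rw [hs, Multiset.eq_replicate.2 ⟨hcard, hroots⟩]
    simp
  obtain ⟨v, hv⟩ := hl.exists_hasEigenvector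
  have hv0 : v ≠ 0 := hv.2
  have habv : a (b v) = l • v := hv.apply_eq_smul
  set u := b v with hu
  have hav : a v = 0 := by
    have h1 : a (a u) = 0 := LinearMap.congr_fun hx u
    rw [habv, map_smul] at h1
    exact (smul_eq_zero.1 h1).resolve_left hl0
  have hbu : b u = 0 := LinearMap.congr_fun hy v
  have hρx : ∀ w, ρ x w = w + a w := fun w => by simp [ha]
  have hρy : ∀ w, ρ y w = w + b w := fun w => by simp [hb]
  -- pairs of a matrix and a group element compatible with the plane spanned by `v, u`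
  let B : (Fin 2 → F) →ₗ[F] V :=
    (LinearMap.proj (0 : Fin 2)).smulRight v + (LinearMap.proj (1 : Fin 2)).smulRight u
  have hBval : ∀ w, B w = w 0 • v + w 1 • u := fun w => by simp [B]
  have hBinj : Function.Injective B := by
    rw [← LinearMap.ker_eq_bot, LinearMap.ker_eq_bot']
    intro w hw
    rw [hBval] at hw
    have h1 : w 1 • (l • v) = 0 := by
      have := congrArg a hw
      rw [map_add, map_smul, map_smul, hav, smul_zero, zero_add, habv, map_zero] at this
      exact this
    have hw1 : w 1 = 0 := by simpa [hl0, hv0] using h1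
    rw [hw1, zero_smul, add_zero] at hw
    have hw0 : w 0 = 0 := by simpa [hv0] using hw
    ext i
    fin_cases i <;> assumption
  let S : Subgroup (GL (Fin 2) F × K) :=
    { carrier := {z | ∀ w, ρ z.2 (B w) = B ((z.1 : Matrix (Fin 2) (Fin 2) F).mulVec w)}
      one_mem' := fun w => by simp
      mul_mem' := fun {z z'} hz hz' w => by
        simp only [Prod.snd_mul, Prod.fst_mul, map_mul, Module.End.mul_apply, Units.val_mul]
        rw [hz', hz, Matrix.mulVec_mulVec]
      inv_mem' := fun {z} hz w => by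
        have h1 := hz ((((z.1)⁻¹ : GL (Fin 2) F) : Matrix (Fin 2) (Fin 2) F).mulVec w)
        rw [Matrix.mulVec_mulVec, ← Units.val_mul, mul_inv_cancel, Units.val_one,
          Matrix.one_mulVec] at h1
        simp only [Prod.snd_inv, Prod.fst_inv]
        rw [← h1, ← Module.End.mul_apply, ← map_mul, inv_mul_cancel, map_one, Module.End.one_apply] }
  let pr : S →* K := (MonoidHom.snd _ _).comp S.subtype
  have hpr : Function.Injective pr := by
    rintro ⟨⟨g, k⟩, hg⟩ ⟨⟨g', k'⟩, hg'⟩ h
    obtain rfl : k = k' := h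
    refine Subtype.ext (Prod.ext (Units.ext ?_) rfl)
    refine Matrix.mulVec_injective (funext fun w => ?_)
    exact hBinj ((hg w).symm.trans (hg' w))
  haveI : Finite S := Finite.of_injective pr hpr
  have hSodd : Odd (Nat.card S) := hodd.of_dvd_nat (Subgroup.card_dvd_of_injective pr hpr)
  let H : Subgroup (GL (Fin 2) F) := S.map (MonoidHom.fst _ _)
  haveI : Finite H := Finite.of_surjective ((MonoidHom.fst (GL (Fin 2) F) K).subgroupMap S)
    (MonoidHom.subgroupMap_surjective _ _)
  have hHodd : Odd (Nat.card H) := hSodd.of_dvd_nat (Subgroup.card_map_dvd _ _)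
  have hxH : upperUnip l ∈ H := ⟨(upperUnip l, x), fun w => by
    rw [hρx]
    simp [hBval, upperUnip, Matrix.mulVec, dotProduct, Fin.sum_univ_two, hav, habv]
    module, rfl⟩
  have hyH : lowerUnip (1 : F) ∈ H := ⟨(lowerUnip 1, y), fun w => by
    rw [hρy]
    simp [hBval, lowerUnip, Matrix.mulVec, dotProduct, Fin.sum_univ_two, ← hu, hbu]
    module, rfl⟩
  have hup : upperUnip l ^ p ^ 1 = 1 := by
    rw [pow_one]
    refine Units.ext ?_
    rw [Units.val_pow_eq_pow_val, Units.val_one]
    refine pow_p_eq_one_of_sq_eq_zero p ?_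
    ext i j
    fin_cases i <;> fin_cases j <;> simp [upperUnip, Matrix.mul_apply, Fin.sum_univ_two]
  have hlow : lowerUnip (1 : F) ^ p ^ 1 = 1 := by
    rw [pow_one]
    refine Units.ext ?_
    rw [Units.val_pow_eq_pow_val, Units.val_one]
    refine pow_p_eq_one_of_sq_eq_zero p ?_
    ext i j
    fin_cases i <;> fin_cases j <;> simp [lowerUnip, Matrix.mul_apply, Fin.sum_univ_two]
  have hc := congrArg (fun g : GL (Fin 2) F => (g : Matrix (Fin 2) (Fin 2) F) 0 0)
    (gl2_odd_p_elements_commute hp H hHodd hxH hyH hup hlow)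
  simp [upperUnip, lowerUnip, Matrix.mul_apply, Fin.sum_univ_two] at hc
  exact hl0 hc

/-- A linear group generated by two quadratic elements with nilpotent product of differences is
unipotent. -/
lemma pair_unipotent {K : Type*} [Group K] [Finite K] (ρ : K →* Module.End F V)
    (hρ : Function.Injective ρ) (x y : K) (hgen : Subgroup.closure ({x, y} : Set K) = ⊤)
    (hx : (ρ x - 1) * (ρ x - 1) = 0) (hy : (ρ y - 1) * (ρ y - 1) = 0)
    (hnil : IsNilpotent ((ρ x - 1) * (ρ y - 1))) : IsPGroup p K := by
  set a := ρ x - 1 with ha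
  set b := ρ y - 1 with hb
  let good : Submodule F V → Prop := fun W => (∀ g : K, ∀ w ∈ W, ρ g w ∈ W) ∧
    ∃ m : ℕ, ∀ g : K, ∀ w ∈ W, ((ρ g - 1) ^ m) w = 0
  have hgood0 : good ⊥ := ⟨fun g w hw => by simp [(Submodule.mem_bot F).1 hw],
    0, fun g w hw => by simp [(Submodule.mem_bot F).1 hw]⟩
  obtain ⟨W, ⟨hWinv, m, hm⟩, hmax⟩ :=
    set_has_maximal_iff_noetherian.2 inferInstance {W | good W} ⟨⊥, hgood0⟩
  have hstep : ∀ v, a v ∈ W → b v ∈ W → v ∈ W := by
    intro v hva hvb
    by_contra hv
    have hall : ∀ g : K, ∀ u, u ∈ W ⊔ Submodule.span F {v} → ρ g u - u ∈ W := by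
      intro g
      have hg : g ∈ Subgroup.closure ({x, y} : Set K) := by rw [hgen]; trivial
      induction hg using Subgroup.closure_induction with
      | mem z hz =>
        intro u hu
        obtain ⟨w, hw, _, ht, rfl⟩ := Submodule.mem_sup.1 hu
        obtain ⟨c, rfl⟩ := Submodule.mem_span_singleton.1 ht
        rw [map_add, map_smul, add_sub_add_comm, ← smul_sub]
        refine W.add_mem (W.sub_mem (hWinv z w hw) hw) (W.smul_mem c ?_)
        rcases hz with rfl | hz
        · simpa [ha] using hva
        · rw [Set.mem_singleton_iff.1 hz]; simpa [hb] using hvb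
      | one => intro u _; simp
      | mul g h _ _ ihg ihh =>
        intro u hu
        have h2 : ρ h u ∈ W ⊔ Submodule.span F {v} := by
          simpa using (W ⊔ Submodule.span F {v}).add_mem (Submodule.mem_sup_left (ihh u hu)) hu
        simpa [map_mul, Module.End.mul_apply] using W.add_mem (ihg _ h2) (ihh u hu)
      | inv g _ ih =>
        intro u hu
        have h3 := W.neg_mem (hWinv g⁻¹ _ (ih u hu))
        rwa [map_sub, ← Module.End.mul_apply, ← map_mul, inv_mul_cancel, map_one,
          Module.End.one_apply, neg_sub] at h3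
    refine hmax (W ⊔ Submodule.span F {v}) ⟨fun g w hw => ?_, m + 1, fun g w hw => ?_⟩ ?_
    · simpa using (W ⊔ Submodule.span F {v}).add_mem (Submodule.mem_sup_left (hall g w hw)) hw
    · rw [pow_succ, Module.End.mul_apply]
      exact hm g _ (by simpa using hall g w hw)
    · rw [left_lt_sup]
      exact fun h => hv (h (Submodule.mem_span_singleton_self v))
  have htop : ∀ v : V, v ∈ W := by
    obtain ⟨k, hk⟩ := hnil
    have key : ∀ (j : ℕ) (v : V), a v ∈ W → ((a * b) ^ j) v ∈ W → v ∈ W := by
      intro j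
      induction j with
      | zero => intro v _ h; simpa using h
      | succ j ih =>
        intro v hva h
        rw [pow_succ, Module.End.mul_apply, Module.End.mul_apply] at h
        have habv : a (b v) ∈ W := ih _ (by
          rw [show a (a (b v)) = 0 from LinearMap.congr_fun hx (b v)]; exact W.zero_mem) h
        refine hstep v hva (hstep _ habv ?_)
        rw [show b (b v) = 0 from LinearMap.congr_fun hy v]
        exact W.zero_mem
    intro v
    have h1 : ∀ w, a w ∈ W → w ∈ W := fun w hw => key k w hw (by simp [hk])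
    exact h1 v (h1 _ (by rw [show a (a v) = 0 from LinearMap.congr_fun hx v]; exact W.zero_mem))
  intro g
  refine ⟨m, hρ ?_⟩
  rw [map_pow, map_one]
  rcases subsingleton_or_nontrivial V with hV | hV
  · exact Subsingleton.elim _ _
  haveI : CharP (Module.End F V) p :=
    charP_of_injective_algebraMap (algebraMap F (Module.End F V)).injective p
  have hz : (ρ g - 1) ^ m = 0 := LinearMap.ext fun v => hm g v (htop v)
  have hle : m ≤ p ^ m := (m.lt_pow_self (Fact.out : p.Prime).one_lt).le
  have h0 : (ρ g - 1) ^ p ^ m = 0 := pow_eq_zero_of_le hle hz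
  rw [sub_pow_char_pow_of_commute _ _ (Commute.one_right _), one_pow, sub_eq_zero] at h0
  exact h0

end Linear

section Group

open Cfsg

variable {p : ℕ} [hpf : Fact p.Prime]

/-- A quadratic element of a faithful linear group of odd order lies in the `p`-core. -/
lemma quadratic_mem_pCore_matrix (hp : p ≠ 2) {K₀ : Type*} [Field K₀] [CharP K₀ p]
    {n : Type*} [Fintype n] [DecidableEq n] {H : Type*} [Group H] [Finite H]
    (hodd : Odd (Nat.card H)) (ρ : H →* Matrix n n K₀) (hρ : Function.Injective ρ) (x : H)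
    (hx : (ρ x - 1) * (ρ x - 1) = 0) : x ∈ pCore p H := by
  set L := AlgebraicClosure K₀
  haveI : CharP L p := charP_of_injective_algebraMap (algebraMap K₀ L).injective p
  let emb : Matrix n n K₀ →+* Module.End L (n → L) :=
    (Matrix.toLinAlgEquiv' (R := L) (n := n)).toRingEquiv.toRingHom.comp
      (algebraMap K₀ L).mapMatrix
  have hemb : Function.Injective emb := by
    intro A B h
    have h1 := (Matrix.toLinAlgEquiv' (R := L) (n := n)).injective h
    ext i j
    exact (algebraMap K₀ L).injective (congrFun (congrFun h1 i) j)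
  let σ : H →* Module.End L (n → L) := emb.toMonoidHom.comp ρ
  have hσ : Function.Injective σ := hemb.comp hρ
  have hσx : ∀ g : H, (σ (g * x * g⁻¹) - 1) * (σ (g * x * g⁻¹) - 1) = 0 := by
    intro g
    have h0 : (σ x - 1) * (σ x - 1) = 0 := by
      show (emb (ρ x) - 1) * (emb (ρ x) - 1) = 0
      rw [← map_one emb, ← map_sub, ← map_mul, hx, map_zero]
    have h1 : σ (g * x * g⁻¹) - 1 = σ g * (σ x - 1) * σ g⁻¹ := by
      rw [mul_sub, sub_mul, mul_one, ← map_mul, ← map_mul, ← map_mul, mul_inv_cancel, map_one]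
    rw [h1]
    calc σ g * (σ x - 1) * σ g⁻¹ * (σ g * (σ x - 1) * σ g⁻¹)
        = σ g * (σ x - 1) * (σ g⁻¹ * σ g) * (σ x - 1) * σ g⁻¹ := by simp only [mul_assoc]
      _ = σ g * ((σ x - 1) * (σ x - 1)) * σ g⁻¹ := by
          rw [← map_mul σ g⁻¹ g, inv_mul_cancel, map_one, mul_one]; simp only [mul_assoc]
      _ = 0 := by rw [h0, mul_zero, zero_mul]
  have key : ∀ g : H, IsPGroup p (Subgroup.closure ({x, g * x * g⁻¹} : Set H)) := by
    intro g
    set K := Subgroup.closure ({x, g * x * g⁻¹} : Set H) with hK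
    let x₁ : K := ⟨x, Subgroup.subset_closure (Set.mem_insert _ _)⟩
    let y₁ : K := ⟨g * x * g⁻¹, Subgroup.subset_closure (Set.mem_insert_of_mem _ rfl)⟩
    have hx₁ : (σ.comp K.subtype x₁ - 1) * (σ.comp K.subtype x₁ - 1) = 0 := by
      have := hσx 1; simpa [x₁] using this
    have hy₁ : (σ.comp K.subtype y₁ - 1) * (σ.comp K.subtype y₁ - 1) = 0 := hσx g
    refine pair_unipotent (σ.comp K.subtype) (hσ.comp K.subtype_injective) x₁ y₁ ?_ hx₁ hy₁ ?_
    · apply Subgroup.map_injective K.subtype_injective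
      rw [MonoidHom.map_closure, Set.image_pair, ← MonoidHom.range_eq_map, Subgroup.range_subtype]
      exact hK.symm
    · exact pair_nilpotent hp (hodd.of_dvd_nat (Subgroup.card_subgroup_dvd_card K))
        (σ.comp K.subtype) x₁ y₁ hx₁ hy₁
  obtain ⟨N, hN, hNp, hxN⟩ := Involution.baerSuzuki x key
  exact Thompson.le_pCore hN hNp hxN

/-- A quadratic element of a group of odd order acting faithfully on an elementary abelian
`p`-group lies in the `p`-core. -/
lemma quadratic_mem_pCore_elementary (hp : p ≠ 2) {H : Type*} [Group H] [Finite H]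
    (hodd : Odd (Nat.card H)) {M : Type*} [CommGroup M] [Finite M] (hM : ∀ m : M, m ^ p = 1)
    (θ : H →* MulAut M) (hθ : Function.Injective θ) (x : H)
    (hx : ∀ m, θ x (θ x m / m) = θ x m / m) : x ∈ pCore p H := by
  classical
  letI : Module (ZMod p) (Additive M) := AddCommGroup.zmodModule (n := p) fun m => hM m
  let φ : H →* Module.End (ZMod p) (Additive M) :=
    { toFun := fun h => (MonoidHom.toAdditive (θ h).toMonoidHom).toZModLinearMap p
      map_one' := by ext m; simp
      map_mul' := fun a b => by ext m; simp }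
  haveI : Module.Finite (ZMod p) (Additive M) := Module.Finite.of_finite
  let bas := Module.finBasis (ZMod p) (Additive M)
  let e := LinearMap.toMatrixAlgEquiv bas
  have hx' : (φ x - 1) * (φ x - 1) = 0 := by
    refine LinearMap.ext fun m => ?_
    have h1 := hx (Additive.toMul m)
    show (φ x - 1) ((φ x - 1) m) = 0
    rw [LinearMap.sub_apply, Module.End.one_apply, sub_eq_zero]
    exact congrArg Additive.ofMul h1
  refine quadratic_mem_pCore_matrix hp hodd (e.toMulEquiv.toMonoidHom.comp φ) ?_ x ?_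
  · intro a b h
    refine hθ (MulEquiv.ext fun m => ?_)
    exact congrArg Additive.toMul (LinearMap.congr_fun (e.injective h) (Additive.ofMul m))
  · show (e (φ x) - 1) * (e (φ x) - 1) = 0
    rw [← map_one e, ← map_sub, ← map_mul, hx', map_zero]

/-- **Quadratic action in odd order**: if `x` normalises the normal `p`-subgroup `P` of a group of
odd order and `⁅⁅u, x⁆, x⁆ = 1` for every `u ∈ P`, then the image of `x` modulo `C(P)` lies in the
`p`-core. -/
theorem quadratic_mem_pCore_quotient (hp : p ≠ 2) {G : Type*} [Group G] [Finite G]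
    (hodd : Odd (Nat.card G)) (P : Subgroup G) [P.Normal] (hP : IsPGroup p P) (x : G)
    (hx : ∀ u ∈ P, ⁅⁅u, x⁆, x⁆ = 1) :
    QuotientGroup.mk' (Subgroup.centralizer (P : Set G)) x
      ∈ pCore p (G ⧸ Subgroup.centralizer (P : Set G)) := by
  classical
  set Φ := (frattini P).map P.subtype with hΦ
  haveI hΦn : Φ.Normal := Thompson.map_subtype_normal_of_characteristic P (frattini P)
  set Pb := P.map (QuotientGroup.mk' Φ) with hPb
  haveI : Pb.Normal := Subgroup.Normal.map inferInstance _ (QuotientGroup.mk'_surjective Φ)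
  have hpow : ∀ m : Pb, m ^ p = 1 := by
    rintro ⟨_, u, hu, rfl⟩
    refine Subtype.ext ?_
    show (QuotientGroup.mk' Φ u) ^ p = 1
    rw [← map_pow]
    exact (QuotientGroup.eq_one_iff _).2
      ⟨⟨u, hu⟩ ^ p, OddLocal43.pow_mem_frattini hP _, rfl⟩
  have hcomm : ∀ a b : Pb, a * b = b * a := by
    rintro ⟨_, u, hu, rfl⟩ ⟨_, v, hv, rfl⟩
    refine Subtype.ext ?_
    show QuotientGroup.mk' Φ u * QuotientGroup.mk' Φ v = QuotientGroup.mk' Φ v * QuotientGroup.mk' Φ u
    rw [← commutatorElement_eq_one_iff_mul_comm, ← map_commutatorElement]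
    refine (QuotientGroup.eq_one_iff _).2 ⟨⁅(⟨u, hu⟩ : P), ⟨v, hv⟩⁆, ?_, rfl⟩
    exact PGroup.commutator_le_frattini hP
      (Subgroup.commutator_mem_commutator (Subgroup.mem_top _) (Subgroup.mem_top _))
  letI : CommGroup Pb := { (inferInstance : Group Pb) with mul_comm := hcomm }
  -- conjugation on `P / Φ(P)`
  let θ₁ : G →* MulAut Pb :=
    (MulAut.conjNormal (H := Pb)).comp (QuotientGroup.mk' Φ)
  set k₁ := θ₁.ker with hk₁
  let θ : G ⧸ k₁ →* MulAut Pb := QuotientGroup.kerLift θ₁
  have hθ : Function.Injective θ := QuotientGroup.kerLift_injective θ₁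
  have hquad : QuotientGroup.mk' k₁ x ∈ pCore p (G ⧸ k₁) := by
    refine quadratic_mem_pCore_elementary hp (hodd.of_dvd_nat (Subgroup.card_quotient_dvd_card _))
      hpow θ hθ _ ?_
    rintro ⟨_, u, hu, rfl⟩
    refine Subtype.ext ?_
    have h2 : x * ⁅x, u⁆ * x⁻¹ = ⁅x, u⁆ := by
      have h1 := hx u hu
      rw [commutatorElement_eq_one_iff_mul_comm] at h1
      rw [← commutatorElement_inv u x, mul_inv_eq_iff_eq_mul]
      calc x * ⁅u, x⁆⁻¹ = ⁅u, x⁆⁻¹ * (⁅u, x⁆ * x) * ⁅u, x⁆⁻¹ := by group
        _ = ⁅u, x⁆⁻¹ * (x * ⁅u, x⁆) * ⁅u, x⁆⁻¹ := by rw [h1]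
        _ = _ := by group
    have h3 := congrArg (QuotientGroup.mk' Φ) h2
    simp only [commutatorElement_def, map_mul, map_inv] at h3
    simp only [θ, θ₁, QuotientGroup.mk'_apply, QuotientGroup.kerLift_mk, MonoidHom.coe_mk,
      OneHom.coe_mk, MulEquiv.coe_toMonoidHom, MonoidHom.coe_comp, Function.comp_apply,
      MulAut.conjNormal_apply, div_eq_mul_inv, Subgroup.coe_mul, Subgroup.coe_inv] at *
    exact h3
  -- the kernel of the action on `P / Φ(P)` is a `p`-group modulo `C(P)`
  set C := Subgroup.centralizer (P : Set G) with hC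
  have hCk : C ≤ k₁ := by
    intro c hc
    refine MonoidHom.mem_ker.2 (MulEquiv.ext fun m => Subtype.ext ?_)
    obtain ⟨_, u, hu, rfl⟩ := m
    simp only [θ₁, MonoidHom.coe_comp, Function.comp_apply, MulAut.conjNormal_apply,
      MulAut.one_apply]
    rw [← map_mul, ← map_inv, ← map_mul, ← Subgroup.mem_centralizer_iff.1 hc u hu,
      mul_inv_cancel_right]
  let π : G ⧸ C →* G ⧸ k₁ := QuotientGroup.map C k₁ (MonoidHom.id G) (by simpa using hCk)
  have hker : IsPGroup p π.ker := by
    intro ⟨z, hz⟩
    obtain ⟨g, rfl⟩ := QuotientGroup.mk'_surjective C z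
    have hg : g ∈ k₁ := (QuotientGroup.eq_one_iff g).1 hz
    obtain ⟨k, m, hm, hkm⟩ := Nat.exists_eq_pow_mul_and_not_dvd (orderOf_pos g).ne' p hpf.out.ne_one
    refine ⟨k, Subtype.ext ?_⟩
    show (QuotientGroup.mk' C g) ^ p ^ k = 1
    rw [← map_pow]
    refine (QuotientGroup.eq_one_iff _).2 ?_
    set A := Subgroup.zpowers (g ^ p ^ k) with hA
    refine (Coprime.le_centralizer_of_frattini A P ?_ ?_ ?_) (Subgroup.mem_zpowers _)
    · rw [Subgroup.normalizer_eq_top_iff.2 inferInstance]; exact le_top
    · rw [hA, Nat.card_zpowers, orderOf_pow' _ (pow_ne_zero _ hpf.out.ne_zero), hkm,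
        Nat.gcd_mul_right_left, Nat.mul_div_cancel_left _ (pow_pos hpf.out.pos k)]
      obtain ⟨j, hj⟩ := IsPGroup.iff_card.1 (hP.to_subgroup (frattini P))
      rw [hj]
      exact Nat.Coprime.pow_right _ ((Nat.Prime.coprime_iff_not_dvd hpf.out).2 hm).symm
    · intro a ha u hu
      have hak : a ∈ k₁ := (Subgroup.zpowers_le.2 (k₁.pow_mem hg _)) ha
      have h1 := congrArg Subtype.val
        (MulEquiv.congr_fun (MonoidHom.mem_ker.1 hak) ⟨_, Subgroup.mem_map_of_mem _ hu⟩)
      simp only [θ₁, MonoidHom.coe_comp, Function.comp_apply, MulAut.conjNormal_apply,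
        MulAut.one_apply] at h1
      rw [← map_mul, ← map_inv, ← map_mul] at h1
      refine (QuotientGroup.eq_one_iff (N := Φ) _).1 ?_
      show QuotientGroup.mk' Φ (a * u * a⁻¹ * u⁻¹) = 1
      rw [map_mul, h1, ← map_mul, mul_inv_cancel, map_one]
  have hcomap : (pCore p (G ⧸ k₁)).comap π ≤ pCore p (G ⧸ C) :=
    Thompson.le_pCore inferInstance
      ((Thompson.isPGroup_pCore).comap_of_ker_isPGroup π hker)
  exact hcomap hquad

end Group

end Cfsg.Agent.OddLocal44
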