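import Cfsg.Agent.Lib.PGroup.Commutator
import Cfsg.Agent.Lib.PGroup.OmegaSmallClass
import Cfsg.Agent.OddLocal43.Coprime
import Cfsg.Agent.Lib.Coprime.Action
import Mathlib.GroupTheory.GroupAction.ConjAct

set_option autoImplicit false

/-!
A `p'`-group `Q` normalized by a `p`-group `E`, both acting on a `p`-group `R`: if `Q` centralizes
`C_R(E)` then `Q` centralizes `R` (`p` odd, or the class two situation for `p = 2`).
-/

open scoped commutatorElement

namespace Cfsg.Agent.OddLocal44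

/-- A wrapper carrying Baer's abelian operation on a group of class two and odd exponent. -/
structure BaerGroup (R : Type*) where
  /-- the underlying element -/
  val : R

section Baer

variable {R : Type*} [Group R]

lemma BaerGroup.ext' {a b : BaerGroup R} (h : a.val = b.val) : a = b := by
  cases a; cases b; simp_all

/-- Baer's operation, a commutative group when `k` is one half modulo the exponent. -/
@[reducible] def baerCommGroup (hR : commutator R ≤ Subgroup.center R) (k : ℕ)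
    (hk : ∀ a b : R, ⁅a, b⁆ ^ (2 * k) = ⁅a, b⁆) : CommGroup (BaerGroup R) where
  mul a b := ⟨a.val * b.val * ⁅b.val, a.val⁆ ^ k⟩
  one := ⟨1⟩
  inv a := ⟨a.val⁻¹⟩
  mul_assoc a b c := by
    apply BaerGroup.ext'
    show a.val * b.val * ⁅b.val, a.val⁆ ^ k * c.val * ⁅c.val, a.val * b.val * ⁅b.val, a.val⁆ ^ k⁆ ^ k =
      a.val * (b.val * c.val * ⁅c.val, b.val⁆ ^ k) *
        ⁅b.val * c.val * ⁅c.val, b.val⁆ ^ k, a.val⁆ ^ k
    have hz : ∀ x y : R, ⁅x, y⁆ ^ k ∈ Subgroup.center R := fun x y =>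
      pow_mem (hR (PGroup.commutatorElement_mem_commutator x y)) k
    have hc1 : ∀ (z : R), z ∈ Subgroup.center R → ∀ x : R, ⁅x, z⁆ = (1 : R) ∧ ⁅z, x⁆ = (1 : R) :=
      fun z hz x =>
      ⟨commutatorElement_eq_one_iff_mul_comm.2 (Subgroup.mem_center_iff.1 hz x),
        commutatorElement_eq_one_iff_mul_comm.2 (Subgroup.mem_center_iff.1 hz x).symm⟩
    have e1 : ⁅c.val, a.val * b.val * ⁅b.val, a.val⁆ ^ k⁆ = ⁅c.val, a.val⁆ * ⁅c.val, b.val⁆ := by
      rw [PGroup.comm_mul_right hR, PGroup.comm_mul_right hR, (hc1 _ (hz _ _) c.val).1, mul_one]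
    have e2 : ⁅b.val * c.val * ⁅c.val, b.val⁆ ^ k, a.val⁆ = ⁅b.val, a.val⁆ * ⁅c.val, a.val⁆ := by
      rw [PGroup.comm_mul_left hR, PGroup.comm_mul_left hR, (hc1 _ (hz _ _) a.val).2, mul_one]
    have hcm : ∀ x y u v : R, Commute ⁅x, y⁆ ⁅u, v⁆ := fun x y u v =>
      (Subgroup.mem_center_iff.1 (hR (PGroup.commutatorElement_mem_commutator x y)) _).symm
    rw [e1, e2, (hcm _ _ _ _).mul_pow, (hcm _ _ _ _).mul_pow]
    have hu := Subgroup.mem_center_iff.1 (hz b.val a.val)
    have hv := Subgroup.mem_center_iff.1 (hz c.val a.val)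
    have hw := Subgroup.mem_center_iff.1 (hz c.val b.val)
    simp only [mul_assoc]
    congr 2
    rw [← mul_assoc (⁅b.val, a.val⁆ ^ k) c.val, ← hu c.val, mul_assoc]
    congr 1
    rw [← mul_assoc, hw]
  one_mul a := BaerGroup.ext' (by show 1 * a.val * ⁅a.val, (1 : R)⁆ ^ k = a.val; simp)
  mul_one a := BaerGroup.ext' (by show a.val * 1 * ⁅(1 : R), a.val⁆ ^ k = a.val; simp)
  inv_mul_cancel a := BaerGroup.ext' (by
    show a.val⁻¹ * a.val * ⁅a.val, a.val⁻¹⁆ ^ k = 1
    simp [commutatorElement_def])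
  mul_comm a b := by
    apply BaerGroup.ext'
    show a.val * b.val * ⁅b.val, a.val⁆ ^ k = b.val * a.val * ⁅a.val, b.val⁆ ^ k
    set w := ⁅b.val, a.val⁆ with hw
    have hwc := Subgroup.mem_center_iff.1 (hR (PGroup.commutatorElement_mem_commutator b.val a.val))
    rw [← commutatorElement_inv b.val a.val, ← hw, inv_pow, eq_mul_inv_iff_mul_eq, mul_assoc,
      ← pow_add, ← two_mul, hk, hwc, ← PGroup.mul_eq_comm_mul_swap]

/-- The fixed point criterion for exponent `p` and class two. -/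
theorem trivial_of_fixedPoints_class_two {p : ℕ} [hp : Fact p.Prime] (hp2 : p ≠ 2) [Finite R]
    (hR : commutator R ≤ Subgroup.center R) (hexp : ∀ r : R, r ^ p = 1) (hRp : IsPGroup p R)
    {Q E : Type*} [Group Q] [Finite Q] [Group E] (hQ : (Nat.card Q).Coprime p) (hE : IsPGroup p E)
    (φ : Q →* MulAut R) (θ : E →* MulAut R)
    (hnorm : ∀ e : E, ∃ σ : Q ≃ Q, ∀ q r, θ e (φ q r) = φ (σ q) (θ e r))
    (hfix : ∀ r : R, (∀ e, θ e r = r) → ∀ q, φ q r = r) : ∀ q r, φ q r = r := by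
  classical
  haveI : Fintype Q := Fintype.ofFinite Q
  set k := (p + 1) / 2 with hkdef
  have hk : ∀ a b : R, ⁅a, b⁆ ^ (2 * k) = ⁅a, b⁆ := fun a b => by
    obtain ⟨j, hj⟩ := hp.out.odd_of_ne_two hp2
    rw [show 2 * k = p + 1 by omega, pow_succ, hexp, one_mul]
  letI := baerCommGroup hR k hk
  haveI : Finite (BaerGroup R) := Finite.of_equiv R
    ⟨BaerGroup.mk, BaerGroup.val, fun _ => rfl, fun _ => rfl⟩
  have hval : ∀ a b : BaerGroup R, (a * b).val = a.val * b.val * ⁅b.val, a.val⁆ ^ k := fun _ _ => rfl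
  let lift : MulAut R → BaerGroup R →* BaerGroup R := fun f =>
    { toFun := fun a => ⟨f a.val⟩
      map_one' := BaerGroup.ext' (map_one f)
      map_mul' := fun a b => BaerGroup.ext' (by simp [hval, map_commutatorElement]) }
  have hlift : ∀ f a, (lift f a).val = f a.val := fun _ _ => rfl
  let π : BaerGroup R →* BaerGroup R :=
    { toFun := fun a => ∏ q : Q, lift (φ q) a
      map_one' := Finset.prod_eq_one fun q _ => map_one (lift (φ q))
      map_mul' := fun a b => by simp [Finset.prod_mul_distrib] }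
  have hπ : ∀ a, π a = ∏ q : Q, lift (φ q) a := fun _ => rfl
  intro q₀ r
  by_contra hne
  have hπq : π (lift (φ q₀) ⟨r⟩) = π ⟨r⟩ := by
    rw [hπ, hπ]
    refine Fintype.prod_equiv (Equiv.mulRight q₀) _ _ fun q => ?_
    apply BaerGroup.ext'
    simp [hlift]
  have hker : π.ker ≠ ⊥ := by
    intro h
    exact hne (congrArg BaerGroup.val ((MonoidHom.ker_eq_bot_iff π).1 h hπq))
  have hBp : IsPGroup p (BaerGroup R) := by
    obtain ⟨n, hn⟩ := IsPGroup.iff_card.1 hRp
    refine IsPGroup.of_card (n := n) ?_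
    rw [← hn]
    exact Nat.card_congr ⟨BaerGroup.val, BaerGroup.mk, fun _ => rfl, fun _ => rfl⟩
  have hstab : ∀ (e : E) (a : BaerGroup R), a ∈ π.ker → lift (θ e) a ∈ π.ker := by
    intro e a ha
    obtain ⟨σ, hσ⟩ := hnorm e
    rw [MonoidHom.mem_ker, hπ] at ha ⊢
    have h1 : lift (θ e) (∏ q : Q, lift (φ q) a) = 1 := by rw [ha, map_one]
    rw [map_prod] at h1
    rw [← h1]
    refine (Fintype.prod_equiv σ _ _ fun q => ?_).symm
    apply BaerGroup.ext'
    simp [hlift, hσ]
  letI : MulAction E π.ker :=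
    { smul := fun e a => ⟨lift (θ e) a, hstab e a a.2⟩
      one_smul := fun a => Subtype.ext (BaerGroup.ext' (by
        show θ 1 (a : BaerGroup R).val = _; simp))
      mul_smul := fun e f a => Subtype.ext (BaerGroup.ext' (by
        show θ (e * f) (a : BaerGroup R).val = θ e (θ f _); simp)) }
  have hdvd : p ∣ Nat.card π.ker :=
    (hBp.to_subgroup π.ker).card_eq_or_dvd.resolve_left fun h => hker (Subgroup.card_eq_one.1 h)
  have h1 : (1 : π.ker) ∈ MulAction.fixedPoints E π.ker := fun e => Subtype.ext (map_one (lift (θ e)))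
  obtain ⟨⟨w, hw⟩, hwfix, hw1⟩ :=
    hE.exists_fixed_point_of_prime_dvd_card_of_fixed_point π.ker hdvd h1
  have hq : ∀ q, φ q w.val = w.val := hfix w.val fun e =>
    congrArg (fun z : π.ker => (z : BaerGroup R).val) (hwfix e)
  have hwpow : w ^ Nat.card Q = 1 := by
    rw [Nat.card_eq_fintype_card, ← Finset.card_univ, ← Finset.prod_const]
    refine Eq.trans ?_ hw
    rw [hπ]
    exact Finset.prod_congr rfl fun q _ => BaerGroup.ext' (hq q).symm
  apply hw1
  refine Subtype.ext ?_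
  show 1 = w
  obtain ⟨j, hj⟩ := IsPGroup.iff_orderOf.1 hBp w
  have h2 := orderOf_dvd_of_pow_eq_one hwpow
  rw [hj] at h2
  have := Nat.eq_one_of_dvd_coprimes ((hQ.symm).pow_left j) dvd_rfl h2
  rw [← hj, orderOf_eq_one_iff] at this
  exact this.symm

end Baer

section Subgroups

variable {G : Type*} [Group G] [Finite G] {p : ℕ} [hpf : Fact p.Prime]

/-- `p` odd: if `Q` centralizes the fixed points of `E` on `R` it centralizes `R`. -/
theorem le_centralizer_of_fixedPoints (hp : p ≠ 2) {E Q : Subgroup G} (hE : IsPGroup p E)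
    (hQ : (Nat.card Q).Coprime p) (hEQ : E ≤ Subgroup.normalizer (Q : Set G)) :
    ∀ {R : Subgroup G}, IsPGroup p R → E ≤ Subgroup.normalizer (R : Set G) →
      Q ≤ Subgroup.normalizer (R : Set G) →
      R ⊓ Subgroup.centralizer (E : Set G) ≤ Subgroup.centralizer (Q : Set G) →
      R ≤ Subgroup.centralizer (Q : Set G) := by
  intro R
  induction R using WellFoundedLT.induction with
  | ind R ih =>
  intro hR hER hQR hfix
  have hsub : ∀ X : Subgroup G, X < R → E ≤ Subgroup.normalizer (X : Set G) →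
      Q ≤ Subgroup.normalizer (X : Set G) → X ≤ Subgroup.centralizer (Q : Set G) := fun X hX hEX hQX =>
    ih X hX (hR.to_le hX.le) hEX hQX ((inf_le_inf_right _ hX.le).trans hfix)
  have hcop : (Nat.card Q).Coprime (Nat.card R) := by
    obtain ⟨n, hn⟩ := IsPGroup.iff_card.1 hR
    rw [hn]; exact hQ.pow_right n
  -- `R = ⁅R, Q⁆`
  have hRQ : ⁅R, Q⁆ ≤ R := OddLocal43.commutator_le_of_normalizes hQR
  rcases hRQ.eq_or_lt with hfull | hlt
  swap
  · have h := hsub _ hlt (OddLocal43.normalizes_commutator hER hEQ)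
      (OddLocal43.normalizes_commutator hQR Subgroup.le_normalizer)
    exact OddLocal43.le_centralizer_of_double_commutator hQR hcop h
  rcases eq_or_ne R ⊥ with rfl | hR0
  · exact bot_le
  haveI := hR.isNilpotent
  set D := ⁅R, R⁆ with hD
  have hDR : D < R := by
    refine lt_of_le_of_ne (Subgroup.commutator_le_self R) fun h => hR0 ?_
    have hder : ∀ n, R ≤ (derivedSeries R n).map R.subtype := by
      intro n
      induction n with
      | zero => rw [derivedSeries_zero, ← MonoidHom.range_eq_map, Subgroup.range_subtype]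
      | succ n ihn =>
        rw [derivedSeries_succ, Subgroup.map_commutator]
        exact h.ge.trans (Subgroup.commutator_mono ihn ihn)
    obtain ⟨n, hn⟩ := (Group.isSolvable_def (G := R)).1 inferInstance
    simpa [hn] using hder n
  have hDQ : D ≤ Subgroup.centralizer (Q : Set G) := hsub D hDR
    (OddLocal43.normalizes_commutator hER hER) (OddLocal43.normalizes_commutator hQR hQR)
  -- the derived subgroup is central, by the three subgroup lemma
  have hDc : ⁅R, D⁆ = ⊥ := by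
    have h2 : ⁅⁅R, D⁆, Q⁆ = ⊥ := by
      rw [Subgroup.commutator_eq_bot_iff_le_centralizer]
      exact (Subgroup.le_normalizer_iff_commutator_le_right.1
        ((OddLocal43.normalizes_commutator Subgroup.le_normalizer Subgroup.le_normalizer))).trans hDQ
    have h1 : ⁅⁅D, Q⁆, R⁆ = ⊥ := by
      rw [Subgroup.commutator_eq_bot_iff_le_centralizer.2 hDQ, Subgroup.commutator_bot_left]
    have h3 := Subgroup.commutator_commutator_eq_bot_of_rotate h2 h1
    rwa [Subgroup.commutator_comm Q R, hfull] at h3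
  have hcls : commutator R ≤ Subgroup.center R := by
    rw [commutator_def, Subgroup.commutator_le]
    intro a _ b _
    rw [Subgroup.mem_center_iff]
    intro c
    refine Subtype.ext ?_
    have : ⁅(c : G), ((⁅a, b⁆ : R) : G)⁆ ∈ ⁅R, D⁆ :=
      Subgroup.commutator_mem_commutator c.2 (Subgroup.commutator_mem_commutator a.2 b.2)
    rw [hDc, Subgroup.mem_bot, commutatorElement_eq_one_iff_mul_comm] at this
    exact this
  -- exponent `p`
  let O : Subgroup G :=
    { carrier := {x | ∃ h : x ∈ R, (⟨x, h⟩ : R) ^ p = 1}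
      one_mem' := ⟨R.one_mem, Subtype.ext (one_pow p)⟩
      mul_mem' := fun {a b} ⟨ha, ha'⟩ ⟨hb, hb'⟩ =>
        ⟨R.mul_mem ha hb, PGroup.pow_eq_one_mul_classTwo hcls hpf.out hp ha' hb'⟩
      inv_mem' := fun {a} ⟨ha, ha'⟩ => ⟨R.inv_mem ha, by
        have : (⟨a⁻¹, R.inv_mem ha⟩ : R) = (⟨a, ha⟩ : R)⁻¹ := rfl
        rw [this, inv_pow, ha', inv_one]⟩ }
  have hOnorm : ∀ {A : Subgroup G}, A ≤ Subgroup.normalizer (R : Set G) →
      A ≤ Subgroup.normalizer (O : Set G) := by
    intro A hA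
    refine Coprime.le_normalizer_of_conj_mem fun g hg x hx => ?_
    obtain ⟨hxR, hx'⟩ := hx
    refine ⟨(Subgroup.mem_normalizer_iff.1 (hA hg) x).1 hxR, Subtype.ext ?_⟩
    show (g * x * g⁻¹) ^ p = 1
    rw [conj_pow, show x ^ p = 1 from congrArg Subtype.val hx', mul_one, mul_inv_cancel]
  have hOR : O ≤ R := fun x hx => hx.1
  rcases hOR.eq_or_lt with hO | hO
  swap
  · have h := hsub O hO (hOnorm hER) (hOnorm hQR)
    exact OddLocal43.le_centralizer_of_order_p hp hQ hR hQR fun x hx hxo =>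
      h ⟨hx, Subtype.ext (by show x ^ p = 1; rw [← hxo, pow_orderOf_eq_one])⟩
  have hexp : ∀ r : R, r ^ p = 1 := fun r => by
    obtain ⟨h, h'⟩ : (r : G) ∈ O := hO.ge r.2
    exact h'
  intro r hr
  rw [Subgroup.mem_centralizer_iff]
  intro q hq
  have key := trivial_of_fixedPoints_class_two hp hcls hexp hR hQ hE
    (R.normalizerMonoidHom.comp (Subgroup.inclusion hQR))
    (R.normalizerMonoidHom.comp (Subgroup.inclusion hER))
    (fun e => ⟨
      { toFun := fun x => ⟨e * x * (e : G)⁻¹, (Subgroup.mem_normalizer_iff.1 (hEQ e.2) x).1 x.2⟩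
        invFun := fun x => ⟨(e : G)⁻¹ * x * e, by
          have := (Subgroup.mem_normalizer_iff.1 (hEQ (E.inv_mem e.2)) x).1 x.2
          simpa using this⟩
        left_inv := fun x => Subtype.ext (by simp [mul_assoc])
        right_inv := fun x => Subtype.ext (by simp [mul_assoc]) },
      fun x s => Subtype.ext (by
        show (e : G) * ((x : G) * s * (x : G)⁻¹) * (e : G)⁻¹ =
          ((e : G) * x * (e : G)⁻¹) * ((e : G) * s * (e : G)⁻¹) * ((e : G) * x * (e : G)⁻¹)⁻¹
        group)⟩)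
    (fun s hs x => by
      refine Subtype.ext ?_
      show (x : G) * s * (x : G)⁻¹ = s
      have hsC : (s : G) ∈ Subgroup.centralizer (Q : Set G) := hfix ⟨s.2, by
        refine Subgroup.mem_centralizer_iff.2 fun e he => ?_
        have h := congrArg Subtype.val (hs ⟨e, he⟩)
        change e * (s : G) * e⁻¹ = s at h
        exact mul_inv_eq_iff_eq_mul.1 h⟩
      rw [Subgroup.mem_centralizer_iff.1 hsC x x.2, mul_inv_cancel_right])
    ⟨q, hq⟩ ⟨r, hr⟩
  have h := congrArg Subtype.val key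
  change q * r * q⁻¹ = r at h
  exact mul_inv_eq_iff_eq_mul.1 h

/-- The class two version, valid for every prime. -/
theorem le_centralizer_of_fixedPoints_class_two {E Q R : Subgroup G}
    (hR : IsPGroup p R) (hQ : (Nat.card Q).Coprime p) (hEQ : E ≤ Subgroup.normalizer (Q : Set G))
    (hER : E ≤ Subgroup.normalizer (R : Set G)) (hQR : Q ≤ Subgroup.normalizer (R : Set G))
    (hz : ∀ r ∈ R, ∀ e ∈ E, ⁅r, e⁆ ∈ Subgroup.centralizer (R : Set G) ⊓ Subgroup.centralizer (E : Set G))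
    (hfix : R ⊓ Subgroup.centralizer (E : Set G) ≤ Subgroup.centralizer (Q : Set G)) :
    R ≤ Subgroup.centralizer (Q : Set G) := by
  have hcop : (Nat.card Q).Coprime (Nat.card R) := by
    obtain ⟨n, hn⟩ := IsPGroup.iff_card.1 hR
    rw [hn]; exact hQ.pow_right n
  have hre : ∀ r ∈ R, ∀ e ∈ E, ⁅r, e⁆ ∈ R := fun r hr e he => by
    rw [commutatorElement_def]
    have := R.mul_mem hr ((Subgroup.mem_normalizer_iff.1 (hER he) r⁻¹).1 (R.inv_mem hr))
    simpa [mul_assoc] using this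
  have hfixed : ∀ r ∈ R, ∀ e ∈ E, ∀ q ∈ Q, q * ⁅r, e⁆ = ⁅r, e⁆ * q := fun r hr e he q hq =>
    Subgroup.mem_centralizer_iff.1 (hfix ⟨hre r hr e he, (hz r hr e he).2⟩) q hq
  -- the twisting elements of `Q` centralize `R`
  have hconj : ∀ e ∈ E, ∀ r ∈ R, ∀ q ∈ Q, ⁅q * r * q⁻¹, e⁆ = ⁅r, e⁆ := by
    intro e he r hr q hq
    set q' := q⁻¹ * e * q * e⁻¹ with hq'def
    have hq' : q' ∈ Q := by
      have h := Q.mul_mem (Q.inv_mem hq) ((Subgroup.mem_normalizer_iff.1 (hEQ he) q).1 hq)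
      simpa [hq'def, mul_assoc] using h
    have hqe : q⁻¹ * e * q = q' * e := by rw [hq'def]; group
    have hconjR : ∀ x ∈ Q, ∀ s ∈ R, x * s * x⁻¹ ∈ R := fun x hx s hs =>
      (Subgroup.mem_normalizer_iff.1 (hQR hx) s).1 hs
    have hexp : ∀ s ∈ R, ⁅q * s * q⁻¹, e⁆ = q * ⁅s, q'⁆ * q⁻¹ * ⁅s, e⁆ := by
      intro s hs
      calc ⁅q * s * q⁻¹, e⁆ = q * ⁅s, q⁻¹ * e * q⁆ * q⁻¹ := by
            rw [commutatorElement_def, commutatorElement_def]; group
        _ = q * (⁅s, q'⁆ * (q' * ⁅s, e⁆ * q'⁻¹)) * q⁻¹ := by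
            rw [hqe, commutatorElement_def, commutatorElement_def, commutatorElement_def]; group
        _ = q * (⁅s, q'⁆ * ⁅s, e⁆) * q⁻¹ := by rw [hfixed s hs e he q' hq', mul_inv_cancel_right]
        _ = q * ⁅s, q'⁆ * (⁅s, e⁆ * q⁻¹) := by simp only [mul_assoc]
        _ = q * ⁅s, q'⁆ * q⁻¹ * ⁅s, e⁆ := by
            rw [← hfixed s hs e he q⁻¹ (Q.inv_mem hq), mul_assoc, mul_assoc, mul_assoc]
    have hsq : ∀ s ∈ R, q' * ⁅s, q'⁆ = ⁅s, q'⁆ * q' := by
      intro s hs
      have h1 := hexp s hs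
      have h2 : q * ⁅s, q'⁆ * q⁻¹ = ⁅q * s * q⁻¹, e⁆ * ⁅s, e⁆⁻¹ := by rw [h1, mul_inv_cancel_right]
      have h3 : ∀ x ∈ Q, x * (q * ⁅s, q'⁆ * q⁻¹) = q * ⁅s, q'⁆ * q⁻¹ * x := fun x hx => by
        rw [h2]
        have c1 : Commute x ⁅q * s * q⁻¹, e⁆ := hfixed _ (hconjR q hq s hs) e he x hx
        have c2 : Commute x ⁅s, e⁆ := hfixed s hs e he x hx
        exact (c1.mul_right c2.inv_right).eq
      have h4 := h3 (q * q' * q⁻¹) (Q.mul_mem (Q.mul_mem hq hq') (Q.inv_mem hq))
      have h5 : q * (q' * ⁅s, q'⁆) * q⁻¹ = q * (⁅s, q'⁆ * q') * q⁻¹ := by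
        calc q * (q' * ⁅s, q'⁆) * q⁻¹ = q * q' * q⁻¹ * (q * ⁅s, q'⁆ * q⁻¹) := by group
          _ = q * ⁅s, q'⁆ * q⁻¹ * (q * q' * q⁻¹) := h4
          _ = _ := by group
      exact mul_left_cancel (mul_right_cancel h5)
    have hone : ⁅r, q'⁆ = 1 := by
      have hc : Commute q' ⁅r, q'⁆ := hsq r hr
      have hcR : ⁅r, q'⁆ ∈ R := by
        rw [commutatorElement_def]
        have := R.mul_mem hr (hconjR q' hq' _ (R.inv_mem hr))
        simpa [mul_assoc] using this
      have h6 : q' * r * q'⁻¹ = ⁅r, q'⁆⁻¹ * r := by rw [commutatorElement_def]; group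
      have h7 := OddLocal43.commute_of_stab hc.inv_right h6
        ((hcop.coprime_dvd_left ((Subgroup.orderOf_coe (⟨q', hq'⟩ : Q)).dvd.trans
          (orderOf_dvd_natCard _))).coprime_dvd_right ((Subgroup.orderOf_coe
            (⟨_, R.inv_mem hcR⟩ : R)).dvd.trans (orderOf_dvd_natCard _)))
      exact commutatorElement_eq_one_iff_mul_comm.2 h7.symm
    rw [hexp r hr, hone]
    simp
  have hRC : ⁅R, Q⁆ ≤ Subgroup.centralizer (Q : Set G) := by
    refine le_trans (le_inf (OddLocal43.commutator_le_of_normalizes hQR) ?_) hfix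
    rw [Subgroup.commutator_le]
    intro r hr q hq
    rw [Subgroup.mem_centralizer_iff]
    intro e he
    have h1 : q * r⁻¹ * q⁻¹ ∈ R := (Subgroup.mem_normalizer_iff.1 (hQR hq) r⁻¹).1 (R.inv_mem hr)
    have h2 : ⁅r * (q * r⁻¹ * q⁻¹), e⁆ = 1 := by
      calc ⁅r * (q * r⁻¹ * q⁻¹), e⁆ = r * ⁅q * r⁻¹ * q⁻¹, e⁆ * r⁻¹ * ⁅r, e⁆ := by
            rw [commutatorElement_def, commutatorElement_def, commutatorElement_def]; group
        _ = r * ⁅r⁻¹, e⁆ * r⁻¹ * ⁅r, e⁆ := by rw [hconj e he r⁻¹ (R.inv_mem hr) q hq]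
        _ = 1 := by rw [commutatorElement_def, commutatorElement_def]; group
    rw [show ⁅r, q⁆ = r * (q * r⁻¹ * q⁻¹) by rw [commutatorElement_def]; group]
    exact (commutatorElement_eq_one_iff_mul_comm.1 h2).symm
  exact OddLocal43.le_centralizer_of_double_commutator hQR hcop hRC

end Subgroups

end Cfsg.Agent.OddLocal44
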