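import Cfsg.Agent.S3611

/-!
# Prime degree with the Sylow normalizer of half the possible order: coordinates

Double transitivity, coordinates in which every `x ↦ c + a * x` (`a` a nonzero square) lies in
the group, and the bound of two on the orbits of a two-point stabilizer.
-/

set_option autoImplicit false
open Cfsg MulAction

namespace Cfsg.Agent.OddLocal44

open Agent.Perm

theorem half_normalizer_setup {G Ω : Type*} [Group G] [Finite G] [MulAction G Ω] [FaithfulSMul G Ω]
    [Fintype Ω] [DecidableEq Ω] [IsPretransitive G Ω] {p : ℕ} [Fact p.Prime]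
    (hcard : Fintype.card Ω = p) (hins : ¬ Group.IsSolvable G) (P : Sylow p G)
    (hN : 2 * Nat.card ↥(Subgroup.normalizer ((P : Subgroup G) : Set G)) = p * (p - 1)) :
    5 ≤ p ∧ IsMultiplyPretransitive G Ω 2 ∧
    ∃ e : ZMod p ≃ Ω,
      (∀ s c : ZMod p, s ≠ 0 → IsSquare s → ∃ g : G, ∀ x, g • e x = e (c + s * x)) ∧
      ∀ {a b : Ω}, a ≠ b → ∀ c : Fin 3 → Ω, (∀ i, c i ≠ a) → (∀ i, c i ≠ b) →
        (∀ i j, i ≠ j → ∀ g : G, g • a = a → g • b = b → g • c i ≠ c j) → False := by
  have hp : p.Prime := Fact.out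
  have hΩ : Nat.card Ω = p := Nat.card_eq_fintype_card.trans hcard
  classical
  haveI : Nonempty Ω := (Nat.card_pos_iff.mp (by rw [hΩ]; exact hp.pos)).1
  let π := MulAction.toPermHom G Ω
  have hπ : Function.Injective π := fun x y h =>
    FaithfulSMul.eq_of_smul_eq_smul (α := Ω) fun z => Equiv.congr_fun h z
  let H : Subgroup (Equiv.Perm Ω) := π.range
  let ε : G ≃* H := MonoidHom.ofInjective hπ
  have hsmul : ∀ (g : G) (x : Ω), ε g • x = g • x := fun g x => rfl
  haveI : IsPretransitive H Ω := ⟨fun x y => by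
    obtain ⟨g, hg⟩ := exists_smul_eq G x y
    exact ⟨ε g, hg⟩⟩
  have hnsH : ¬ Group.IsSolvable H := fun h =>
    hins (solvable_of_solvable_injective (f := ε.toMonoidHom) ε.injective)
  have hp5 : 5 ≤ p := PrimeDeg.five_le_of_not_isSolvable hcard hnsH
  have h2H : IsMultiplyPretransitive H Ω 2 :=
    (Cfsg.Agent.FGS80.Burnside.isSolvable_or_two_transitive (G := H) hcard).resolve_left hnsH
  have h2 : IsMultiplyPretransitive G Ω 2 := is_two_pretransitive_iff.mpr fun {x y z w} hxy hzw => by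
    obtain ⟨h, h1, h3⟩ := is_two_pretransitive_iff.mp h2H hxy hzw
    obtain ⟨g, rfl⟩ := ε.surjective h
    exact ⟨g, h1, h3⟩
  -- coordinates
  have hdvd : p ∣ Nat.card G := by
    have h := Agent.Perm.card_dvd_card (G := G) (X := Ω)
    rwa [hΩ] at h
  have hPp : Nat.card (P : Subgroup G) = p := by
    obtain ⟨k, hk⟩ := IsPGroup.iff_card.mp P.2
    have h1 : p ∣ Nat.card (P : Subgroup G) := P.dvd_card_of_dvd_card hdvd
    have h3 : p ^ k ∣ Nat.card H := hk ▸ (Nat.card_congr ε.toEquiv) ▸ Subgroup.card_subgroup_dvd_card _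
    rcases k with _ | _ | k
    · rw [hk, pow_zero] at h1; exact absurd h1 hp.not_dvd_one
    · rw [hk, pow_one]
    · exact absurd ((pow_dvd_pow p (by omega)).trans h3) (PrimeDeg.not_sq_dvd_card hcard)
  obtain ⟨⟨τ, hτP⟩, hτo⟩ := exists_prime_orderOf_dvd_card' (G := (P : Subgroup G)) p (by rw [hPp])
  rw [Subgroup.orderOf_mk] at hτo
  have hPz : Subgroup.zpowers τ = (P : Subgroup G) :=
    Subgroup.eq_of_le_of_card_ge (Subgroup.zpowers_le.mpr hτP)
      (by rw [hPp, Nat.card_zpowers, hτo])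
  obtain ⟨e, he⟩ := PrimeDeg.exists_coord (p := p) hΩ (τ := π τ)
    (by rw [orderOf_injective π hπ, hτo])
  have hτe : ∀ i, τ • e i = e (i + 1) := he
  -- the multipliers
  let A : Subgroup (ZMod p)ˣ :=
    { carrier := {a | ∃ (g : G) (c : ZMod p), ∀ x, g • e x = e (c + (a : ZMod p) * x)}
      one_mem' := ⟨1, 0, fun x => by simp⟩
      mul_mem' := by
        rintro a b ⟨g, c, hg⟩ ⟨k, d, hk⟩
        exact ⟨g * k, c + (a : ZMod p) * d, fun x => by
          rw [mul_smul, hk, hg]; congr 1; push_cast; ring⟩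
      inv_mem' := by
        rintro a ⟨g, c, hg⟩
        refine ⟨g⁻¹, -((a⁻¹ : (ZMod p)ˣ) : ZMod p) * c, fun x => ?_⟩
        rw [inv_smul_eq_iff, hg]
        congr 1
        rw [mul_add, ← mul_assoc, ← mul_assoc, mul_neg, Units.mul_inv]
        ring }
  have hNA : ∀ n ∈ Subgroup.normalizer ((P : Subgroup G) : Set G), ∃ (c : ZMod p) (a : A),
      ∀ x, n • e x = e (c + ((a : (ZMod p)ˣ) : ZMod p) * x) := by
    intro n hn
    have h1 : n * τ * n⁻¹ ∈ Subgroup.zpowers τ := by
      rw [hPz]; exact (Subgroup.mem_normalizer_iff.mp hn τ).mp hτP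
    obtain ⟨j, hj⟩ := ((isOfFinOrder_of_finite τ).mem_powers_iff_mem_zpowers).mpr h1
    have hj' : ε n * ε τ * (ε n)⁻¹ = ε τ ^ j := by
      rw [← map_mul, ← map_inv, ← map_mul, ← map_pow]
      exact congrArg ε hj.symm
    have hx := PrimeDeg.conjPerm_add_one_of_normalizes (G := H) (e := e) (τ := ε τ) (g := ε n)
      hτe hj'
    have hj0 : (j : ZMod p) ≠ 0 := fun h0 => by
      have h3 := hx 1
      rw [h0, zero_mul, add_zero] at h3
      exact one_ne_zero ((PrimeDeg.conjPerm e (ε n)).injective h3)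
    have hg : ∀ x, n • e x = e (PrimeDeg.conjPerm e (ε n) 0 + (j : ZMod p) * x) := fun x => by
      rw [← hx, ← PrimeDeg.apply_coord]; rfl
    exact ⟨_, ⟨Units.mk0 _ hj0, n, _, hg⟩, hg⟩
  choose cN aN hcN using fun n : Subgroup.normalizer ((P : Subgroup G) : Set G) => hNA n.1 n.2
  have hinj : Function.Injective fun n => (cN n, aN n) := by
    intro n m h
    simp only [Prod.mk.injEq] at h
    apply Subtype.ext
    apply FaithfulSMul.eq_of_smul_eq_smul (α := Ω)
    intro x
    obtain ⟨i, rfl⟩ := e.surjective x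
    rw [hcN, hcN, h.1, h.2]
  have hle := Nat.card_le_card_of_injective _ hinj
  rw [Nat.card_prod, Nat.card_zmod] at hle
  have hidx : A.index ≤ 2 := by
    have h1 := A.card_mul_index
    rw [Nat.card_units, Nat.card_zmod] at h1
    have h3 : p - 1 ≤ 2 * Nat.card A := by
      have h4 : p * (p - 1) ≤ p * (2 * Nat.card A) := by
        rw [← hN, mul_left_comm p 2]; exact Nat.mul_le_mul_left 2 hle
      exact Nat.le_of_mul_le_mul_left h4 hp.pos
    rw [← h1, mul_comm 2 (Nat.card A)] at h3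
    exact Nat.le_of_mul_le_mul_left h3 Nat.card_pos
  obtain ⟨k₀, hk₀⟩ : ∃ k₀ : (ZMod p)ˣ, ∀ k, k ∈ A ∨ k * k₀⁻¹ ∈ A := by
    rcases (show A.index = 1 ∨ A.index = 2 by
      have := Subgroup.index_ne_zero_of_finite (H := A); omega) with h | h
    · exact ⟨1, fun k => Or.inl (by rw [Subgroup.index_eq_one.mp h]; exact Subgroup.mem_top k)⟩
    · obtain ⟨k₀, hk⟩ := Subgroup.index_eq_two_iff.mp h
      refine ⟨k₀⁻¹, fun k => ?_⟩
      rw [inv_inv]
      rcases hk k with h' | h'
      · exact Or.inr h'.1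
      · exact Or.inl h'.1
  have hirr : ∀ W : Subrepresentation (Cfsg.permRep (ZMod p) G Ω),
      (Cfsg.permConstants (ZMod p) G Ω).toSubmodule ≤ W.toSubmodule →
      W.toSubmodule ≤ (Cfsg.permSumZero (ZMod p) G Ω).toSubmodule →
      W = Cfsg.permConstants (ZMod p) G Ω ∨ W = Cfsg.permSumZero (ZMod p) G Ω := by
    intro W h1 h3
    let W' : Subrepresentation (Cfsg.permRep (ZMod p) H Ω) :=
      { toSubmodule := W.toSubmodule
        apply_mem_toSubmodule := fun g v hv => by
          obtain ⟨g, rfl⟩ := ε.surjective g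
          have h := W.apply_mem_toSubmodule g hv
          have heq : Cfsg.permRep (ZMod p) H Ω (ε g) v = Cfsg.permRep (ZMod p) G Ω g v := by
            funext x
            rw [permRep_apply, permRep_apply, ← map_inv, hsmul]
          rw [heq]; exact h }
    rcases PrimeDeg.heart_irreducible (τ := ε τ) (e := e) hnsH hτe W' h1 h3 with h | h
    · have h' := congrArg Subrepresentation.toSubmodule h
      exact Or.inl (Subrepresentation.toSubmodule_injective h')
    · have h' := congrArg Subrepresentation.toSubmodule h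
      exact Or.inr (Subrepresentation.toSubmodule_injective h')
  have hthree : ∀ {a b : Ω}, a ≠ b → ∀ c : Fin 3 → Ω, (∀ i, c i ≠ a) → (∀ i, c i ≠ b) →
      (∀ i j, i ≠ j → ∀ g : G, g • a = a → g • b = b → g • c i ≠ c j) → False :=
    fun hab c hca hcb hd => Cfsg.Agent.S3611.false_of_three hcard hp5 hirr h2 e τ hτe A k₀ hk₀
      (fun a ha => ha) hab c hca hcb hd
  refine ⟨hp5, h2, e, fun s c hs0 hs => ?_, fun hab cc hca hcb hd => hthree hab cc hca hcb hd⟩
  obtain ⟨r, rfl⟩ := hs
  have hr : r ≠ 0 := fun h => hs0 (by rw [h, mul_zero])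
  have hmem : Units.mk0 r hr * Units.mk0 r hr ∈ A := by
    rcases (show A.index = 1 ∨ A.index = 2 by
      have := Subgroup.index_ne_zero_of_finite (H := A); omega) with h | h
    · rw [Subgroup.index_eq_one.mp h]; exact Subgroup.mem_top _
    · exact Subgroup.mul_self_mem_of_index_two h _
  obtain ⟨g, c', hg⟩ := hmem
  have hτn : ∀ (n : ℕ) x, τ ^ n • e x = e ((n : ZMod p) + x) := by
    intro n
    induction n with
    | zero => intro x; simp
    | succ n ih => intro x; rw [pow_succ', mul_smul, ih, hτe]; congr 1; push_cast; ring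
  refine ⟨τ ^ (c - c').val * g, fun x => ?_⟩
  rw [mul_smul, hg, hτn, ZMod.natCast_zmod_val]
  congr 1
  simp only [Units.val_mul, Units.val_mk0]
  ring

end Cfsg.Agent.OddLocal44
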