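import Cfsg.Agent.OddLocal44.DihedralRing

/-!
# Graphs invariant under a regular dihedral group of twice odd order
-/

set_option autoImplicit false

open MonoidAlgebra Finset

namespace Cfsg.Agent.OddLocal44.Dihedral

theorem sum_cnt {H : Type*} [CommGroup H] [DecidableEq H] [Fintype H] (s t : Finset H) :
    ∑ z, cnt s t z = s.card * t.card := by
  simp only [cnt, Finset.card_filter]
  rw [Finset.sum_comm, ← smul_eq_mul, ← Finset.sum_const]
  refine Finset.sum_congr rfl fun x _ => ?_
  rw [← Fintype.sum_equiv (Equiv.mulLeft x) (fun z => if z ∈ t then 1 else 0) _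
    (fun z => by simp)]
  simp

theorem cnt_comm {H : Type*} [CommGroup H] [DecidableEq H] (s t : Finset H) (z : H) :
    cnt s t z = cnt t s z := by
  refine Finset.card_bij' (fun x _ => x⁻¹ * z) (fun x _ => x⁻¹ * z) ?_ ?_ ?_ ?_ <;>
    intro x hx <;> simp_all [mul_comm, mul_left_comm]

theorem false_of_graph {V H : Type*} [Fintype V] [DecidableEq V] [CommGroup H] [Fintype H]
    [DecidableEq H] [IsCyclic H] [MulAction H V] (hodd : Odd (Fintype.card H))
    (hm : 1 < Fintype.card H) (x₀ y₀ : V)
    (hbij : Function.Bijective fun q : H × Bool => q.1 • if q.2 then y₀ else x₀)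
    (t : Equiv.Perm V) (ht₁ : t y₀ = x₀) (hth : ∀ (h : H) x, t (h • x) = h⁻¹ • t x)
    (E : V → V → Prop) [DecidableRel E] (hsymm : ∀ x y, E x y → E y x) (hirr : ∀ x, ¬ E x x)
    (hinv : ∀ (h : H) x y, E (h • x) (h • y) ↔ E x y) (htE : ∀ x y, E (t x) (t y) ↔ E x y)
    (lam mu k : ℕ) (hreg : (univ.filter (E x₀)).card = k)
    (hcn : ∀ y, x₀ ≠ y → (univ.filter fun z => E x₀ z ∧ E y z).card = if E x₀ y then lam else mu)
    (hk : k + 2 ≤ Fintype.card V) (hmu : mu < k) (hlam : lam + 1 < k) : False := by
  classical
  set a : Finset H := univ.filter fun h => E x₀ (h • x₀) with ha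
  set b : Finset H := univ.filter fun h => E x₀ (h • y₀) with hb
  have hVcard : Fintype.card V = 2 * Fintype.card H := by
    rw [← Fintype.card_of_bijective hbij, Fintype.card_prod, Fintype.card_bool, mul_comm]
  have hinjx : ∀ {g h : H}, g • x₀ = h • x₀ → g = h := fun {g h} e =>
    congrArg Prod.fst (hbij.1 (a₁ := (g, false)) (a₂ := (h, false)) (by simpa using e))
  have hinjy : ∀ {g h : H}, g • y₀ = h • y₀ → g = h := fun {g h} e =>
    congrArg Prod.fst (hbij.1 (a₁ := (g, true)) (a₂ := (h, true)) (by simpa using e))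
  -- counting vertices through the two copies of `H`
  have hsplit : ∀ (P : V → Prop) [DecidablePred P], (univ.filter P).card =
      (univ.filter fun h : H => P (h • x₀)).card + (univ.filter fun h : H => P (h • y₀)).card := by
    intro P _
    simp only [Finset.card_filter]
    rw [← Fintype.sum_bijective _ hbij _ (fun v => if P v then 1 else 0) (fun q => rfl),
      Fintype.sum_prod_type]
    simp only [Fintype.sum_bool, if_true, Bool.false_eq_true, if_false, Finset.sum_add_distrib]
    exact add_comm _ _
  have hk' : a.card + b.card = k := by rw [← hreg, hsplit]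
  have ha1 : (1 : H) ∉ a := by simp [ha, hirr]
  have hinv' : ∀ x ∈ a, x⁻¹ ∈ a := by
    intro x hx
    simp only [ha, mem_filter, mem_univ, true_and] at hx ⊢
    have := (hinv x⁻¹ _ _).mpr hx
    rw [inv_smul_smul] at this
    exact hsymm _ _ this
  have hEx : ∀ z h : H, E (z • x₀) (h • x₀) ↔ h⁻¹ * z ∈ a := by
    intro z h
    rw [← hinv z⁻¹, inv_smul_smul, smul_smul]
    constructor
    · intro e
      have := hinv' _ (by simpa [ha] using e : z⁻¹ * h ∈ a)
      simpa using this
    · intro e
      simpa [ha] using hinv' _ e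
  have hExy : ∀ z h : H, E (z • x₀) (h • y₀) ↔ z⁻¹ * h ∈ b := by
    intro z h
    rw [← hinv z⁻¹, inv_smul_smul, smul_smul]
    simp [hb]
  have h1 : ∀ z : H, z ≠ 1 → cnt a a z + cnt b (b.image (·⁻¹)) z = if z ∈ a then lam else mu := by
    intro z hz
    have h := hcn (z • x₀) (fun e => hz (hinjx (g := 1) (by rwa [one_smul])).symm)
    rw [hsplit] at h
    simp only [ha, mem_filter, mem_univ, true_and]
    rw [← h]
    congr 1 <;> rw [cnt] <;> congr 1 <;> ext x <;>
      simp only [mem_filter, mem_univ, true_and, mem_image]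
    · rw [hEx, ha, mem_filter]; simp
    · rw [hExy, hb, mem_filter]
      simp only [mem_univ, true_and]
      refine and_congr_right fun _ => ⟨?_, fun e => ?_⟩
      · rintro ⟨y, hy, e⟩
        rw [inv_eq_iff_eq_inv.mp e] at hy
        simpa [mem_filter] using hy
      · exact ⟨z⁻¹ * x, by simpa [mem_filter] using e, by simp⟩
  have h2 : ∀ z : H, 2 * cnt a b z = if z ∈ b then lam else mu := by
    intro z
    have hne : x₀ ≠ z • y₀ := fun e => by
      have := hbij.1 (a₁ := (1, false)) (a₂ := (z, true)) (by simpa using e)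
      simp at this
    have h := hcn (z • y₀) hne
    rw [hsplit] at h
    rw [two_mul, show (if z ∈ b then lam else mu) = if E x₀ (z • y₀) then lam else mu by simp [hb],
      ← h]
    congr 1
    · rw [cnt]
      congr 1
      ext x
      simp only [ha, mem_filter, mem_univ, true_and]
      refine and_congr_right fun _ => ?_
      rw [← hExy x z]
      exact ⟨hsymm _ _, hsymm _ _⟩
    · rw [cnt_comm, cnt]
      congr 1
      ext x
      simp only [hb, mem_filter, mem_univ, true_and]
      refine and_congr_right fun _ => ?_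
      rw [← htE (z • y₀) (x • y₀), hth, hth, ht₁, hEx, inv_inv]
      constructor <;> intro e
      · simpa [mul_comm] using hinv' _ e
      · simpa [mul_comm] using hinv' _ e
  have h0 : cnt a a 1 + cnt b (b.image (·⁻¹)) 1 = k := by
    rw [← hk', cnt, cnt, filter_true_of_mem (fun x hx => by simpa using hinv' x hx),
      filter_true_of_mem (fun x hx => by simp [hx])]
  -- totals
  have hsum1 : (a.card : ℤ) * a.card + b.card * b.card =
      k + lam * a.card + mu * ((Fintype.card H : ℤ) - 1 - a.card) := by
    have hz : ∀ z : H, ((cnt a a z : ℤ) + cnt b (b.image (·⁻¹)) z) =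
        (if z = 1 then ((k : ℤ) - mu) else 0) + (if z ∈ a then ((lam : ℤ) - mu) else 0) + mu := by
      intro z
      by_cases hz : z = 1
      · subst hz; rw [if_pos rfl, if_neg ha1]; push_cast [← h0]; ring
      · have := congrArg (fun n : ℕ => (n : ℤ)) (h1 z hz)
        push_cast at this
        rw [this, if_neg hz]
        split_ifs <;> ring
    have := Finset.sum_congr (s₂ := (univ : Finset H)) rfl (fun z _ => hz z)
    rw [Finset.sum_add_distrib, ← Nat.cast_sum, ← Nat.cast_sum, sum_cnt, sum_cnt,
      card_image_of_injective _ inv_injective, Finset.sum_add_distrib, Finset.sum_add_distrib,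
      Finset.sum_ite_eq', if_pos (mem_univ _), Finset.sum_ite_mem, univ_inter, Finset.sum_const,
      Finset.sum_const, card_univ, nsmul_eq_mul, nsmul_eq_mul] at this
    push_cast at this
    linear_combination this
  have hsum2 : 2 * ((a.card : ℤ) * b.card) =
      lam * b.card + mu * ((Fintype.card H : ℤ) - b.card) := by
    have hz : ∀ z : H, (2 * (cnt a b z : ℤ)) =
        (if z ∈ b then ((lam : ℤ) - mu) else 0) + mu := by
      intro z
      have := congrArg (fun n : ℕ => (n : ℤ)) (h2 z)
      push_cast at this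
      rw [this]
      split_ifs <;> ring
    have := Finset.sum_congr (s₂ := (univ : Finset H)) rfl (fun z _ => hz z)
    rw [← Finset.mul_sum, ← Nat.cast_sum, sum_cnt, Finset.sum_add_distrib, Finset.sum_ite_mem,
      univ_inter, Finset.sum_const, Finset.sum_const, card_univ, nsmul_eq_mul, nsmul_eq_mul] at this
    push_cast at this
    linear_combination this
  have hkZ : (a.card : ℤ) + b.card = k := by exact_mod_cast hk'
  have hm' : (1 : ℤ) < Fintype.card H := by exact_mod_cast hm
  -- the copies are joined, but not completely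
  have hbne : b.Nonempty := by
    rw [nonempty_iff_ne_empty]
    intro hb0
    have hz := h2 1
    rw [hb0] at hz
    simp [cnt] at hz
    rw [hb0, card_empty, Nat.cast_zero, add_zero] at hkZ
    rw [hb0, ← hz, hkZ] at hsum1
    simp only [card_empty, Nat.cast_zero, mul_zero, zero_mul, add_zero] at hsum1
    have hk0 : (0 : ℤ) < k := by omega
    have : (k : ℤ) = 1 + lam := mul_right_cancel₀ hk0.ne' (by linear_combination hsum1)
    omega
  have hbu : b ≠ univ := by
    intro hb0
    rw [hb0, card_univ] at hkZ hsum1 hsum2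
    have hlam2 : (lam : ℤ) = 2 * a.card :=
      mul_right_cancel₀ (show (Fintype.card H : ℤ) ≠ 0 by omega) (by linear_combination -hsum2)
    have hak : (a.card : ℤ) + 1 < Fintype.card H := by omega
    have : (mu : ℤ) = k := mul_right_cancel₀
      (show (Fintype.card H : ℤ) - 1 - a.card ≠ 0 by omega)
      (by linear_combination -hsum1 - (a.card : ℤ) * hlam2 +
        ((Fintype.card H : ℤ) - a.card) * hkZ)
    omega
  -- parities
  obtain ⟨xb, hxb⟩ := hbne
  obtain ⟨yb, hyb⟩ : ∃ y, y ∉ b := by
    by_contra hh
    push Not at hh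
    exact hbu (eq_univ_of_forall hh)
  have hl := h2 xb
  have hg := h2 yb
  rw [if_pos hxb] at hl
  rw [if_neg hyb] at hg
  set l := cnt a b xb
  set g := cnt a b yb
  have hlZ : (lam : ℤ) = 2 * l := by exact_mod_cast hl.symm
  have hgZ : (mu : ℤ) = 2 * g := by exact_mod_cast hg.symm
  rw [hlZ, hgZ] at hsum1 hsum2
  set hh : ℤ := (l : ℤ) - g with hhdef
  have hee : ((a.card : ℤ) - b.card - hh) ^ 2 = k + hh ^ 2 - 2 * g := by
    rw [hhdef]; linear_combination hsum1 - hsum2
  have S : Srg a b hh ((a.card : ℤ) - b.card - hh) g := by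
    refine ⟨ha1, hinv', ?_, ?_, ?_, ?_, ⟨xb, hxb⟩, hbu⟩
    · apply MonoidAlgebra.ext
      refine Finsupp.ext fun z => ?_
      rw [sub_mul, coeff_sub, Finsupp.sub_apply, coeff_el_mul, coeff_cast_mul, coeff_cast_mul,
        coeff_el, coeff_el, if_pos (mem_univ z)]
      have := congrArg (fun n : ℕ => (n : ℤ)) (h2 z)
      push_cast at this
      rw [hlZ, hgZ] at this
      simp only [Int.cast_id]
      by_cases hz : z ∈ b
      · rw [if_pos hz] at this ⊢; rw [hhdef]; linarith
      · rw [if_neg hz] at this ⊢; linarith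
    · rw [← Int.cast_pow, show (el ℤ a - (hh : MonoidAlgebra ℤ H)) ^ 2 = el ℤ a * el ℤ a -
          ((2 * hh : ℤ) : MonoidAlgebra ℤ H) * el ℤ a + ((hh ^ 2 : ℤ) : MonoidAlgebra ℤ H) by
          push_cast; ring,
        show (2 : MonoidAlgebra ℤ H) * ((g : ℤ) : MonoidAlgebra ℤ H) =
          ((2 * g : ℤ) : MonoidAlgebra ℤ H) by push_cast; ring]
      apply MonoidAlgebra.ext
      refine Finsupp.ext fun z => ?_
      simp only [coeff_add, coeff_sub, Finsupp.add_apply, Finsupp.sub_apply, coeff_el_mul,
        coeff_cast_mul, coeff_cast, coeff_el, mem_univ, if_true, Int.cast_id]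
      by_cases hz : z = 1
      · subst hz
        rw [if_neg ha1, if_pos rfl, if_pos rfl, hee]
        have : ((cnt a a 1 : ℤ) + cnt b (b.image (·⁻¹)) 1) = k := by exact_mod_cast h0
        linarith
      · have := congrArg (fun n : ℕ => (n : ℤ)) (h1 z hz)
        push_cast at this
        rw [hlZ, hgZ] at this
        rw [if_neg hz, if_neg hz]
        by_cases hza : z ∈ a
        · rw [if_pos hza] at this ⊢; rw [hhdef]; linarith
        · rw [if_neg hza] at this ⊢; linarith
    · rw [hee]; omega
    · rw [hee, hhdef]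
      have : 2 * (l : ℤ) + 1 < k := by omega
      ring_nf
      linarith
  exact S.false hodd hm

end Cfsg.Agent.OddLocal44.Dihedral
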