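import Mathlib

/-!
# No strongly regular Cayley graph on a dihedral group of twice odd order

A strongly regular graph on two copies of a cyclic group `H` of odd order, invariant under `H` and
under an involution inverting `H` and exchanging the copies, is described by two subsets `a` (edges
inside a copy) and `b` (edges across).  They satisfy two equations in the group ring, `Srg` below;
here it is shown, by congruences in the group ring, that these have no solution.
-/

set_option autoImplicit false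

open MonoidAlgebra Finset

namespace Cfsg.Agent.OddLocal44.Dihedral

noncomputable section

variable {H : Type*} [CommGroup H] [DecidableEq H] {R : Type*} [CommRing R]

/-- The sum of a finite set in the group ring. -/
def el (R : Type*) [CommRing R] (s : Finset H) : MonoidAlgebra R H :=
  ∑ x ∈ s, single x 1

/-- The number of ways of writing `z` as a product from `s` and `t`. -/
def cnt (s t : Finset H) (z : H) : ℕ := (s.filter fun x => x⁻¹ * z ∈ t).card

theorem coeff_el (s : Finset H) (z : H) : (el R s).coeff z = if z ∈ s then 1 else 0 := by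
  rw [el, coeff_sum, Finsupp.finsetSum_apply]
  simp only [coeff_single_apply]
  rw [Finset.sum_ite_eq']

theorem coeff_el_mul (s t : Finset H) (z : H) :
    (el R s * el R t).coeff z = (cnt s t z : R) := by
  rw [el, el, Finset.sum_mul_sum, coeff_sum, Finsupp.finsetSum_apply, cnt,
    Finset.natCast_card_filter]
  refine Finset.sum_congr rfl fun x _ => ?_
  rw [coeff_sum, Finsupp.finsetSum_apply]
  simp only [single_mul_single, mul_one, coeff_single_apply]
  simp_rw [show ∀ y, (x * y = z) = (y = x⁻¹ * z) from fun y => propext eq_inv_mul_iff_mul_eq.symm]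
  rw [Finset.sum_ite_eq']

theorem coeff_cast (n : ℤ) (z : H) :
    ((n : MonoidAlgebra R H)).coeff z = if z = 1 then (n : R) else 0 := by
  rw [← zsmul_one, coeff_smul_apply, MonoidAlgebra.one_def, coeff_single_apply]
  simp [eq_comm]

theorem coeff_cast_mul (n : ℤ) (x : MonoidAlgebra R H) (z : H) :
    ((n : MonoidAlgebra R H) * x).coeff z = (n : R) * x.coeff z := by
  rw [← zsmul_eq_mul, coeff_smul_apply, zsmul_eq_mul]

variable [Fintype H]

theorem single_mul_univ (x : H) : single x (1 : R) * el R (univ : Finset H) = el R univ := by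
  rw [el, Finset.mul_sum]
  simp only [single_mul_single, mul_one]
  exact Fintype.sum_equiv (Equiv.mulLeft x) _ _ fun y => rfl

theorem el_mul_univ (s : Finset H) :
    el R s * el R univ = ((s.card : ℤ) : MonoidAlgebra R H) * el R univ := by
  rw [show el R s = ∑ x ∈ s, single x (1 : R) from rfl, Finset.sum_mul]
  simp only [single_mul_univ, Finset.sum_const, nsmul_eq_mul, Int.cast_natCast]

theorem el_compl (s : Finset H) : el R (univ \ s) = el R univ - el R s :=
  eq_sub_of_add_eq (Finset.sum_sdiff (Finset.subset_univ s))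

/-- The equations satisfied by the two connection sets. -/
structure Srg (a b : Finset H) (h e g : ℤ) : Prop where
  one_notMem : (1 : H) ∉ a
  inv_mem : ∀ x ∈ a, x⁻¹ ∈ a
  eq₁ : (el ℤ a - (h : MonoidAlgebra ℤ H)) * el ℤ b = (g : MonoidAlgebra ℤ H) * el ℤ univ
  eq₂ : (el ℤ a - (h : MonoidAlgebra ℤ H)) ^ 2 + el ℤ b * el ℤ (b.image (·⁻¹)) =
    (e : MonoidAlgebra ℤ H) ^ 2 + 2 * (g : MonoidAlgebra ℤ H) * el ℤ univ
  lt : h ^ 2 < e ^ 2
  lt' : (h + 1) ^ 2 < e ^ 2
  nonempty : b.Nonempty
  ne_univ : b ≠ univ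

namespace Srg

variable {a b : Finset H} {h e g : ℤ} (S : Srg a b h e g)
include S

/-- The complementary graph. -/
theorem compl : Srg (univ \ insert 1 a) (univ \ b) (-1 - h) e
    (Fintype.card H - b.card - (a.card - h) + g) where
  one_notMem := by simp
  inv_mem x hx := by
    simp only [mem_sdiff, mem_univ, true_and, mem_insert] at hx ⊢
    push Not at hx ⊢
    exact ⟨by simpa using hx.1, fun hh => hx.2 (by simpa using S.inv_mem _ hh)⟩
  eq₁ := by
    have e1 : el ℤ (univ \ insert 1 a) = el ℤ univ - 1 - el ℤ a := by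
      rw [el_compl, el, el, el, sum_insert S.one_notMem, ← MonoidAlgebra.one_def]; ring
    have h1 := el_mul_univ (R := ℤ) (univ : Finset H)
    have h2 := el_mul_univ (R := ℤ) a
    have h3 := el_mul_univ (R := ℤ) b
    have h4 := S.eq₁
    rw [e1, el_compl]
    rw [card_univ] at h1
    push_cast at h1 h2 h3 h4 ⊢
    linear_combination h1 - h2 - h3 + h4
  eq₂ := by
    have e1 : el ℤ (univ \ insert 1 a) = el ℤ univ - 1 - el ℤ a := by
      rw [el_compl, el, el, el, sum_insert S.one_notMem, ← MonoidAlgebra.one_def]; ring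
    have h1 := el_mul_univ (R := ℤ) (univ : Finset H)
    have h2 := el_mul_univ (R := ℤ) a
    have h3 := el_mul_univ (R := ℤ) b
    have h3' := el_mul_univ (R := ℤ) (b.image (·⁻¹))
    rw [card_image_of_injective _ inv_injective] at h3'
    have h4 := S.eq₂
    rw [e1, el_compl, image_sdiff _ _ inv_injective, image_univ_of_surjective inv_surjective,
      el_compl]
    rw [card_univ] at h1
    push_cast at h1 h2 h3 h3' h4 ⊢
    linear_combination 2 * h1 - 2 * h2 - h3 - h3' + h4
  lt := by rw [show (-1 - h) ^ 2 = (h + 1) ^ 2 by ring]; exact S.lt'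
  lt' := by rw [show (-1 - h + 1) ^ 2 = h ^ 2 by ring]; exact S.lt
  nonempty := by
    rw [nonempty_iff_ne_empty, Ne, sdiff_eq_empty_iff_subset]
    exact fun hh => S.ne_univ (univ_subset_iff.mp hh)
  ne_univ hh := by
    obtain ⟨x, hx⟩ := S.nonempty
    have := hh ▸ mem_univ x
    simp [hx] at this

theorem e_ne_zero : e ≠ 0 := fun he => by
  have := S.lt
  rw [he] at this
  nlinarith [sq_nonneg h]

theorem cubic : ∃ G : ℤ, (el ℤ a - (h : MonoidAlgebra ℤ H)) ^ 3 =
    (e : MonoidAlgebra ℤ H) ^ 2 * (el ℤ a - (h : MonoidAlgebra ℤ H)) +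
      (G : MonoidAlgebra ℤ H) * el ℤ univ := by
  refine ⟨g * (2 * (a.card - h) - b.card), ?_⟩
  have h2 := el_mul_univ (R := ℤ) a
  have h3' := el_mul_univ (R := ℤ) (b.image (·⁻¹))
  rw [card_image_of_injective _ inv_injective] at h3'
  have h4 := S.eq₁
  have h5 := S.eq₂
  push_cast at h2 h3' h4 h5 ⊢
  linear_combination (el ℤ a - (h : MonoidAlgebra ℤ H)) * h5 - el ℤ (b.image (·⁻¹)) * h4 +
    2 * (g : MonoidAlgebra ℤ H) * h2 - (g : MonoidAlgebra ℤ H) * h3'

theorem odd_pow (j : ℕ) : ∃ G : ℤ, (el ℤ a - (h : MonoidAlgebra ℤ H)) ^ (2 * j + 1) =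
    (e : MonoidAlgebra ℤ H) ^ (2 * j) * (el ℤ a - (h : MonoidAlgebra ℤ H)) +
      (G : MonoidAlgebra ℤ H) * el ℤ univ := by
  induction j with
  | zero => exact ⟨0, by simp⟩
  | succ j ih =>
    obtain ⟨G, hG⟩ := ih
    obtain ⟨G₀, hG₀⟩ := S.cubic
    refine ⟨e ^ (2 * j) * G₀ + G * (a.card - h) ^ 2, ?_⟩
    have h2 := el_mul_univ (R := ℤ) a
    push_cast at h2 hG hG₀ ⊢
    linear_combination (el ℤ a - (h : MonoidAlgebra ℤ H)) ^ 2 * hG +
      (e : MonoidAlgebra ℤ H) ^ (2 * j) * hG₀ +
      (G : MonoidAlgebra ℤ H) * (el ℤ a - 2 * (h : MonoidAlgebra ℤ H) + ((a.card : ℕ) : MonoidAlgebra ℤ H)) * h2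

/-- The `q`-th powers of the elements of `a`, modulo an odd prime `q`. -/
theorem frobenius (q : ℕ) [hq : Fact q.Prime] (hq2 : q ≠ 2) :
    ∃ γ : ZMod q, ∀ z : H,
      ((a.filter fun x => x ^ q = z).card : ZMod q) - (if z = 1 then (h : ZMod q) else 0) =
        (if (q : ℤ) ∣ e then 0 else 1) *
          ((if z ∈ a then 1 else 0) - (if z = 1 then (h : ZMod q) else 0)) + γ := by
  obtain ⟨j, hj⟩ := hq.out.odd_of_ne_two hq2
  obtain ⟨G, hG⟩ := S.odd_pow j
  rw [← hj] at hG
  refine ⟨(G : ZMod q), fun z => ?_⟩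
  let φ : MonoidAlgebra ℤ H →+* MonoidAlgebra (ZMod q) H :=
    MonoidAlgebra.mapRingHom H (Int.castRingHom (ZMod q))
  have hφ : ∀ s : Finset H, φ (el ℤ s) = el (ZMod q) s := fun s => by
    simp [φ, el, map_sum]
  have h' := congrArg φ hG
  simp only [map_pow, map_sub, map_add, map_mul, map_intCast, hφ] at h'
  haveI : CharP (MonoidAlgebra (ZMod q) H) q :=
    charP_of_injective_ringHom
      (f := (MonoidAlgebra.singleOneRingHom : ZMod q →+* MonoidAlgebra (ZMod q) H))
      (fun x y hxy => by
        have := congrArg (fun w : MonoidAlgebra (ZMod q) H => w.coeff 1) hxy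
        simpa [coeff_single_apply] using this) q
  rw [sub_pow_char, el, sum_pow_char] at h'
  have hcast : ((h : MonoidAlgebra (ZMod q) H)) ^ q = (h : MonoidAlgebra (ZMod q) H) := by
    rw [← map_intCast (MonoidAlgebra.singleOneRingHom (R := ZMod q) (M := H)), ← map_pow,
      ZMod.pow_card]
  rw [hcast, ← Int.cast_pow] at h'
  have hz := congrArg (fun w : MonoidAlgebra (ZMod q) H => w.coeff z) h'
  simp only [coeff_sub, coeff_add, Finsupp.sub_apply, Finsupp.add_apply, coeff_cast_mul, coeff_cast,
    coeff_sum, Finsupp.finsetSum_apply, single_pow, one_pow, coeff_single_apply,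
    ← Finset.natCast_card_filter] at hz
  rw [coeff_el, if_pos (mem_univ z), mul_one, Finset.filter_eq',
    show (((if z ∈ a then {z} else ∅ : Finset H)).card : ZMod q) = if z ∈ a then 1 else 0 by
      split_ifs <;> simp] at hz
  rw [hz]
  congr 2
  push_cast
  by_cases hd : (q : ℤ) ∣ e
  · rw [if_pos hd, (ZMod.intCast_zmod_eq_zero_iff_dvd e q).mpr hd, zero_pow]
    have := hq.out.two_le; omega
  · rw [if_neg hd, show 2 * j = q - 1 by omega, ZMod.pow_card_sub_one_eq_one]
    exact fun hh => hd ((ZMod.intCast_zmod_eq_zero_iff_dvd e q).mp hh)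

/-- Multipliers. -/
theorem pow_mem {u : ℕ} (hu : u.Coprime (Fintype.card H)) (hm : 1 < Fintype.card H)
    {x : H} (hx : x ∈ a) : x ^ u ∈ a := by
  obtain ⟨l, hl, hlp, hlu⟩ := Nat.forall_exists_prime_gt_and_modEq
    (Fintype.card H + e.natAbs + 2) (q := Fintype.card H) (a := u) (by omega) hu
  haveI := Fact.mk hlp
  obtain ⟨γ, hγ⟩ := S.frobenius l (by omega)
  have hcop : (Nat.card H).Coprime l := by
    rw [Nat.card_eq_fintype_card]
    exact ((Nat.Prime.coprime_iff_not_dvd hlp).mpr fun hd =>
      absurd (Nat.le_of_dvd (by omega) hd) (by omega)).symm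
  have hinj : Function.Injective fun y : H => y ^ l := (powCoprime hcop).injective
  have he0 : (e : ℤ) ≠ 0 → ¬ (l : ℤ) ∣ e := fun he hd => by
    have := Nat.le_of_dvd (Int.natAbs_pos.mpr he) (Int.natCast_dvd.mp hd)
    omega
  have he : e ≠ 0 := S.e_ne_zero
  have hd := he0 he
  have h1 := hγ 1
  rw [if_neg hd, one_mul, if_pos rfl, if_neg S.one_notMem] at h1
  have hc1 : (a.filter fun w => w ^ l = 1).card = 0 := by
    rw [card_eq_zero, filter_eq_empty_iff]
    exact fun w hw hh => S.one_notMem ((hinj (a₂ := 1) (by simpa using hh)) ▸ hw)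
  rw [hc1, Nat.cast_zero, left_eq_add] at h1
  have hxl : x ^ l = x ^ u := by
    rw [pow_eq_pow_iff_modEq]
    exact hlu.of_dvd orderOf_dvd_card
  have h2 := hγ (x ^ l)
  have hx1 : x ^ l ≠ 1 := fun hh => S.one_notMem ((hinj (a₂ := 1) (by simpa using hh)) ▸ hx)
  have hc : (a.filter fun w => w ^ l = x ^ l).card = 1 := by
    rw [card_eq_one]
    refine ⟨x, ext fun w => ?_⟩
    simp only [mem_filter, mem_singleton]
    exact ⟨fun hh => hinj hh.2, fun hh => by subst hh; exact ⟨hx, rfl⟩⟩
  rw [if_neg hd, one_mul, if_neg hx1, sub_zero, sub_zero, h1, add_zero, hc, Nat.cast_one] at h2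
  rw [← hxl]
  by_contra hn
  rw [if_neg hn] at h2
  exact one_ne_zero h2

/-- The case of a set `a` periodic under the elements of order `q`. -/
theorem false_of_periodic (hodd : Odd (Fintype.card H)) {s : H} (hs1 : s ≠ 1)
    (hper : ∀ x, x ∈ a → s * x ∈ a) (he : 2 ≤ e.natAbs) : False := by
  set A := el ℤ a
  set B := el ℤ b
  set Bi := el ℤ (b.image (·⁻¹))
  set U := el ℤ (univ : Finset H)
  set s' : MonoidAlgebra ℤ H := single s 1
  have himg : a.image (s * ·) = a := eq_of_subset_of_card_le
    (fun x hx => by obtain ⟨y, hy, rfl⟩ := mem_image.mp hx; exact hper y hy)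
    (by rw [card_image_of_injective _ (mul_right_injective s)])
  have hA : s' * A = A := by
    simp only [s', A, el, Finset.mul_sum, single_mul_single, mul_one]
    conv_rhs => rw [← himg]
    rw [sum_image (fun x _ y _ hxy => mul_left_cancel hxy)]
  have hU : s' * U = U := single_mul_univ s
  have E1 : (A - (h : MonoidAlgebra ℤ H)) * B = (g : MonoidAlgebra ℤ H) * U := S.eq₁
  have E2 : (A - (h : MonoidAlgebra ℤ H)) ^ 2 + B * Bi =
      (e : MonoidAlgebra ℤ H) ^ 2 + 2 * (g : MonoidAlgebra ℤ H) * U := S.eq₂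
  have h1 : (h : MonoidAlgebra ℤ H) * ((s' - 1) * B) = 0 := by
    linear_combination -(s' - 1) * E1 + B * hA - (g : MonoidAlgebra ℤ H) * hU
  have hh0 : h = 0 := by
    by_contra hh0
    have h2 : (s' - 1) * B = 0 := by
      apply MonoidAlgebra.ext
      refine Finsupp.ext fun z => ?_
      have := congrArg (fun w : MonoidAlgebra ℤ H => w.coeff z) h1
      simpa [coeff_cast_mul, hh0] using this
    have h3 : ((h ^ 2 - e ^ 2 : ℤ) : MonoidAlgebra ℤ H) * (s' - 1) = 0 := by
      push_cast
      linear_combination (s' - 1) * E2 - Bi * h2 - (A - 2 * (h : MonoidAlgebra ℤ H)) * hA +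
        2 * (g : MonoidAlgebra ℤ H) * hU
    have := congrArg (fun w : MonoidAlgebra ℤ H => w.coeff 1) h3
    rw [coeff_cast_mul, coeff_sub, Finsupp.sub_apply, MonoidAlgebra.one_def, coeff_single_apply,
      coeff_single_apply, if_neg hs1, if_pos rfl, Int.cast_id] at this
    simp only [MonoidAlgebra.coeff_zero, Finsupp.coe_zero, Pi.zero_apply] at this
    exact S.lt.ne (by linear_combination -this)
  subst hh0
  simp only [Int.cast_zero, sub_zero] at E1 E2
  have hA2 : s' * (A * A) = A * A := by rw [← mul_assoc, hA]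
  -- coefficients
  have hAA1 : ((A * A).coeff 1 : ℤ) = a.card := by
    rw [coeff_el_mul, cnt, filter_true_of_mem]
    intro x hx
    simpa using S.inv_mem x hx
  have hAAs : (A * A).coeff s = (A * A).coeff 1 := by
    have h2 := congrArg (fun w : MonoidAlgebra ℤ H => w.coeff s) hA2
    rw [← h2]
    simp [s', coeff_single_mul_apply]
  have hBB1 : ((B * Bi).coeff 1 : ℤ) = b.card := by
    rw [coeff_el_mul, cnt, filter_true_of_mem]
    intro x hx
    simp [hx]
  have hBBs : ((B * Bi).coeff s : ℤ) = (cnt b (b.image (·⁻¹)) s : ℤ) := coeff_el_mul _ _ _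
  have hlow : 2 * b.card ≤ Fintype.card H + cnt b (b.image (·⁻¹)) s := by
    have hset : b.filter (fun x => x⁻¹ * s ∈ b.image (·⁻¹)) = b ∩ b.image (s * ·) := by
      ext x
      simp only [mem_filter, mem_inter, mem_image]
      refine and_congr_right fun _ => exists_congr fun y => and_congr_right fun _ => ?_
      constructor <;> intro hy
      · rw [inv_eq_iff_eq_inv.mp hy, mul_inv_rev, inv_inv, mul_inv_cancel_left]
      · rw [← hy, mul_inv_rev, inv_mul_cancel_right]
    have hu := card_union_add_card_inter b (b.image (s * ·))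
    rw [card_image_of_injective _ (mul_right_injective s)] at hu
    have hle := (b ∪ b.image (s * ·)).card_le_univ
    rw [cnt, hset]
    omega
  have c1 := congrArg (fun w : MonoidAlgebra ℤ H => w.coeff 1) E2
  have c2 := congrArg (fun w : MonoidAlgebra ℤ H => w.coeff s) E2
  simp only [pow_two A, ← Int.cast_pow, show (2 : MonoidAlgebra ℤ H) = ((2 : ℤ) : MonoidAlgebra ℤ H)
    by norm_cast, ← Int.cast_mul, coeff_add, Finsupp.add_apply, coeff_cast_mul, coeff_cast, U,
    coeff_el, mem_univ, if_true, hs1, if_false, mul_one, Int.cast_id, zero_add, hAAs, hAA1, hBB1,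
    hBBs] at c1 c2
  -- trivial character
  let ε : MonoidAlgebra ℤ H →+* ℤ := (MonoidAlgebra.lift ℤ ℤ H 1).toRingHom
  have hε : ∀ t : Finset H, ε (el ℤ t) = (t.card : ℤ) := fun t => by simp [ε, el, map_sum]
  have t1 := congrArg ε E1
  have t2 := congrArg ε E2
  simp only [map_mul, map_add, map_pow, map_intCast, map_ofNat, A, B, Bi, U, hε, Int.cast_id,
    card_image_of_injective _ inv_injective, card_univ] at t1 t2
  obtain ⟨r, hr⟩ := hodd
  generalize hK0 : (a.card : ℤ) = k0 at *
  generalize hK1 : (b.card : ℤ) = k1 at *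
  generalize hM : (Fintype.card H : ℤ) = m at *
  generalize hC : (cnt b (b.image (·⁻¹)) s : ℤ) = C at *
  have hlow' : 2 * k1 ≤ m + C := by rw [← hK1, ← hM, ← hC]; exact_mod_cast hlow
  have hC0 : 0 ≤ C := hC ▸ Int.natCast_nonneg _
  have hmodd : m = 2 * (r : ℤ) + 1 := by rw [← hM, hr]; push_cast; rfl
  set E : ℤ := (e.natAbs : ℤ) with hE
  have hE2 : E ^ 2 = e ^ 2 := Int.natAbs_sq e
  have hE' : 2 ≤ E := by rw [hE]; exact_mod_cast he
  have hdiff : (k0 - k1) ^ 2 = E ^ 2 := by rw [hE2]; linear_combination t2 - 2 * t1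
  have hab : k0 - k1 = E ∨ k0 - k1 = -E := sq_eq_sq_iff_eq_or_eq_neg.mp hdiff
  obtain ⟨j, hj1, hj2, hj3⟩ : ∃ j : ℤ, j * (2 * m - j) = E ^ 2 * (2 * m - 1) ∧ j ≤ m ∧
      2 * E ^ 2 - E ≤ j := by
    have hk : (k0 + k1) * (2 * m - (k0 + k1)) = E ^ 2 * (2 * m - 1) := by
      rw [hE2]; linear_combination 2 * m * c1 - t2 - 2 * t1
    by_cases hkm : k0 + k1 ≤ m
    · exact ⟨k0 + k1, hk, hkm, by rcases hab with hh | hh <;> linarith⟩
    · exact ⟨2 * m - (k0 + k1), by linear_combination hk, by linarith,
        by rcases hab with hh | hh <;> linarith⟩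
  have hm1 : 1 ≤ m := by omega
  have hup : m ≤ 2 * E ^ 2 := by
    have h5 : 0 ≤ (j - (2 * E ^ 2 - E)) * (2 * m - j - (2 * E ^ 2 - E)) :=
      mul_nonneg (by linarith) (by linarith)
    have h6 : E * (E - 1) * (m - 2 * E ^ 2) ≤ 0 := by nlinarith
    by_contra hcon
    push Not at hcon
    have : 0 < E * (E - 1) * (m - 2 * E ^ 2) := mul_pos (mul_pos (by linarith) (by linarith)) (by linarith)
    linarith
  have hne : m ≠ 2 * E ^ 2 := fun hh => by omega
  have h7 : 0 ≤ (m - 1) * (2 * E ^ 2 - m - 1) := mul_nonneg (by linarith) (by omega)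
  nlinarith [sq_nonneg (m - j)]

variable [IsCyclic H]

/-- When an odd prime divisor `q` of the order divides `e`. -/
theorem not_dvd (hodd : Odd (Fintype.card H)) {q : ℕ} [hq : Fact q.Prime]
    (hqm : q ∣ Fintype.card H) (hqe : (q : ℤ) ∣ e) : False := by
  have hm : 1 < Fintype.card H :=
    lt_of_lt_of_le hq.out.one_lt (Nat.le_of_dvd Fintype.card_pos hqm)
  have hq2 : q ≠ 2 := fun hh => by
    obtain ⟨r, hr⟩ := hodd; obtain ⟨w, hw⟩ := hqm; subst hh; omega
  obtain ⟨s, hs⟩ := exists_prime_orderOf_dvd_card q hqm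
  have hs1 : s ≠ 1 := fun hh => by rw [hh, orderOf_one] at hs; exact hq.out.one_lt.ne hs
  have he : 2 ≤ e.natAbs := by
    exact hq.out.two_le.trans
      (Nat.le_of_dvd (Int.natAbs_pos.mpr S.e_ne_zero) (Int.natCast_dvd.mp hqe))
  have hker : ∀ y : H, y ^ q = 1 → ∃ i, i < q ∧ s ^ i = y := by
    intro y hy
    let T := (range q).image (s ^ ·)
    have hT : T = univ.filter (fun y => y ^ q = 1) := by
      refine eq_of_subset_of_card_le (fun w hw => ?_) ?_
      · obtain ⟨i, -, rfl⟩ := mem_image.mp hw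
        rw [mem_filter]
        exact ⟨mem_univ _, by rw [← pow_mul, mul_comm, pow_mul, ← hs, pow_orderOf_eq_one, one_pow]⟩
      · rw [card_image_of_injOn (fun i hi i' hi' hh => pow_injOn_Iio_orderOf
          (by simpa [hs] using hi) (by simpa [hs] using hi') hh), card_range]
        exact IsCyclic.card_pow_eq_one_le hq.out.pos
    have : y ∈ T := by rw [hT, mem_filter]; exact ⟨mem_univ _, hy⟩
    obtain ⟨i, hi, rfl⟩ := mem_image.mp this
    exact ⟨i, mem_range.mp hi, rfl⟩
  -- invariance under `s` away from the elements of order `q`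
  have key : ∀ {a b : Finset H} {h g : ℤ}, Srg a b h e g → s ∉ a → False := by
    intro a b h g S hsa
    have hno : ∀ x ∈ a, x ^ q ≠ 1 := by
      intro x hx hxq
      obtain ⟨i, hi, rfl⟩ := hker x hxq
      have hi0 : i ≠ 0 := fun hh => S.one_notMem (by simpa [hh] using hx)
      have hcop : i.Coprime q := by
        rw [Nat.coprime_comm, hq.out.coprime_iff_not_dvd]
        exact fun hd => absurd (Nat.le_of_dvd (by omega) hd) (by omega)
      obtain ⟨u, hu, hui⟩ : ∃ u, u < q ∧ (i * u) % q = 1 := by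
        obtain ⟨u, hu, hu'⟩ := Nat.exists_mul_mod_eq_one_of_coprime hcop hq.out.one_lt
        exact ⟨u, hu, hu'⟩
      have hucop : u.Coprime q := by
        rw [Nat.coprime_comm, hq.out.coprime_iff_not_dvd]
        exact fun hd => by
          obtain ⟨v, rfl⟩ := hd
          rw [← mul_assoc, mul_comm i q, mul_assoc, Nat.mul_mod_right] at hui
          exact zero_ne_one hui
      obtain ⟨l, hl, hlp, hlu⟩ := Nat.forall_exists_prime_gt_and_modEq (Fintype.card H)
        hq.out.ne_zero hucop
      have hl2 : l.Coprime (Fintype.card H) := (hlp.coprime_iff_not_dvd).mpr fun hd =>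
        absurd (Nat.le_of_dvd Fintype.card_pos hd) (by omega)
      apply hsa
      have h1 := S.pow_mem hl2 hm hx
      rwa [← pow_mul, show s ^ (i * l) = s from ?_] at h1
      conv_rhs => rw [← pow_one s]
      rw [pow_eq_pow_iff_modEq, hs]
      exact (hlu.mul_left i).trans (by rw [Nat.ModEq, hui, Nat.one_mod_eq_one.mpr hq.out.ne_one])
    obtain ⟨γ, hγ⟩ := S.frobenius q hq2
    obtain ⟨z₀, hz₀⟩ : ∃ z₀ : H, ∀ x : H, x ^ q ≠ z₀ := by
      by_contra hno'
      push Not at hno'
      have hinj : Function.Injective fun x : H => x ^ q := Finite.injective_iff_surjective.mpr hno'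
      exact hs1 (hinj (by
        show s ^ q = (1 : H) ^ q
        rw [one_pow, ← hs, pow_orderOf_eq_one]))
    have hz01 : z₀ ≠ 1 := fun hh => hz₀ 1 (by rw [hh, one_pow])
    have hγ0 : γ = 0 := by
      have h1 := hγ z₀
      rw [if_neg hz01, sub_zero, if_pos hqe, zero_mul, zero_add] at h1
      rw [filter_false_of_mem (fun x _ => hz₀ x), card_empty, Nat.cast_zero] at h1
      exact h1.symm
    refine S.false_of_periodic hodd hs1 (fun x hx => ?_) he
    have hxq := hno x hx
    have h1 := hγ (x ^ q)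
    rw [if_neg hxq, sub_zero, if_pos hqe, zero_mul, zero_add, hγ0,
      ZMod.natCast_eq_zero_iff] at h1
    have hsub : a.filter (fun w => w ^ q = x ^ q) ⊆ univ.filter (fun w => w ^ q = x ^ q) :=
      filter_subset_filter _ (subset_univ a)
    have hle : (univ.filter (fun w : H => w ^ q = x ^ q)).card ≤ q := by
      refine le_trans (card_le_card_of_injOn (· * x⁻¹) (fun w hw => ?_)
        (fun w _ v _ hwv => mul_right_cancel hwv)) (IsCyclic.card_pow_eq_one_le hq.out.pos)
      simp only [coe_filter, mem_univ, true_and, Set.mem_ofPred_eq] at hw ⊢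
      rw [mul_pow, hw, inv_pow, mul_inv_cancel]
    have hpos : 0 < (a.filter fun w => w ^ q = x ^ q).card :=
      card_pos.mpr ⟨x, mem_filter.mpr ⟨hx, rfl⟩⟩
    have heq := eq_of_subset_of_card_le hsub (hle.trans (Nat.le_of_dvd hpos h1))
    have : s * x ∈ univ.filter (fun w => w ^ q = x ^ q) := by
      rw [mem_filter, mul_pow, ← hs, pow_orderOf_eq_one, one_mul]
      exact ⟨mem_univ _, rfl⟩
    rw [← heq] at this
    exact (mem_filter.mp this).1
  by_cases hsa : s ∈ a
  · exact key S.compl (by simp [hsa])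
  · exact key S hsa

theorem empty_case (ha : a = ∅) : False := by
  subst ha
  have E1 := S.eq₁
  have E2 := S.eq₂
  simp only [el, sum_empty, zero_sub] at E1 E2
  obtain ⟨y, hy⟩ : ∃ y, y ∉ b := by
    by_contra hh
    push Not at hh
    exact S.ne_univ (eq_univ_of_forall hh)
  obtain ⟨x, hx⟩ := S.nonempty
  have c1 := congrArg (fun w : MonoidAlgebra ℤ H => w.coeff y) E1
  have c2 := congrArg (fun w : MonoidAlgebra ℤ H => w.coeff x) E1
  simp only [← Int.cast_neg, coeff_cast_mul, ← el.eq_def, coeff_el, hy, hx, mem_univ, if_true,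
    if_false, mul_one, mul_zero, Int.cast_id] at c1 c2
  have hg : g = 0 := c1.symm
  have hh : h = 0 := by omega
  subst hg hh
  have hbe : ∀ z, (cnt b (b.image (·⁻¹)) z : ℤ) = if z = 1 then e ^ 2 else 0 := by
    intro z
    have := congrArg (fun w : MonoidAlgebra ℤ H => w.coeff z) E2
    simp only [Int.cast_zero, neg_zero, ne_eq, OfNat.ofNat_ne_zero, not_false_eq_true, zero_pow,
      zero_add, mul_zero, zero_mul, add_zero, ← Int.cast_pow, coeff_cast, Int.cast_id] at this
    rw [← this]
    exact (coeff_el_mul _ _ _).symm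
  have hall : ∀ y ∈ b, y = x := fun y hy' => by
    by_contra hne
    have h1 := hbe (y * x⁻¹)
    rw [if_neg (by rwa [mul_inv_eq_one]), Nat.cast_eq_zero, cnt, card_eq_zero,
      filter_eq_empty_iff] at h1
    exact h1 hy' (by rw [← mul_assoc, inv_mul_cancel, one_mul]; exact mem_image_of_mem _ hx)
  have hb : b = {x} := eq_singleton_iff_unique_mem.mpr ⟨hx, hall⟩
  have h1 := hbe 1
  rw [if_pos rfl, cnt, hb, filter_true_of_mem (fun w hw => by simp_all), card_singleton] at h1
  exact absurd S.lt' (by rw [← h1]; norm_num)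

/-- There is no solution. -/
theorem false (hodd : Odd (Fintype.card H)) (hm : 1 < Fintype.card H) : False := by
  -- every prime divisor of the order puts `a`, or the complementary set, inside its prime-to part
  have htype : ∀ q : ℕ, q.Prime → q ∣ Fintype.card H →
      (∀ x ∈ a, ¬ q ∣ orderOf x) ∨ (∀ x ∈ univ \ insert 1 a, ¬ q ∣ orderOf x) := by
    intro q hq hqm
    haveI := Fact.mk hq
    have hq2 : q ≠ 2 := fun hh => by
      obtain ⟨r, hr⟩ := hodd; obtain ⟨w, hw⟩ := hqm; subst hh; omega
    obtain ⟨z₀, hz₀⟩ : ∃ z₀ : H, ∀ x : H, x ^ q ≠ z₀ := by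
      by_contra hno'
      push Not at hno'
      obtain ⟨s, hs⟩ := exists_prime_orderOf_dvd_card q hqm
      have hinj : Function.Injective fun x : H => x ^ q := Finite.injective_iff_surjective.mpr hno'
      have : s = 1 := hinj (by
        show s ^ q = (1 : H) ^ q
        rw [one_pow, ← hs, pow_orderOf_eq_one])
      rw [this, orderOf_one] at hs
      exact hq.one_lt.ne hs
    have hz01 : z₀ ≠ 1 := fun hh => hz₀ 1 (by rw [hh, one_pow])
    have key : ∀ {a b : Finset H} {h g : ℤ}, Srg a b h e g → z₀ ∉ a → ∀ x ∈ a, ¬ q ∣ orderOf x := by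
      intro a b h g S hz0a
      have hqe : ¬ (q : ℤ) ∣ e := fun hh => S.not_dvd hodd hqm hh
      obtain ⟨γ, hγ⟩ := S.frobenius q hq2
      have hγ0 : γ = 0 := by
        have h1 := hγ z₀
        rw [if_neg hz01, sub_zero, if_neg hqe, one_mul, if_neg hz0a, sub_zero, zero_add,
          filter_false_of_mem (fun x _ => hz₀ x), card_empty, Nat.cast_zero] at h1
        exact h1.symm
      have hsurj : a ⊆ a.image (· ^ q) := by
        intro z hz
        have h1 := hγ z
        rw [if_neg (fun hh : z = 1 => S.one_notMem (hh ▸ hz)), sub_zero, if_neg hqe, one_mul,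
          if_pos hz, sub_zero, hγ0, add_zero] at h1
        obtain ⟨w, hw⟩ : (a.filter fun w => w ^ q = z).Nonempty := by
          rw [nonempty_iff_ne_empty]
          intro hh
          rw [hh, card_empty, Nat.cast_zero] at h1
          exact zero_ne_one h1
        exact mem_image.mpr ⟨w, (mem_filter.mp hw).1, (mem_filter.mp hw).2⟩
      have himg : a.image (· ^ q) = a :=
        (eq_of_subset_of_card_le hsurj card_image_le).symm
      have hinj : Set.InjOn (fun w : H => w ^ q) a := card_image_iff.mp (by rw [himg])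
      intro x hx hdvd
      have hpow : ∀ n : ℕ, x ^ q ^ n ∈ a := by
        intro n
        induction n with
        | zero => simpa using hx
        | succ n ih => rw [pow_succ, pow_mul, ← himg]; exact mem_image_of_mem _ ih
      obtain ⟨i, j, hij, heq⟩ := Finite.exists_ne_map_eq_of_infinite (fun n : ℕ => x ^ q ^ n)
      wlog hlt : i < j generalizing i j
      · exact this j i hij.symm heq.symm (by omega)
      have hback : ∀ k, k ≤ i → x ^ q ^ (i - k) = x ^ q ^ (j - k) := by
        intro k
        induction k with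
        | zero => intro _; exact heq
        | succ k ih =>
          intro hk
          apply hinj (hpow _) (hpow _)
          have h1 := ih (by omega)
          show (x ^ q ^ (i - (k + 1))) ^ q = (x ^ q ^ (j - (k + 1))) ^ q
          rw [← pow_mul, ← pow_mul, ← pow_succ, ← pow_succ, show i - (k + 1) + 1 = i - k by omega,
            show j - (k + 1) + 1 = j - k by omega]
          exact h1
      have h1 := hback i le_rfl
      rw [Nat.sub_self, pow_zero, pow_one] at h1
      conv_lhs at h1 => rw [← pow_one x]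
      rw [pow_eq_pow_iff_modEq] at h1
      have h2 := h1.of_dvd hdvd
      rw [Nat.ModEq, Nat.one_mod_eq_one.mpr hq.ne_one,
        Nat.mod_eq_zero_of_dvd (dvd_pow_self q (by omega))] at h2
      exact one_ne_zero h2
    by_cases hza : z₀ ∈ a
    · exact Or.inr (key S.compl (by simp [hza]))
    · exact Or.inl (key S hza)
  have hnone : ∀ {c : Finset H}, (1 : H) ∉ c →
      (∀ q : ℕ, q.Prime → q ∣ Fintype.card H → ∀ x ∈ c, ¬ q ∣ orderOf x) → c = ∅ := by
    intro c hc hall
    refine eq_empty_of_forall_notMem fun x hx => ?_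
    have hx1 : orderOf x ≠ 1 := fun hh => hc ((orderOf_eq_one_iff.mp hh) ▸ hx)
    obtain ⟨q, hq, hqd⟩ := Nat.exists_prime_and_dvd hx1
    exact hall q hq (hqd.trans orderOf_dvd_card) x hx hqd
  obtain ⟨z, hz⟩ := IsCyclic.exists_generator (α := H)
  have hzo : orderOf z = Fintype.card H := by
    rw [orderOf_eq_card_of_forall_mem_zpowers hz, Nat.card_eq_fintype_card]
  have hz1 : z ≠ 1 := fun hh => by rw [hh, orderOf_one] at hzo; omega
  by_cases hza : z ∈ a
  · refine S.compl.empty_case (hnone (by simp) fun q hq hqm => ?_)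
    exact (htype q hq hqm).resolve_left fun hh => hh z hza (hzo ▸ hqm)
  · refine S.empty_case (hnone S.one_notMem fun q hq hqm => ?_)
    exact (htype q hq hqm).resolve_right fun hh => hh z (by simp [hza, hz1]) (hzo ▸ hqm)

end Srg

end

end Cfsg.Agent.OddLocal44.Dihedral
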