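import Mathlib.Algebra.CharP.Lemmas
import Mathlib.GroupTheory.OrderOfElement
import Mathlib.Algebra.Group.Subgroup.Finite
import Mathlib.FieldTheory.Finite.Basic
import Mathlib.Tactic.Group
import Mathlib.Tactic.LinearCombination

set_option autoImplicit false

/-!
The final field configuration of the odd order theorem (Bender-Glauberman, Appendix C).
-/

namespace Cfsg.Agent.OddLocal44

/-- The data of the final field configuration: `e` parametrizes the group `P` by the field, `U` acts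
through `ψ` as the norm one group. -/
structure FieldCfg {G F : Type*} [Group G] [Field F] (p : ℕ) (U Q : Subgroup G) (e : F → G) (ψ : G → F)
    (y : G) : Prop where
  hp : p.Prime
  hp2 : p ≠ 2
  charF : CharP F p
  e_inj : Function.Injective e
  e_add : ∀ x z, e (x + z) = e x * e z
  u_e : ∀ u ∈ U, ∀ x, u * e x * u⁻¹ = e (ψ u * x)
  ψ_mul : ∀ u ∈ U, ∀ v ∈ U, ψ (u * v) = ψ u * ψ v
  ψ_ne : ∀ u ∈ U, ψ u ≠ 0
  ψ_inj : Set.InjOn ψ (U : Set G)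
  card_U : (Nat.card U) * (p - 1) = Nat.card F - 1
  cop_U : (Nat.card U).Coprime (p - 1)
  one_lt_U : 1 < Nat.card U
  Q_comm : IsMulCommutative Q
  cop_Q : (Nat.card Q).Coprime p
  s_norm_Q : e 1 ∈ Subgroup.normalizer (Q : Set G)
  y_mem : y ∈ Q
  t_norm_U : y * e 1 * y⁻¹ ∈ Subgroup.normalizer (U : Set G)

namespace FieldCfg

variable {G F : Type*} [Group G] [Finite G] [Field F] [Finite F] {p : ℕ} {U Q : Subgroup G} {e : F → G}
  {ψ : G → F} {y : G}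

lemma alg_rel {A : Type*} [CommGroup A] (a b c d f g k : A) (h : a / b = c / d * (f / g)) :
    c / d * (b / k) = a / k * (g / f) := by
  have ha : a = c / d * (f / g) * b := by rw [← h, div_mul_cancel]
  subst ha
  apply Additive.ofMul.injective
  simp only [ofMul_mul, ofMul_div]
  abel

lemma eq_one_of_mem {H : Subgroup G} {g : G} {m : ℕ} (hg : g ∈ H) (hm : g ^ m = 1)
    (hc : (Nat.card H).Coprime m) : g = 1 :=
  orderOf_eq_one_iff.1 (Nat.eq_one_of_dvd_coprimes hc (Subgroup.orderOf_dvd_natCard H hg)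
    (orderOf_dvd_of_pow_eq_one hm))

lemma e_zero (C : FieldCfg p U Q e ψ y) : e 0 = 1 := by
  have := C.e_add 0 0
  rw [add_zero] at this
  exact mul_eq_left.1 this.symm

lemma e_neg (C : FieldCfg p U Q e ψ y) (x : F) : e (-x) = (e x)⁻¹ := by
  apply eq_inv_of_mul_eq_one_left
  rw [← C.e_add, neg_add_cancel, C.e_zero]

lemma e_intCast (C : FieldCfg p U Q e ψ y) (x : F) (n : ℤ) : e (n * x) = e x ^ n := by
  induction n using Int.induction_on with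
  | zero => simp [C.e_zero]
  | succ n ih => push_cast at ih ⊢; rw [add_mul, one_mul, C.e_add, ih, zpow_add_one]
  | pred n ih =>
    push_cast at ih ⊢
    rw [sub_mul, one_mul, sub_eq_add_neg, C.e_add, ih, C.e_neg, zpow_sub_one]

lemma s_zpow (C : FieldCfg p U Q e ψ y) (n : ℤ) : (e 1) ^ n = e (n : F) := by
  rw [← C.e_intCast, mul_one]

lemma s_zpow_eq_one (C : FieldCfg p U Q e ψ y) (n : ℤ) : (e 1) ^ n = 1 ↔ (n : F) = 0 := by
  rw [C.s_zpow, ← C.e_zero]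
  exact C.e_inj.eq_iff

lemma e_pow_p (C : FieldCfg p U Q e ψ y) (x : F) : e x ^ p = 1 := by
  haveI := C.charF
  have := C.e_intCast x (p : ℤ)
  rw [Int.cast_natCast, CharP.cast_eq_zero, zero_mul, C.e_zero, zpow_natCast] at this
  exact this.symm

lemma e_comm (C : FieldCfg p U Q e ψ y) (x z : F) : e x * e z = e z * e x := by
  rw [← C.e_add, ← C.e_add, add_comm]

lemma ψ_one (C : FieldCfg p U Q e ψ y) : ψ 1 = 1 := by
  have := C.ψ_mul 1 U.one_mem 1 U.one_mem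
  rw [mul_one] at this
  exact (mul_eq_left₀ (C.ψ_ne 1 U.one_mem)).1 this.symm

lemma ψ_pow (C : FieldCfg p U Q e ψ y) {u : G} (hu : u ∈ U) (n : ℕ) : ψ (u ^ n) = ψ u ^ n := by
  induction n with
  | zero => simp [C.ψ_one]
  | succ n ih => rw [pow_succ, C.ψ_mul _ (U.pow_mem hu n) _ hu, ih, pow_succ]

lemma ψ_inv (C : FieldCfg p U Q e ψ y) {u : G} (hu : u ∈ U) : ψ u⁻¹ = (ψ u)⁻¹ := by
  apply eq_inv_of_mul_eq_one_left
  rw [← C.ψ_mul _ (U.inv_mem hu) _ hu, inv_mul_cancel, C.ψ_one]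

lemma e_mul_u (C : FieldCfg p U Q e ψ y) {u : G} (hu : u ∈ U) (x : F) :
    u * e x = e (ψ u * x) * u := by
  rw [← C.u_e u hu x, inv_mul_cancel_right]

lemma mem_U_e (C : FieldCfg p U Q e ψ y) {x : F} (hx : e x ∈ U) : x = 0 := by
  have h1 := C.u_e _ hx 1
  rw [C.e_comm, mul_inv_cancel_right] at h1
  have h2 : ψ (e x) = ψ 1 := by rw [C.ψ_one, ← mul_one (ψ (e x))]; exact (C.e_inj h1).symm
  have h3 := C.ψ_inj hx U.one_mem h2
  exact C.e_inj (h3.trans C.e_zero.symm)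

lemma repr_unique (C : FieldCfg p U Q e ψ y) {x z : F} {u v : G} (hu : u ∈ U) (hv : v ∈ U)
    (h : e x * u = e z * v) : x = z ∧ u = v := by
  have hxz : x = z := by
    have h' : e (-z + x) = v * u⁻¹ := by
      rw [C.e_add, C.e_neg]
      calc (e z)⁻¹ * e x = (e z)⁻¹ * (e x * u) * u⁻¹ := by group
        _ = v * u⁻¹ := by rw [h]; group
    have := C.mem_U_e (h'.symm ▸ U.mul_mem hv (U.inv_mem hu) : e (-z + x) ∈ U)
    linear_combination this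
  subst hxz
  exact ⟨rfl, mul_left_cancel h⟩

/-- A prime field value of `ψ` is `1`. -/
lemma ψ_fixed (C : FieldCfg p U Q e ψ y) {u : G} (hu : u ∈ U) (h : ψ u ^ p = ψ u) : ψ u = 1 := by
  have h0 := C.ψ_ne u hu
  have h1 : ψ u ^ (p - 1) = 1 := by
    apply mul_left_cancel₀ h0
    rw [mul_one, ← pow_succ', Nat.sub_add_cancel C.hp.one_le, h]
  have h2 : ψ u ^ Nat.card U = 1 := by
    rw [← C.ψ_pow hu,
      orderOf_dvd_iff_pow_eq_one.1 (Subgroup.orderOf_dvd_natCard U hu), C.ψ_one]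
  have := pow_gcd_eq_one.2 ⟨h2, h1⟩
  rwa [C.cop_U.gcd_eq_one, pow_one] at this

lemma intCast_pow_p (C : FieldCfg p U Q e ψ y) (c : ℤ) : ((c : F)) ^ p = c := by
  haveI := C.charF
  haveI : Fact p.Prime := ⟨C.hp⟩
  rw [← map_intCast (ZMod.castHom (dvd_refl p) F) c, ← map_pow, ZMod.pow_card]

lemma eq_intCast_of_pow_p (C : FieldCfg p U Q e ψ y) {x : F} (hx : x ^ p = x) : ∃ c : ℤ, x = c := by
  haveI := C.charF
  haveI : Fact p.Prime := ⟨C.hp⟩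
  classical
  haveI : Fintype F := Fintype.ofFinite F
  by_contra hne
  push_neg at hne
  let P : Polynomial F := Polynomial.X ^ p - Polynomial.X
  have hP : P ≠ 0 := FiniteField.X_pow_card_sub_X_ne_zero F C.hp.one_lt
  have hsub : (insert x (Finset.univ.image (ZMod.castHom (dvd_refl p) F))).val ⊆ P.roots := by
    intro z hz
    rw [Polynomial.mem_roots hP, Polynomial.IsRoot.def]
    simp only [P, Polynomial.eval_sub, Polynomial.eval_pow, Polynomial.eval_X, sub_eq_zero]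
    rcases Finset.mem_insert.1 hz with rfl | hz
    · exact hx
    · obtain ⟨k, -, rfl⟩ := Finset.mem_image.1 hz
      rw [← map_pow, ZMod.pow_card]
  have hle := Polynomial.card_le_degree_of_subset_roots hsub
  have hnot : x ∉ Finset.univ.image (ZMod.castHom (dvd_refl p) F) := by
    intro h
    obtain ⟨k, -, hk⟩ := Finset.mem_image.1 h
    refine hne (k.val : ℤ) ?_
    rw [← hk, Int.cast_natCast, ← map_natCast (ZMod.castHom (dvd_refl p) F), ZMod.natCast_zmod_val]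
  rw [Finset.card_insert_of_notMem hnot, Finset.card_image_of_injective _ (RingHom.injective _),
    Finset.card_univ, ZMod.card, FiniteField.X_pow_card_sub_X_natDegree_eq F C.hp.one_lt] at hle
  omega

lemma small_ne (C : FieldCfg p U Q e ψ y) : (2 : F) ≠ 0 ∧ (1 : F) ≠ 2 := by
  haveI := C.charF
  refine ⟨?_, fun h => one_ne_zero (α := F) (by linear_combination -h)⟩
  intro h
  have : ((2 : ℕ) : F) = 0 := by exact_mod_cast h
  rw [CharP.cast_eq_zero_iff F p] at this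
  exact C.hp2 ((Nat.prime_dvd_prime_iff_eq C.hp Nat.prime_two).1 this)

/-- Every nonzero field element is a prime field element times a norm one element. -/
lemma decomp (C : FieldCfg p U Q e ψ y) {x : F} (hx : x ≠ 0) :
    ∃ c : ℤ, (c : F) ≠ 0 ∧ ∃ ω ∈ U, x = c * ψ ω := by
  haveI := C.charF
  haveI : Fact p.Prime := ⟨C.hp⟩
  classical
  haveI : Fintype F := Fintype.ofFinite F
  haveI : Fintype U := Fintype.ofFinite U
  let φ : (ZMod p)ˣ × U → Fˣ := fun z =>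
    Units.map (ZMod.castHom (dvd_refl p) F : ZMod p →+* F) z.1 * Units.mk0 (ψ z.2) (C.ψ_ne _ z.2.2)
  have hφ : Function.Injective φ := by
    rintro ⟨c, u⟩ ⟨c', u'⟩ h
    have h' : (ZMod.castHom (dvd_refl p) F) (c : ZMod p) * ψ u
        = (ZMod.castHom (dvd_refl p) F) (c' : ZMod p) * ψ u' := congrArg Units.val h
    have hm : (u : G) * (u' : G)⁻¹ ∈ U := U.mul_mem u.2 (U.inv_mem u'.2)
    have h1 : ψ ((u : G) * (u' : G)⁻¹)
        = (ZMod.castHom (dvd_refl p) F) ((c' : ZMod p) * (c⁻¹ : (ZMod p)ˣ)) := by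
      rw [C.ψ_mul _ u.2 _ (U.inv_mem u'.2), C.ψ_inv u'.2, map_mul, ← div_eq_mul_inv,
        div_eq_iff (C.ψ_ne _ u'.2), mul_right_comm, ← h', mul_right_comm, ← map_mul, Units.mul_inv,
        map_one, one_mul]
    have h2 := C.ψ_fixed hm (by rw [h1, ← map_pow, ZMod.pow_card])
    have h3 := C.ψ_inj hm U.one_mem (h2.trans C.ψ_one.symm)
    have hu : u = u' := Subtype.ext (mul_inv_eq_one.1 h3)
    subst hu
    have hc := mul_right_cancel₀ (C.ψ_ne _ u.2) h'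
    exact Prod.ext (Units.ext (RingHom.injective _ hc)) rfl
  have hcard : Fintype.card ((ZMod p)ˣ × U) = Fintype.card Fˣ := by
    rw [Fintype.card_prod, ZMod.card_units, Fintype.card_units, ← Nat.card_eq_fintype_card,
      ← Nat.card_eq_fintype_card, mul_comm]
    exact C.card_U
  obtain ⟨⟨c, ω⟩, hcω⟩ := ((Fintype.bijective_iff_injective_and_card φ).2 ⟨hφ, hcard⟩).2 (Units.mk0 x hx)
  have hx' : (ZMod.castHom (dvd_refl p) F) (c : ZMod p) * ψ ω = x := congrArg Units.val hcω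
  have hc : (((c : ZMod p).val : ℤ) : F) = (ZMod.castHom (dvd_refl p) F) (c : ZMod p) := by
    rw [Int.cast_natCast, ← map_natCast (ZMod.castHom (dvd_refl p) F), ZMod.natCast_zmod_val]
  refine ⟨((c : ZMod p).val : ℤ), ?_, ω, ω.2, ?_⟩
  · rw [hc]
    intro h0
    rw [h0, zero_mul] at hx'
    exact hx hx'.symm
  · rw [hc, hx']

/-- The element `t`. -/
local notation "s₀" => e 1
local notation "t₀" => y * e 1 * y⁻¹

lemma t_zpow (n : ℤ) : (t₀) ^ n = y * (s₀) ^ n * y⁻¹ := by rw [conj_zpow]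

lemma conj_mem_U (C : FieldCfg p U Q e ψ y) (n : ℤ) {u : G} (hu : u ∈ U) :
    (t₀) ^ n * u * (t₀) ^ (-n) ∈ U := by
  rw [zpow_neg]
  exact (Subgroup.mem_normalizer_iff.1 (Subgroup.zpow_mem _ C.t_norm_U n) u).1 hu

lemma t_zpow_eq_one (C : FieldCfg p U Q e ψ y) {n : ℤ} (h : (n : F) = 0) : (t₀) ^ n = 1 := by
  rw [t_zpow, (C.s_zpow_eq_one n).2 h]; group

lemma zpow_mem_Q (C : FieldCfg p U Q e ψ y) {n : ℤ} (h : (t₀) ^ n ∈ Q) : (n : F) = 0 := by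
  rw [t_zpow] at h
  have hs : (s₀) ^ n ∈ Q := by
    have := Q.mul_mem (Q.mul_mem (Q.inv_mem C.y_mem) h) C.y_mem
    convert this using 1; group
  rw [C.s_zpow] at hs
  apply C.e_inj
  rw [C.e_zero]
  exact eq_one_of_mem hs (C.e_pow_p _) C.cop_Q

/-- The elements `t^i s^(j-i) t^(-j)` of `Q`. -/
lemma qel_mem (C : FieldCfg p U Q e ψ y) (i j : ℤ) :
    (t₀) ^ i * (s₀) ^ (j - i) * (t₀) ^ (-j) ∈ Q := by
  have h1 := (Subgroup.mem_normalizer_iff.1 (Subgroup.zpow_mem _ C.s_norm_Q i) _).1 (Q.inv_mem C.y_mem)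
  have h2 := (Subgroup.mem_normalizer_iff.1 (Subgroup.zpow_mem _ C.s_norm_Q j) _).1 C.y_mem
  have := Q.mul_mem (Q.mul_mem (Q.mul_mem C.y_mem h1) h2) (Q.inv_mem C.y_mem)
  rw [t_zpow, t_zpow]
  convert this using 1
  rw [zpow_sub]
  group

lemma ident (C : FieldCfg p U Q e ψ y) (A B : ℤ) :
    (s₀) ^ A * (t₀) ^ (-(A + B)) * (s₀) ^ B = (t₀) ^ (-B) * (s₀) ^ (A + B) * (t₀) ^ (-A) := by
  haveI := C.Q_comm
  have h1 := C.qel_mem (-B) 0
  have h2 := C.qel_mem 0 A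
  have hc : ((t₀) ^ (-B) * (s₀) ^ ((0:ℤ) - -B) * (t₀) ^ (-(0:ℤ)))
      * ((t₀) ^ (0:ℤ) * (s₀) ^ (A - 0) * (t₀) ^ (-A))
      = ((t₀) ^ (0:ℤ) * (s₀) ^ (A - 0) * (t₀) ^ (-A))
      * ((t₀) ^ (-B) * (s₀) ^ ((0:ℤ) - -B) * (t₀) ^ (-(0:ℤ))) :=
    Q.mul_comm_of_mem_isMulCommutative h1 h2
  simp only [neg_zero, zpow_zero, mul_one, one_mul, sub_zero, zero_sub, neg_neg] at hc
  rw [add_comm A B, zpow_add (s₀) B A, neg_add, zpow_add (t₀) (-B) (-A)]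
  calc (s₀) ^ A * ((t₀) ^ (-B) * (t₀) ^ (-A)) * (s₀) ^ B
      = ((s₀) ^ A * (t₀) ^ (-A)) * ((t₀) ^ (-B) * (s₀) ^ B) := by group
    _ = ((t₀) ^ (-B) * (s₀) ^ B) * ((s₀) ^ A * (t₀) ^ (-A)) := hc.symm
    _ = _ := by group

lemma s_not_norm_U (C : FieldCfg p U Q e ψ y) {z : F} (hz : ∀ u ∈ U, e z * u * (e z)⁻¹ ∈ U) : z = 0 := by
  obtain ⟨u, hu, hu1⟩ := (Subgroup.bot_or_exists_ne_one U).resolve_left (fun h => by
    have := C.one_lt_U; rw [h, Subgroup.card_bot] at this; omega)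
  have h := hz u hu
  rw [← C.e_neg, mul_assoc, C.e_mul_u hu, ← mul_assoc, ← C.e_add] at h
  have h' : e (z + ψ u * -z) ∈ U := by
    have := U.mul_mem h (U.inv_mem hu)
    rwa [mul_inv_cancel_right] at this
  have h0 := C.mem_U_e h'
  by_contra hz0
  have : ψ u = 1 := mul_right_cancel₀ hz0 (by linear_combination -h0)
  exact hu1 (C.ψ_inj hu U.one_mem (this.trans C.ψ_one.symm))

/-- `H = PU` meets its conjugates under nontrivial powers of `t` inside `U`. -/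
lemma inter (C : FieldCfg p U Q e ψ y) {k : ℤ} (hk : (k : F) ≠ 0) {x z : F} {u v : G} (hu : u ∈ U)
    (hv : v ∈ U) (h : (t₀) ^ k * (e x * u) * (t₀) ^ (-k) = e z * v) : x = 0 := by
  by_contra hx
  let W : AddSubgroup F :=
    { carrier := {x | ∃ z, ∃ v ∈ U, (t₀) ^ k * e x * (t₀) ^ (-k) = e z * v}
      zero_mem' := ⟨0, 1, U.one_mem, by rw [C.e_zero]; group⟩
      add_mem' := by
        rintro a b ⟨za, va, hva, ha⟩ ⟨zb, vb, hvb, hb⟩
        refine ⟨za + ψ va * zb, va * vb, U.mul_mem hva hvb, ?_⟩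
        calc (t₀) ^ k * e (a + b) * (t₀) ^ (-k)
            = ((t₀) ^ k * e a * (t₀) ^ (-k)) * ((t₀) ^ k * e b * (t₀) ^ (-k)) := by
              rw [C.e_add]; group
          _ = e za * (va * e zb) * vb := by rw [ha, hb]; group
          _ = e (za + ψ va * zb) * (va * vb) := by rw [C.e_mul_u hva, C.e_add]; group
      neg_mem' := by
        rintro a ⟨za, va, hva, ha⟩
        refine ⟨ψ va⁻¹ * -za, va⁻¹, U.inv_mem hva, ?_⟩
        calc (t₀) ^ k * e (-a) * (t₀) ^ (-k) = ((t₀) ^ k * e a * (t₀) ^ (-k))⁻¹ := by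
              rw [C.e_neg]; group
          _ = va⁻¹ * e (-za) := by rw [ha, C.e_neg, mul_inv_rev]
          _ = _ := C.e_mul_u (U.inv_mem hva) _ }
  have hxW : x ∈ W := by
    refine ⟨z, v * ((t₀) ^ k * u * (t₀) ^ (-k))⁻¹,
      U.mul_mem hv (U.inv_mem (C.conj_mem_U k hu)), ?_⟩
    rw [← mul_assoc, ← h]; group
  have hUW : ∀ a ∈ W, ∀ w ∈ U, ψ w * a ∈ W := by
    rintro a ⟨za, va, hva, ha⟩ w hw
    have hw' := C.conj_mem_U k hw
    refine ⟨ψ ((t₀) ^ k * w * (t₀) ^ (-k)) * za,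
      ((t₀) ^ k * w * (t₀) ^ (-k)) * va * ((t₀) ^ k * w * (t₀) ^ (-k))⁻¹,
      U.mul_mem (U.mul_mem hw' hva) (U.inv_mem hw'), ?_⟩
    calc (t₀) ^ k * e (ψ w * a) * (t₀) ^ (-k)
        = ((t₀) ^ k * w * (t₀) ^ (-k)) * ((t₀) ^ k * e a * (t₀) ^ (-k))
            * ((t₀) ^ k * w * (t₀) ^ (-k))⁻¹ := by rw [← C.u_e w hw a]; group
      _ = (((t₀) ^ k * w * (t₀) ^ (-k)) * e za) * (va * ((t₀) ^ k * w * (t₀) ^ (-k))⁻¹) := by
          rw [ha]; group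
      _ = _ := by rw [C.e_mul_u hw']; group
  have hall : ∀ a : F, ∃ b, (t₀) ^ k * e a * (t₀) ^ (-k) = e b := by
    intro a
    have haW : a ∈ W := by
      rcases eq_or_ne a 0 with rfl | ha
      · exact W.zero_mem
      · obtain ⟨c, -, w, hw, hcw⟩ := C.decomp (div_ne_zero ha hx)
        rw [div_eq_iff hx, mul_assoc] at hcw
        rw [hcw, ← zsmul_eq_mul]
        exact W.zsmul_mem (hUW x hxW w hw) c
    obtain ⟨b, w, hw, hbw⟩ := haW
    have hp1 : (e b * w) ^ p = 1 := by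
      rw [← hbw, zpow_neg, conj_pow, C.e_pow_p]; group
    have hexp : ∀ n : ℕ, ∃ b', (e b * w) ^ n = e b' * w ^ n := by
      intro n
      induction n with
      | zero => exact ⟨0, by simp [C.e_zero]⟩
      | succ n ih =>
        obtain ⟨b', hb'⟩ := ih
        refine ⟨b' + ψ (w ^ n) * b, ?_⟩
        rw [pow_succ, hb', mul_assoc, ← mul_assoc (w ^ n), C.e_mul_u (U.pow_mem hw n), C.e_add, pow_succ]
        group
    obtain ⟨b', hb'⟩ := hexp p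
    obtain ⟨-, hwp⟩ := C.repr_unique (U.pow_mem hw p) U.one_mem
      (show e b' * w ^ p = e 0 * 1 by rw [← hb', hp1, C.e_zero, one_mul])
    have hψ : ψ w ^ p = 1 := by rw [← C.ψ_pow hw, hwp, C.ψ_one]
    haveI := C.charF
    haveI : Fact p.Prime := ⟨C.hp⟩
    have hψ1 : ψ w = 1 := by
      have : (ψ w - 1) ^ p = 0 := by rw [sub_pow_char, hψ, one_pow, sub_self]
      exact sub_eq_zero.1 (eq_zero_of_pow_eq_zero this)
    have hw1 := C.ψ_inj hw U.one_mem (hψ1.trans C.ψ_one.symm)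
    exact ⟨b, by rw [hbw, hw1, mul_one]⟩
  -- `t` itself normalizes `P`
  obtain ⟨m, -, w, hw, hkm⟩ := C.decomp (inv_ne_zero hk)
  have hw1 : ψ w = 1 := by
    apply C.ψ_fixed hw
    have h1 : (ψ w) = ((k : F) * m)⁻¹ := by
      apply eq_inv_of_mul_eq_one_left
      rw [mul_comm, mul_assoc, ← hkm, mul_inv_cancel₀ hk]
    rw [h1, inv_pow, mul_pow, C.intCast_pow_p, C.intCast_pow_p]
  rw [hw1, mul_one] at hkm
  have hiter : ∀ n : ℤ, ∀ a : F, ∃ b, (t₀) ^ (k * n) * e a * (t₀) ^ (-(k * n)) = e b := by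
    classical
    haveI : Fintype F := Fintype.ofFinite F
    let g : F → F := fun a => (hall a).choose
    have hg : ∀ a, (t₀) ^ k * e a * (t₀) ^ (-k) = e (g a) := fun a => (hall a).choose_spec
    have hgi : Function.Injective g := by
      intro a a' haa
      apply C.e_inj
      have := (hg a).trans ((congrArg e haa).trans (hg a').symm)
      exact mul_left_cancel (mul_right_cancel this)
    have hgs := Finite.surjective_of_injective hgi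
    intro n
    induction n using Int.induction_on with
    | zero => exact fun a => ⟨a, by simp⟩
    | succ n ih =>
      intro a
      obtain ⟨b, hb⟩ := ih (g a)
      refine ⟨b, ?_⟩
      rw [← hb, ← hg]; group
    | pred n ih =>
      intro a
      obtain ⟨a', ha'⟩ := hgs a
      obtain ⟨b, hb⟩ := ih a'
      refine ⟨b, ?_⟩
      rw [← hb, ← ha', ← hg]; group
  have htk : (t₀) ^ (k * m) = t₀ := by
    have h1 : (t₀) ^ (k * m - 1) = 1 := C.t_zpow_eq_one (by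
      push_cast; rw [← hkm, mul_inv_cancel₀ hk, sub_self])
    have : k * m = k * m - 1 + 1 := by ring
    rw [this, zpow_add, h1, one_mul, zpow_one]
  obtain ⟨b, hb⟩ := hiter m 1
  rw [zpow_neg, htk] at hb
  -- the commutator of `s` and `t` lies in `Q` and in `P`
  have hmem : e (b - 1) ∈ Q := by
    have h1 := C.qel_mem 1 2
    have h2 := C.qel_mem 0 1
    have h3 := Q.mul_mem h1 (Q.inv_mem h2)
    convert h3 using 1
    rw [sub_eq_add_neg, C.e_add, C.e_neg, ← hb]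
    simp only [show (2:ℤ) - 1 = 1 by norm_num, sub_zero, zpow_one, zpow_zero, one_mul,
      show (-2:ℤ) = -1 + -1 by norm_num, zpow_add, zpow_neg_one]
    group
  have hb1 : b = 1 := by
    apply eq_of_sub_eq_zero
    apply C.e_inj
    rw [C.e_zero]
    exact eq_one_of_mem hmem (C.e_pow_p _) C.cop_Q
  subst hb1
  have hcomm : Commute (t₀) (s₀) := by
    have := hb
    rw [mul_inv_eq_iff_eq_mul] at this
    exact this
  have hd : s₀ * (t₀)⁻¹ ∈ Q := by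
    simpa using C.qel_mem 0 1
  have hd1 : s₀ * (t₀)⁻¹ = 1 := by
    have htp : (t₀)⁻¹ ^ p = 1 := by
      rw [inv_pow, conj_pow, C.e_pow_p]; group
    have h0 : (s₀ * (t₀)⁻¹) ^ p = 1 := by
      rw [(Commute.inv_right hcomm.symm).mul_pow, C.e_pow_p, htp, one_mul]
    exact eq_one_of_mem hd h0 C.cop_Q
  rw [mul_inv_eq_one] at hd1
  refine one_ne_zero (α := F) (C.s_not_norm_U fun u hu => ?_)
  have := C.conj_mem_U 1 hu
  rwa [zpow_neg, zpow_one, ← hd1] at this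

lemma rel_group (t s u v w : G) (hw : s * (u⁻¹ * v) * s = u⁻¹ * s ^ (2 : ℤ) * v)
    (I1 : s ^ (2 : ℤ) * t ^ (-3 : ℤ) * s = t⁻¹ * s ^ (3 : ℤ) * t ^ (-2 : ℤ))
    (I2 : s * t * s ^ (-2 : ℤ) = t ^ (2 : ℤ) * s⁻¹ * t⁻¹)
    (I3 : s⁻¹ * t ^ (-2 : ℤ) * s ^ (3 : ℤ) = t ^ (-3 : ℤ) * s ^ (2 : ℤ) * t)
    (hw' : w = t ^ (-2 : ℤ) * (u⁻¹ * v) * t ^ (2 : ℤ)) :
    t⁻¹ * (s ^ (3 : ℤ) * w * s⁻¹) * t⁻¹
      = (s ^ (2 : ℤ) * (t ^ (-3 : ℤ) * u⁻¹ * t ^ (3 : ℤ)) * s⁻¹) * t ^ (-2 : ℤ)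
        * (s ^ (3 : ℤ) * (t⁻¹ * v * t) * s ^ (-2 : ℤ)) := by
  subst hw'
  calc t⁻¹ * (s ^ (3 : ℤ) * (t ^ (-2 : ℤ) * (u⁻¹ * v) * t ^ (2 : ℤ)) * s⁻¹) * t⁻¹
      = (t⁻¹ * s ^ (3 : ℤ) * t ^ (-2 : ℤ)) * (u⁻¹ * v) * (t ^ (2 : ℤ) * s⁻¹ * t⁻¹) := by group
    _ = (s ^ (2 : ℤ) * t ^ (-3 : ℤ)) * (s * (u⁻¹ * v) * s) * (t * s ^ (-2 : ℤ)) := by
        rw [← I1, ← I2]; group
    _ = (s ^ (2 : ℤ) * (t ^ (-3 : ℤ) * u⁻¹ * t ^ (3 : ℤ)))
          * (t ^ (-3 : ℤ) * s ^ (2 : ℤ) * t) * ((t⁻¹ * v * t) * s ^ (-2 : ℤ)) := by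
        rw [hw]; group
    _ = _ := by rw [← I3]; group

lemma sws (C : FieldCfg p U Q e ψ y) (i j : ℤ) {w : G} (hw : w ∈ U) :
    (s₀) ^ i * w * (s₀) ^ j = e ((i : F) + (j : F) * ψ w) * w := by
  rw [C.s_zpow, C.s_zpow, mul_assoc, C.e_mul_u hw, ← mul_assoc, ← C.e_add, mul_comm (j : F)]

lemma ψ_conj_mul (C : FieldCfg p U Q e ψ y) (k : ℤ) {a b : G} (ha : a ∈ U) (hb : b ∈ U) :
    ψ ((t₀) ^ k * (a * b) * (t₀) ^ (-k))
      = ψ ((t₀) ^ k * a * (t₀) ^ (-k)) * ψ ((t₀) ^ k * b * (t₀) ^ (-k)) := by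
  rw [← C.ψ_mul _ (C.conj_mem_U k ha) _ (C.conj_mem_U k hb)]
  congr 1; group

lemma ψ_conj_pow (C : FieldCfg p U Q e ψ y) (k : ℤ) {a : G} (ha : a ∈ U) (n : ℕ) :
    ψ ((t₀) ^ k * a ^ n * (t₀) ^ (-k)) = ψ ((t₀) ^ k * a * (t₀) ^ (-k)) ^ n := by
  rw [← C.ψ_pow (C.conj_mem_U k ha), zpow_neg, conj_pow]

/-- The first coordinate attached to a pair in the norm one set. -/
def coordY (e : F → G) (ψ : G → F) (y u ω : G) : F :=
  ψ ((y * e 1 * y⁻¹) ^ (-1 : ℤ) * ω⁻¹ * (y * e 1 * y⁻¹) ^ (-(-1 : ℤ))) * (2 - ψ ((y * e 1 * y⁻¹) ^ (-3 : ℤ) * u⁻¹ * (y * e 1 * y⁻¹) ^ (-(-3 : ℤ))))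

/-- The second coordinate attached to a pair in the norm one set. -/
def coordZ (e : F → G) (ψ : G → F) (y u v ω : G) : F :=
  ψ ((y * e 1 * y⁻¹) ^ (1 : ℤ) * ω⁻¹ * (y * e 1 * y⁻¹) ^ (-(1 : ℤ))) * ψ ((y * e 1 * y⁻¹) ^ (-1 : ℤ) * u⁻¹ * (y * e 1 * y⁻¹) ^ (-(-1 : ℤ)))
    * (3 - 2 * ψ ((y * e 1 * y⁻¹) ^ (-1 : ℤ) * v * (y * e 1 * y⁻¹) ^ (-(-1 : ℤ))))

lemma rel (C : FieldCfg p U Q e ψ y) {u v ω : G} (hu : u ∈ U) (hv : v ∈ U) (hω : ω ∈ U) {c : ℤ}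
    (huv : ψ u + ψ v = 2)
    (hX : 3 - ψ ((t₀) ^ (-2 : ℤ) * (u⁻¹ * v) * (t₀) ^ (-(-2 : ℤ))) = c * ψ ω) :
    (t₀)⁻¹ * (s₀) ^ c * (t₀)⁻¹ = e (coordY e ψ y u ω) * (t₀) ^ (-2 : ℤ) * e (coordZ e ψ y u v ω) := by
  have hw : s₀ * (u⁻¹ * v) * s₀ = u⁻¹ * (s₀) ^ (2 : ℤ) * v := by
    have h1 : (u * e 1 * u⁻¹) * (v * e 1 * v⁻¹) = (s₀) ^ (2 : ℤ) := by
      rw [C.u_e u hu, C.u_e v hv, ← C.e_add, C.s_zpow, mul_one, mul_one, huv, Int.cast_ofNat]
    rw [← h1]; group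
  have I1 := C.ident 2 1
  have I2 := C.ident 1 (-2)
  have I3 := C.ident (-1) 3
  rw [show (2 + 1 : ℤ) = 3 by norm_num, zpow_one, zpow_neg_one] at I1
  rw [show (1 + -2 : ℤ) = -1 by norm_num, show (-(-1) : ℤ) = 1 by norm_num,
    show (-(-2) : ℤ) = 2 by norm_num, zpow_one, zpow_neg_one, zpow_neg_one] at I2
  rw [show (-1 + 3 : ℤ) = 2 by norm_num, show (-(-1) : ℤ) = 1 by norm_num,
    zpow_one, zpow_neg_one] at I3
  have hγ : (t₀) ^ (-3 : ℤ) * u⁻¹ * (t₀) ^ (-(-3 : ℤ)) ∈ U := C.conj_mem_U _ (U.inv_mem hu)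
  have hδ : (t₀) ^ (-1 : ℤ) * v * (t₀) ^ (-(-1 : ℤ)) ∈ U := C.conj_mem_U _ hv
  have hw' := C.conj_mem_U (-2) (U.mul_mem (U.inv_mem hu) hv)
  have e1 := C.sws 3 (-1) hw'
  have e2 := C.sws 2 (-1) hγ
  have e3 := C.sws 3 (-2) hδ
  have hcω : e (c * ψ ω) = ω * (s₀) ^ c * ω⁻¹ := by rw [C.s_zpow, C.u_e ω hω, mul_comm]
  have ha : (t₀) ^ (-1 : ℤ) * ω⁻¹ * (t₀) ^ (-(-1 : ℤ)) ∈ U := C.conj_mem_U _ (U.inv_mem hω)
  have ha' : (t₀) ^ (1 : ℤ) * ω⁻¹ * (t₀) ^ (-(1 : ℤ)) ∈ U := C.conj_mem_U _ (U.inv_mem hω)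
  have hb : (t₀) ^ (-1 : ℤ) * u⁻¹ * (t₀) ^ (-(-1 : ℤ)) ∈ U := C.conj_mem_U _ (U.inv_mem hu)
  have e4 := C.e_mul_u (U.mul_mem ha' hb) (3 - 2 * ψ ((t₀) ^ (-1 : ℤ) * v * (t₀) ^ (-(-1 : ℤ))))
  rw [C.ψ_mul _ ha' _ hb] at e4
  have e5 := C.e_mul_u ha (2 - ψ ((t₀) ^ (-3 : ℤ) * u⁻¹ * (t₀) ^ (-(-3 : ℤ))))
  simp only [Int.cast_ofNat, Int.cast_neg, Int.cast_one] at e1 e2 e3
  rw [neg_one_mul, ← sub_eq_add_neg, hX, hcω] at e1
  rw [neg_one_mul, ← sub_eq_add_neg] at e2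
  rw [neg_mul, ← sub_eq_add_neg] at e3
  unfold coordY coordZ
  generalize (3 : F) - 2 * ψ ((t₀) ^ (-1 : ℤ) * v * (t₀) ^ (-(-1 : ℤ))) = zz at *
  generalize (2 : F) - ψ ((t₀) ^ (-3 : ℤ) * u⁻¹ * (t₀) ^ (-(-3 : ℤ))) = yy at *
  generalize ψ ((t₀) ^ (1 : ℤ) * ω⁻¹ * (t₀) ^ (-(1 : ℤ))) *
    ψ ((t₀) ^ (-1 : ℤ) * u⁻¹ * (t₀) ^ (-(-1 : ℤ))) * zz = Z at *
  generalize ψ ((t₀) ^ (-1 : ℤ) * ω⁻¹ * (t₀) ^ (-(-1 : ℤ))) * yy = Y at *
  generalize y * e 1 * y⁻¹ = t at *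
  generalize e 1 = s at *
  simp only [zpow_one, zpow_neg_one, neg_neg] at *
  have hrel := rel_group t s u v _ hw I1 I2 I3 rfl
  rw [e1, e2, e3] at hrel
  have hsc : t⁻¹ * s ^ c * t⁻¹
      = (t⁻¹ * ω⁻¹ * t) * (t⁻¹ * (ω * s ^ c * ω⁻¹ * (t ^ (-2 : ℤ) * (u⁻¹ * v) * t ^ (2 : ℤ))) * t⁻¹)
        * (t * (t ^ (-2 : ℤ) * (u⁻¹ * v) * t ^ (2 : ℤ))⁻¹ * ω * t⁻¹) := by group
  rw [hsc, hrel]
  calc (t⁻¹ * ω⁻¹ * t) * (e yy * (t ^ (-3 : ℤ) * u⁻¹ * t ^ (3 : ℤ)) * t ^ (-2 : ℤ)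
        * (e zz * (t⁻¹ * v * t)))
        * (t * (t ^ (-2 : ℤ) * (u⁻¹ * v) * t ^ (2 : ℤ))⁻¹ * ω * t⁻¹)
      = ((t⁻¹ * ω⁻¹ * t) * e yy) * t ^ (-2 : ℤ)
        * ((t ^ (2 : ℤ) * (t ^ (-3 : ℤ) * u⁻¹ * t ^ (3 : ℤ)) * t ^ (-2 : ℤ))
        * (e zz * (t⁻¹ * v * t)))
        * (t * (t ^ (-2 : ℤ) * (u⁻¹ * v) * t ^ (2 : ℤ))⁻¹ * ω * t⁻¹) := by group
    _ = e Y * t ^ (-2 : ℤ) * (((t * ω⁻¹ * t⁻¹) * (t⁻¹ * u⁻¹ * t)) * e zz) * (t⁻¹ * v * t)
        * (t * (t ^ (-2 : ℤ) * (u⁻¹ * v) * t ^ (2 : ℤ))⁻¹ * ω * t⁻¹) := by rw [e5]; group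
    _ = e Y * t ^ (-2 : ℤ) * e Z := by rw [e4]; group

/-- A scalar relation is the trivial one. -/
lemma scalar_rel (C : FieldCfg p U Q e ψ y) {c a g : ℤ} (hg : (g : F) ≠ 0)
    (h : (t₀)⁻¹ * (s₀) ^ c * (t₀)⁻¹ = (s₀) ^ a * (t₀) ^ (-2 : ℤ) * (s₀) ^ g) : (a : F) = 1 := by
  haveI := C.Q_comm
  haveI := C.charF
  haveI : Fact p.Prime := ⟨C.hp⟩
  letI : CommGroup Q :=
    { (inferInstance : Group Q) with
      mul_comm := fun a b => Subtype.ext (Q.mul_comm_of_mem_isMulCommutative a.2 b.2) }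
  have hcg : ((c - a - g : ℤ) : F) = 0 := by
    apply C.zpow_mem_Q
    have h1 := Q.mul_mem (Q.inv_mem (C.qel_mem (-1) (c - 1)))
      (Q.mul_mem (C.qel_mem 0 a) (C.qel_mem (a - 2) (a - 2 + g)))
    convert h1 using 1
    generalize y * e 1 * y⁻¹ = t at *
    generalize e 1 = s at *
    have h' : s ^ c = t * (s ^ a * t ^ (-2 : ℤ) * s ^ g) * t := by rw [← h]; group
    simp only [sub_neg_eq_add, sub_add_cancel, add_sub_cancel_left, sub_zero, h']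
    group
  have hg' : (s₀) ^ g = (s₀) ^ (c - a) := by
    rw [C.s_zpow, C.s_zpow]
    congr 1
    push_cast at hcg ⊢
    linear_combination -hcg
  rw [hg'] at h
  let X : ℤ → Q := fun i => ⟨_, C.qel_mem i 0⟩
  have hX : ∀ i j : ℤ, ((X i / X j : Q) : G) = (t₀) ^ i * (s₀) ^ (j - i) * (t₀) ^ (-j) := by
    intro i j
    simp only [X, div_eq_mul_inv, Subgroup.coe_mul, Subgroup.coe_inv]
    show ((t₀) ^ i * (s₀) ^ (0 - i) * (t₀) ^ (-(0:ℤ))) * ((t₀) ^ j * (s₀) ^ (0 - j) * (t₀) ^ (-(0:ℤ)))⁻¹ = _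
    generalize y * e 1 * y⁻¹ = t
    generalize e 1 = s
    group
  have hrel : X (-1) / X (c - 1) = X 0 / X a * (X (a - 2) / X (c - 2)) := by
    apply Subtype.ext
    rw [Subgroup.coe_mul, hX, hX, hX]
    generalize y * e 1 * y⁻¹ = t at *
    generalize e 1 = s at *
    calc t ^ (-1 : ℤ) * s ^ (c - 1 - -1) * t ^ (-(c - 1)) = (t⁻¹ * s ^ c * t⁻¹) * t ^ (2 - c) := by group
      _ = _ := by rw [h]; group
  have halg := alg_rel (X (-1)) (X (c - 1)) (X 0) (X a) (X (a - 2)) (X (c - 2)) (X (a - 1)) hrel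
  set z : Q := X (-1) / X (a - 1) * (X (c - 2) / X (a - 2)) with hz
  have hshift : ∀ k : ℤ, ((X (-1 + k) / X (a - 1 + k) * (X (c - 2 + k) / X (a - 2 + k)) : Q) : G)
      = (t₀) ^ k * z * (t₀) ^ (-k) := by
    intro k
    rw [hz, Subgroup.coe_mul, Subgroup.coe_mul, hX, hX, hX, hX]
    generalize y * e 1 * y⁻¹ = t
    generalize e 1 = s
    group
  have hfix : Commute (t₀) (z : G) := by
    have h1 := hshift 1
    have h2 : X (-1 + 1) / X (a - 1 + 1) * (X (c - 2 + 1) / X (a - 2 + 1))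
        = X 0 / X a * (X (c - 1) / X (a - 1)) := by
      congr 3 <;> ring_nf
    rw [h2, halg, zpow_one, zpow_neg_one, eq_mul_inv_iff_mul_eq] at h1
    exact h1.symm
  have hper : ∀ i j : ℤ, (i : F) = j → X i = X j := by
    intro i j hij
    apply Subtype.ext
    show (t₀) ^ i * (s₀) ^ (0 - i) * (t₀) ^ (-(0:ℤ)) = (t₀) ^ j * (s₀) ^ (0 - j) * (t₀) ^ (-(0:ℤ))
    rw [t_zpow i, t_zpow j, C.s_zpow, C.s_zpow, C.s_zpow, C.s_zpow, Int.cast_sub, Int.cast_sub, hij]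
  have hprod : ∀ m : ℤ, ∏ j : ZMod p, X (m + (j.val : ℤ)) = ∏ j : ZMod p, X (j.val : ℤ) := by
    intro m
    refine Fintype.prod_equiv (Equiv.addRight (m : ZMod p)) _ _ fun j => hper _ _ ?_
    rw [Equiv.coe_addRight]
    push_cast
    rw [← map_natCast (ZMod.castHom (dvd_refl p) F), ← map_natCast (ZMod.castHom (dvd_refl p) F),
      ← map_intCast (ZMod.castHom (dvd_refl p) F), ← map_add, ZMod.natCast_zmod_val, ZMod.natCast_zmod_val,
      add_comm]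
  have hzp : z ^ p = 1 := by
    have h1 : ∀ j : ZMod p, z = X (-1 + (j.val : ℤ)) / X (a - 1 + (j.val : ℤ))
        * (X (c - 2 + (j.val : ℤ)) / X (a - 2 + (j.val : ℤ))) := by
      intro j
      apply Subtype.ext
      rw [hshift, (hfix.zpow_left _).eq, mul_assoc, ← zpow_add, add_neg_cancel, zpow_zero, mul_one]
    calc z ^ p = ∏ _j : ZMod p, z := by rw [Finset.prod_const, Finset.card_univ, ZMod.card]
      _ = ∏ j : ZMod p, X (-1 + (j.val : ℤ)) / X (a - 1 + (j.val : ℤ))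
          * (X (c - 2 + (j.val : ℤ)) / X (a - 2 + (j.val : ℤ))) := Fintype.prod_congr _ _ h1
      _ = 1 := by
          rw [Finset.prod_mul_distrib, Finset.prod_div_distrib, Finset.prod_div_distrib, hprod, hprod,
            hprod, hprod, div_self', one_mul]
  have hz1 : (z : G) = 1 :=
    eq_one_of_mem z.2 (by rw [← Subgroup.coe_pow, hzp, Subgroup.coe_one]) C.cop_Q
  rw [hz, Subgroup.coe_mul, hX, hX] at hz1
  have hkey : (t₀) ^ (a - 1) = (s₀) ^ a * (t₀) ^ (c - a - 1) * (s₀) ^ (a - c) := by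
    generalize y * e 1 * y⁻¹ = t at *
    generalize e 1 = s at *
    calc t ^ (a - 1) = t * ((t ^ (-1 : ℤ) * s ^ (a - 1 - -1) * t ^ (-(a - 1)))
          * (t ^ (c - 2) * s ^ (a - 2 - (c - 2)) * t ^ (-(a - 2)))) * t ^ (a - 2) := by rw [hz1]; group
      _ = _ := by group
  by_cases hn : ((c - a - 1 : ℤ) : F) = 0
  · rw [C.t_zpow_eq_one hn, mul_one, ← zpow_add] at hkey
    have h0 : ((a + (a - c) : ℤ) : F) = 0 := by
      apply C.s_not_norm_U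
      intro u hu
      rw [← C.s_zpow, ← hkey, ← zpow_neg]
      exact C.conj_mem_U _ hu
    push_cast at hn h0
    linear_combination h0 + hn
  · exfalso
    have h0 : ((a - c : ℤ) : F) = 0 := by
      apply C.s_not_norm_U
      intro u hu
      have hh : e ((a - c : ℤ) : F) * u * (e ((a - c : ℤ) : F))⁻¹
          = e (((a - c : ℤ) : F) + ψ u * -((a - c : ℤ) : F)) * u := by
        rw [← C.e_neg, mul_assoc, C.e_mul_u hu, ← mul_assoc, ← C.e_add]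
      have hu' := C.conj_mem_U (a - 1) hu
      have hx := C.inter hn (x := ((a - c : ℤ) : F) + ψ u * -((a - c : ℤ) : F)) hu
        (z := -(a : F) + ψ ((t₀) ^ (a - 1) * u * (t₀) ^ (-(a - 1))) * (a : F)) hu' (by
          rw [← hh, C.e_add, mul_assoc (e _) (e _), ← C.e_mul_u hu', C.e_neg, ← C.s_zpow, ← C.s_zpow,
            hkey, zpow_neg (t₀) (a - 1), hkey]
          generalize y * e 1 * y⁻¹ = t
          generalize e 1 = s
          group)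
      rw [hh, hx, C.e_zero, one_mul]
      exact hu
    push_cast at h0 hcg
    exact hg (by linear_combination -hcg - h0)

/-- The twisted inversion preserves the norm one pair set. -/
lemma twist (C : FieldCfg p U Q e ψ y) {u v : G} (hu : u ∈ U) (hv : v ∈ U) (huv : ψ u + ψ v = 2) :
    ∃ v' ∈ U, ψ ((t₀) ^ (-3 : ℤ) * u⁻¹ * (t₀) ^ (-(-3 : ℤ))) + ψ v' = 2 := by
  haveI := C.charF
  haveI : Fact p.Prime := ⟨C.hp⟩
  obtain ⟨h20, h12⟩ := C.small_ne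
  have h2p : (2 : F) ^ p = 2 := by exact_mod_cast C.intCast_pow_p 2
  have h3p : (3 : F) ^ p = 3 := by exact_mod_cast C.intCast_pow_p 3
  have hw := C.conj_mem_U (-2) (U.mul_mem (U.inv_mem hu) hv)
  have hγ := C.conj_mem_U (-3) (U.inv_mem hu)
  have hδ := C.conj_mem_U (-1) hv
  have hX0 : 3 - ψ ((t₀) ^ (-2 : ℤ) * (u⁻¹ * v) * (t₀) ^ (-(-2 : ℤ))) ≠ 0 := by
    intro h
    rw [sub_eq_zero] at h
    have := C.ψ_fixed hw (by rw [← h, h3p])
    rw [this] at h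
    exact h20 (by linear_combination h)
  obtain ⟨c, -, ω, hω, hX⟩ := C.decomp hX0
  have h1 := C.rel hu hv hω huv hX
  have hu' := U.pow_mem hu p
  have hv' := U.pow_mem hv p
  have h2 := C.rel (c := c) hu' hv' (U.pow_mem hω p) (by
    rw [C.ψ_pow hu, C.ψ_pow hv, ← add_pow_char, huv, h2p]) (by
    rw [C.ψ_pow hω, C.ψ_conj_mul (-2) (U.inv_mem hu') hv', ← inv_pow, C.ψ_conj_pow (-2) (U.inv_mem hu),
      C.ψ_conj_pow (-2) hv, ← mul_pow, ← C.ψ_conj_mul (-2) (U.inv_mem hu) hv]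
    conv_lhs => rw [← h3p, ← sub_pow_char, hX, mul_pow, C.intCast_pow_p])
  have hY : coordY e ψ y (u ^ p) (ω ^ p) = coordY e ψ y u ω ^ p := by
    unfold coordY
    rw [← inv_pow, ← inv_pow, C.ψ_conj_pow _ (U.inv_mem hω), C.ψ_conj_pow _ (U.inv_mem hu), mul_pow,
      sub_pow_char, h2p]
  have hZ : coordZ e ψ y (u ^ p) (v ^ p) (ω ^ p) = coordZ e ψ y u v ω ^ p := by
    unfold coordZ
    rw [← inv_pow, ← inv_pow, C.ψ_conj_pow _ (U.inv_mem hω), C.ψ_conj_pow _ (U.inv_mem hu),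
      C.ψ_conj_pow _ hv, mul_pow, mul_pow, sub_pow_char, mul_pow, h2p, h3p]
  rw [hY, hZ, h1] at h2
  have hZ0 : coordZ e ψ y u v ω ≠ 0 := by
    unfold coordZ
    refine mul_ne_zero (mul_ne_zero (C.ψ_ne _ (C.conj_mem_U _ (U.inv_mem hω)))
      (C.ψ_ne _ (C.conj_mem_U _ (U.inv_mem hu)))) fun h => ?_
    rw [sub_eq_zero] at h
    have := C.ψ_fixed hδ (mul_left_cancel₀ h20 (by
      conv_lhs => rw [← h2p, ← mul_pow, ← h, h3p, h]))
    rw [this] at h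
    exact one_ne_zero (α := F) (by linear_combination h)
  generalize hYd : coordY e ψ y u ω = Y at *
  generalize coordZ e ψ y u v ω = Z at *
  have hk : ((-2 : ℤ) : F) ≠ 0 := by push_cast; exact neg_ne_zero.2 h20
  have hZp : Z ^ p = Z := by
    have := C.inter hk (x := Z - Z ^ p) (z := -Y + Y ^ p) U.one_mem U.one_mem (by
      rw [sub_eq_add_neg, C.e_add, C.e_add, C.e_neg, C.e_neg, mul_one, mul_one]
      generalize y * e 1 * y⁻¹ = t at *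
      calc t ^ (-2 : ℤ) * (e Z * (e (Z ^ p))⁻¹) * t ^ (-(-2 : ℤ))
          = (e Y)⁻¹ * (e Y * t ^ (-2 : ℤ) * e Z) * (e (Z ^ p))⁻¹ * t ^ (-(-2 : ℤ)) := by group
        _ = _ := by rw [h2]; group)
    linear_combination -this
  have hYp : Y ^ p = Y := by
    rw [hZp] at h2
    exact (C.e_inj (mul_right_cancel (mul_right_cancel h2))).symm
  obtain ⟨a, ha⟩ := C.eq_intCast_of_pow_p hYp
  obtain ⟨g, hg⟩ := C.eq_intCast_of_pow_p hZp
  rw [ha, hg, ← C.s_zpow, ← C.s_zpow] at h1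
  have hY1 := C.scalar_rel (hg ▸ hZ0) h1
  rw [← ha, ← hYd] at hY1
  refine ⟨_, C.conj_mem_U (-1) hω, ?_⟩
  unfold coordY at hY1
  have hinv : (t₀) ^ (-1 : ℤ) * ω⁻¹ * (t₀) ^ (-(-1 : ℤ))
      = ((t₀) ^ (-1 : ℤ) * ω * (t₀) ^ (-(-1 : ℤ)))⁻¹ := by
    generalize y * e 1 * y⁻¹ = t
    group
  rw [hinv, C.ψ_inv (C.conj_mem_U (-1) hω), inv_mul_eq_one₀ (C.ψ_ne _ (C.conj_mem_U (-1) hω))] at hY1
  linear_combination hY1

/-- The norm one pair set is closed under inversion. -/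
lemma inv_closed (C : FieldCfg p U Q e ψ y) {u v : G} (hu : u ∈ U) (hv : v ∈ U) (huv : ψ u + ψ v = 2) :
    ∃ v' ∈ U, ψ u⁻¹ + ψ v' = 2 := by
  haveI := C.charF
  have key : ∀ n : ℕ, ∃ v' ∈ U,
      ψ ((t₀) ^ (-6 * (n : ℤ)) * u * (t₀) ^ (-(-6 * (n : ℤ)))) + ψ v' = 2 := by
    intro n
    induction n with
    | zero => exact ⟨v, hv, by simpa using huv⟩
    | succ n ih =>
      obtain ⟨v1, hv1, h1⟩ := ih
      have hu1 := C.conj_mem_U (-6 * (n : ℤ)) hu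
      obtain ⟨v2, hv2, h2⟩ := C.twist hu1 hv1 h1
      obtain ⟨v3, hv3, h3⟩ := C.twist (C.conj_mem_U (-3) (U.inv_mem hu1)) hv2 h2
      refine ⟨v3, hv3, ?_⟩
      convert h3 using 3
      generalize y * e 1 * y⁻¹ = t
      push_cast
      group
  obtain ⟨m, hm⟩ := C.hp.odd_of_ne_two C.hp2
  obtain ⟨v1, hv1, h1⟩ := key m
  obtain ⟨v2, hv2, h2⟩ := C.twist (C.conj_mem_U (-6 * (m : ℤ)) hu) hv1 h1
  refine ⟨v2, hv2, ?_⟩
  convert h2 using 3
  have h0 : (t₀) ^ (-3 - 6 * (m : ℤ)) = 1 := by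
    apply C.t_zpow_eq_one
    have hp0 : ((2 * m + 1 : ℕ) : F) = 0 := by rw [← hm, CharP.cast_eq_zero]
    push_cast at hp0 ⊢
    linear_combination (-3) * hp0
  generalize y * e 1 * y⁻¹ = t at *
  calc u⁻¹ = t ^ (-3 - 6 * (m : ℤ)) * u⁻¹ * (t ^ (-3 - 6 * (m : ℤ)))⁻¹ := by rw [h0]; group
    _ = _ := by group

end FieldCfg

end Cfsg.Agent.OddLocal44
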