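import Cfsg.Agent.OddLocal44.Netto
import Cfsg.Agent.OddLocal44.HalfNormalizer

/-!
# The stabilizer in a prime-degree group with half-size Sylow normalizer is primitive

An imprimitive stabilizer would give a linear space on the points; it is forced to be a Netto
triple system, in which three consecutive points generate everything, so the group would have
order `p * (p - 1) * (p - 3)`, which Sylow's theorem allows only for `p ≤ 7`.
-/

set_option autoImplicit false
open Cfsg MulAction

namespace Cfsg.Agent.OddLocal44.HalfPrimitive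

variable {G Ω : Type*} [Group G] [MulAction G Ω]

/-- `x` and `y` lie in one translate through `a` of the block `B` at `α`. -/
def Col (G : Type*) {Ω : Type*} [Group G] [MulAction G Ω] (α : Ω) (B : Set Ω) (a x y : Ω) : Prop :=
  ∃ g : G, g • α = a ∧ g⁻¹ • x ∈ B ∧ g⁻¹ • y ∈ B

theorem col_smul (α : Ω) (B : Set Ω) (g : G) {a x y : Ω} (h : Col G α B a x y) :
    Col G α B (g • a) (g • x) (g • y) := by
  obtain ⟨k, ka, kx, ky⟩ := h
  exact ⟨g * k, by rw [mul_smul, ka], by rwa [mul_inv_rev, mul_smul, inv_smul_smul],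
    by rwa [mul_inv_rev, mul_smul, inv_smul_smul]⟩

theorem col_smul_iff (α : Ω) (B : Set Ω) (g : G) {a x y : Ω} :
    Col G α B (g • a) (g • x) (g • y) ↔ Col G α B a x y :=
  ⟨fun h => by simpa using col_smul α B g⁻¹ h, col_smul α B g⟩

section

variable {α : Ω} {B : Set Ω}
  (hB : ∀ h : G, h • α = α → ∀ b ∈ B, h • b ∈ B → ∀ z ∈ B, h • z ∈ B)
include hB

theorem col_trans {a x y z : Ω} (h1 : Col G α B a x y) (h2 : Col G α B a y z) :
    Col G α B a x z := by
  obtain ⟨g, ga, gx, gy⟩ := h1
  obtain ⟨k, ka, ky, kz⟩ := h2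
  refine ⟨g, ga, gx, ?_⟩
  have hfix : (g⁻¹ * k) • α = α := by rw [mul_smul, ka, inv_smul_eq_iff, ga]
  have := hB _ hfix _ ky (by rwa [mul_smul, smul_inv_smul]) _ kz
  rwa [mul_smul, smul_inv_smul] at this

theorem col_iff_mem {β z : Ω} (hβ : β ∈ B) : Col G α B α β z ↔ z ∈ B := by
  constructor
  · rintro ⟨g, ga, gx, gz⟩
    have := hB g ga _ gx (by rwa [smul_inv_smul]) _ gz
    rwa [smul_inv_smul] at this
  · exact fun h => ⟨1, one_smul _ _, by simpa using hβ, by simpa using h⟩

end

theorem false_of_block [Finite G] [FaithfulSMul G Ω] [Fintype Ω] [DecidableEq Ω]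
    [IsPretransitive G Ω] {p : ℕ} [Fact p.Prime] (hcard : Fintype.card Ω = p)
    (hins : ¬ Group.IsSolvable G) (P : Sylow p G)
    (hN : 2 * Nat.card ↥(Subgroup.normalizer ((P : Subgroup G) : Set G)) = p * (p - 1))
    (hp7 : 7 < p) {α : Ω} {B : Set Ω}
    (hB : ∀ h : G, h • α = α → ∀ b ∈ B, h • b ∈ B → ∀ z ∈ B, h • z ∈ B)
    (hαB : α ∉ B) {β y₀ out : Ω} (hβ : β ∈ B) (hy₀ : y₀ ∈ B) (hy₀β : y₀ ≠ β)
    (hout : out ∉ B) (houtα : out ≠ α) : False := by
  classical
  have hp : p.Prime := Fact.out
  obtain ⟨hp5, h2, e, haff, hthree⟩ := half_normalizer_setup hcard hins P hN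
  haveI := h2
  have h2t : ∀ {a b c d : Ω}, a ≠ b → c ≠ d → ∃ g : G, g • a = c ∧ g • b = d :=
    is_two_pretransitive_iff.mp h2
  have hαβ : α ≠ β := fun h => hαB (h ▸ hβ)
  -- a two-point stabilizer keeps the block, and has at most two orbits elsewhere
  have hmemB : ∀ g : G, g • α = α → g • β = β → ∀ z, g • z ∈ B ↔ z ∈ B := by
    intro g ga gb z
    have ga' : g⁻¹ • α = α := by rw [inv_smul_eq_iff, ga]
    have gb' : g⁻¹ • β = β := by rw [inv_smul_eq_iff, gb]
    refine ⟨fun h => ?_, fun h => hB g ga β hβ (gb.symm ▸ hβ) z h⟩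
    simpa using hB g⁻¹ ga' β hβ (gb'.symm ▸ hβ) _ h
  have htB : ∀ z ∈ B, z ≠ β → ∀ w ∈ B, w ≠ β → ∃ g : G, g • α = α ∧ g • β = β ∧ g • z = w := by
    intro z hz hzβ w hw hwβ
    by_contra hno
    push Not at hno
    refine hthree hαβ ![z, w, out] (fun i => ?_) (fun i => ?_) fun i j hij g ga gb h => ?_
    · fin_cases i
      · exact fun h => hαB (show α ∈ B from (show z = α from h) ▸ hz)
      · exact fun h => hαB (show α ∈ B from (show w = α from h) ▸ hw)
      · exact houtα
    · fin_cases i
      · exact hzβ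
      · exact hwβ
      · exact fun h => hout ((show out = β from h) ▸ hβ)
    · have hiff := hmemB g ga gb (![z, w, out] i)
      rw [h] at hiff
      fin_cases i <;> fin_cases j <;> simp [hz, hw, hout] at hiff hij h
      · exact hno g ga gb h
      · exact hno g⁻¹ (by rw [inv_smul_eq_iff, ga]) (by rw [inv_smul_eq_iff, gb])
          (by rw [inv_smul_eq_iff, h])
  have htR : ∀ z ∉ B, z ≠ α → ∀ w ∉ B, w ≠ α → ∃ g : G, g • α = α ∧ g • β = β ∧ g • z = w := by
    intro z hz hzα w hw hwα
    by_contra hno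
    push Not at hno
    refine hthree hαβ ![z, w, y₀] (fun i => ?_) (fun i => ?_) fun i j hij g ga gb h => ?_
    · fin_cases i
      · exact hzα
      · exact hwα
      · exact fun h => hαB (show α ∈ B from (show y₀ = α from h) ▸ hy₀)
    · fin_cases i
      · exact fun h => hz ((show z = β from h) ▸ hβ)
      · exact fun h => hw ((show w = β from h) ▸ hβ)
      · exact hy₀β
    · have hiff := hmemB g ga gb (![z, w, y₀] i)
      rw [h] at hiff
      fin_cases i <;> fin_cases j <;> simp [hz, hw, hy₀] at hiff hij h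
      · exact hno g ga gb h
      · exact hno g⁻¹ (by rw [inv_smul_eq_iff, ga]) (by rw [inv_smul_eq_iff, gb])
          (by rw [inv_smul_eq_iff, h])
  let R : ZMod p → ZMod p → ZMod p → Prop := fun a x y => Col G α B (e a) (e x) (e y)
  have hsymm : ∀ {a x y : Ω}, Col G α B a x y → Col G α B a y x :=
    fun ⟨g, a, b, c⟩ => ⟨g, a, c, b⟩
  -- lines are symmetric
  have hswap₀ : ∀ y, Col G α B α β y → β ≠ y → Col G α B β α y := by
    intro y hy hβy
    obtain ⟨s, sa, sb⟩ := h2t hαβ hαβ.symm
    let C : Finset Ω := ((B.toFinset).erase β).image (s • ·)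
    have hC : ∀ z, z ∈ C ↔ Col G α B β α z ∧ z ≠ α := by
      intro z
      simp only [C, Finset.mem_image, Finset.mem_erase, Set.mem_toFinset]
      constructor
      · rintro ⟨w, ⟨hwβ, hw⟩, rfl⟩
        refine ⟨by simpa [sa, sb] using col_smul α B s ((col_iff_mem hB hβ).mpr hw), fun h => hwβ ?_⟩
        exact MulAction.injective s (h.trans sb.symm)
      · rintro ⟨h, hzα⟩
        refine ⟨s⁻¹ • z, ⟨fun h' => hzα ?_, ?_⟩, smul_inv_smul _ _⟩
        · rw [inv_smul_eq_iff, sb] at h'
          exact h'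
        · rw [← col_iff_mem hB hβ, ← col_smul_iff α B s, sa, sb, smul_inv_smul]
          exact h
    have hCinv : ∀ g : G, g • α = α → g • β = β → ∀ z ∈ C, g • z ∈ C := by
      intro g ga gb z hz
      rw [hC] at hz ⊢
      refine ⟨by simpa [ga, gb] using col_smul α B g hz.1, fun h => hz.2 ?_⟩
      exact MulAction.injective g (h.trans ga.symm)
    have hyB : y ∈ B := (col_iff_mem hB hβ).mp hy
    suffices y ∈ C from ((hC y).mp this).1
    by_contra hyC
    have hCβ : ∀ z ∈ C, z ≠ β := by
      intro z hz h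
      obtain ⟨⟨g, ga, -, gz⟩, -⟩ := (hC z).mp hz
      rw [h, ← ga, inv_smul_smul] at gz
      exact hαB gz
    have hCR : ∀ z ∈ C, z ∉ B := by
      intro z hz hzB
      obtain ⟨g, ga, gb, gz⟩ := htB z hzB (hCβ z hz) y hyB hβy.symm
      exact hyC (gz ▸ hCinv g ga gb z hz)
    have hne : ((B.toFinset).erase β).Nonempty :=
      ⟨y₀, Finset.mem_erase.mpr ⟨hy₀β, Set.mem_toFinset.mpr hy₀⟩⟩
    obtain ⟨z₀, hz₀⟩ : C.Nonempty := Finset.Nonempty.image hne _
    have hCeq : C = (Finset.univ \ B.toFinset).erase α := by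
      ext w
      simp only [Finset.mem_erase, Finset.mem_sdiff, Finset.mem_univ, true_and, Set.mem_toFinset]
      refine ⟨fun hw => ⟨((hC w).mp hw).2, hCR w hw⟩, fun ⟨hwα, hw⟩ => ?_⟩
      obtain ⟨g, ga, gb, gz⟩ := htR z₀ (hCR z₀ hz₀) ((hC z₀).mp hz₀).2 w hw hwα
      exact gz ▸ hCinv g ga gb z₀ hz₀
    have h3 : C.card = (B.toFinset).card - 1 := by
      rw [Finset.card_image_of_injective _ (MulAction.injective s),
        Finset.card_erase_of_mem (Set.mem_toFinset.mpr hβ)]
    have h4 : C.card = p - (B.toFinset).card - 1 := by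
      rw [hCeq, Finset.card_erase_of_mem (by simp [hαB]),
        Finset.card_sdiff_of_subset (Finset.subset_univ _), Finset.card_univ, hcard]
    have h5 : 1 ≤ C.card := Finset.card_pos.mpr ⟨z₀, hz₀⟩
    obtain ⟨k, hk⟩ := hp.odd_of_ne_two (by omega)
    omega
  have S : Netto.Space R := by
    refine
      { ne_left := fun {a x y} h hxa => ?_
        refl := fun {a x} hxa => ?_
        symm := fun h => hsymm h
        trans := fun h h' => col_trans hB h h'
        swap := fun {a x y} h hxy => ?_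
        smul := fun {s} hs0 hs c {a x y} h => ?_
        nontrivial := ?_
        proper := ?_ }
    · obtain ⟨g, ga, gx, -⟩ := h
      rw [hxa, ← ga, inv_smul_smul] at gx
      exact hαB gx
    · obtain ⟨g, ga, gb⟩ := h2t hαβ (e.injective.ne hxa.symm)
      exact ⟨g, ga, by rwa [← gb, inv_smul_smul], by rwa [← gb, inv_smul_smul]⟩
    · have hxa : x ≠ a := fun hxa => by
        obtain ⟨g, ga, gx, -⟩ := h
        rw [hxa, ← ga, inv_smul_smul] at gx
        exact hαB gx
      obtain ⟨g, ga, gb⟩ := h2t hαβ (e.injective.ne hxa.symm)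
      have h' : Col G α B α β (g⁻¹ • e y) := by
        rw [← col_smul_iff α B g, ga, gb, smul_inv_smul]
        exact h
      have h'' := col_smul α B g (hswap₀ _ h' fun hh => hxy (e.injective ?_))
      · rwa [ga, gb, smul_inv_smul] at h''
      · rw [← gb, hh, smul_inv_smul]
    · obtain ⟨g, hg⟩ := haff s c hs0 hs
      have := col_smul α B g h
      rwa [hg, hg, hg] at this
    · obtain ⟨g, ga, gb⟩ := h2t hαβ (e.injective.ne (zero_ne_one (α := ZMod p)))
      refine ⟨e.symm (g • y₀), ?_, fun h => hy₀β ?_⟩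
      · show Col G α B (e 0) (e 1) (e (e.symm (g • y₀)))
        rw [e.apply_symm_apply, ← ga, ← gb, col_smul_iff, col_iff_mem hB hβ]
        exact hy₀
      · rw [Equiv.symm_apply_eq, ← gb] at h
        exact MulAction.injective g h
    · obtain ⟨g, ga, gb⟩ := h2t hαβ (e.injective.ne (zero_ne_one (α := ZMod p)))
      refine ⟨e.symm (g • out), fun h => houtα ?_, fun h => hout ?_⟩
      · rw [Equiv.symm_apply_eq, ← ga] at h
        exact MulAction.injective g h
      · rw [← col_iff_mem hB hβ, ← col_smul_iff α B g, ga, gb]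
        simpa [R] using h
  have h3 : (3 : ZMod p) ≠ 0 := by
    rw [show (3 : ZMod p) = ((3 : ℕ) : ZMod p) by norm_cast, Ne, ZMod.natCast_eq_zero_iff]
    exact fun hd => absurd (Nat.le_of_dvd (by omega) hd) (by omega)
  have h2ne : (2 : ZMod p) ≠ 0 := by
    rw [show (2 : ZMod p) = ((2 : ℕ) : ZMod p) by norm_cast, Ne, ZMod.natCast_eq_zero_iff]
    exact fun hd => absurd (Nat.le_of_dvd (by omega) hd) (by omega)
  -- the group is regular on the triangles
  let T : Finset (Ω × Ω × Ω) := Finset.univ.filter fun t =>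
    t.1 ≠ t.2.1 ∧ t.2.2 ≠ t.1 ∧ t.2.2 ≠ t.2.1 ∧ ¬ Col G α B t.1 t.2.1 t.2.2
  have h12 : (2 : ZMod p) ≠ 1 := fun h => one_ne_zero (show (1 : ZMod p) = 0 by linear_combination h)
  have hnot2 : ¬ Col G α B (e 0) (e 1) (e 2) := S.not_two h3
  have hT0 : ∀ g : G, (g • e 0, g • e 1, g • e 2) ∈ T := fun g => by
    simp only [T, Finset.mem_filter, Finset.mem_univ, true_and, ne_eq, smul_left_cancel_iff,
      EmbeddingLike.apply_eq_iff_eq, col_smul_iff]
    exact ⟨zero_ne_one, h2ne, h12, hnot2⟩
  let Φ : G → T := fun g => ⟨_, hT0 g⟩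
  have hΦ : Function.Bijective Φ := by
    constructor
    · intro g k hgk
      simp only [Φ, Subtype.mk.injEq, Prod.mk.injEq] at hgk
      have hfix : ∀ z, (k⁻¹ * g) • e z = e z := by
        intro z
        have h := S.fix_all h3 (fun z => e.symm ((k⁻¹ * g) • e z))
          (fun a b hab => e.injective (MulAction.injective (k⁻¹ * g) (e.symm.injective hab)))
          (fun a x y h => by
            simpa [R] using col_smul α B (k⁻¹ * g) (show Col G α B (e a) (e x) (e y) from h))
          (by simp [mul_smul, hgk.1]) (by simp [mul_smul, hgk.2.1])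
          (by simp [mul_smul, hgk.2.2]) z
        exact e.symm_apply_eq.mp h
      have h1 : k⁻¹ * g = 1 := FaithfulSMul.eq_of_smul_eq_smul (α := Ω) fun w => by
        obtain ⟨z, rfl⟩ := e.surjective w
        rw [hfix, one_smul]
      exact (inv_mul_eq_one.mp h1).symm
    · rintro ⟨⟨a, b, c⟩, ht⟩
      simp only [T, Finset.mem_filter, Finset.mem_univ, true_and] at ht
      obtain ⟨hab, hca, hcb, hc⟩ := ht
      obtain ⟨g, ga, gb⟩ := h2t hαβ hab
      obtain ⟨k, ka, kb⟩ := h2t hαβ (e.injective.ne (zero_ne_one (α := ZMod p)))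
      have hc' : g⁻¹ • c ∉ B := fun h => hc (by
        have := col_smul α B g ((col_iff_mem hB hβ).mpr h)
        rwa [ga, gb, smul_inv_smul] at this)
      have hk' : k⁻¹ • e 2 ∉ B := fun h => hnot2 (by
        have := col_smul α B k ((col_iff_mem hB hβ).mpr h)
        rwa [ka, kb, smul_inv_smul] at this)
      obtain ⟨m, ma, mb, mc⟩ := htR _ hk'
        (fun h => by rw [inv_smul_eq_iff, ka] at h; exact h2ne (e.injective h)) _ hc'
        (fun h => by rw [inv_smul_eq_iff, ga] at h; exact hca h)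
      refine ⟨g * m * k⁻¹, Subtype.ext ?_⟩
      simp only [Φ, mul_smul]
      rw [show k⁻¹ • e 0 = α by rw [inv_smul_eq_iff, ka],
        show k⁻¹ • e 1 = β by rw [inv_smul_eq_iff, kb], ma, mb, mc, ga, gb, smul_inv_smul]
  obtain ⟨n, -, hnn, hn01, hnB⟩ := S.exists_third h3
  have hfib : ∀ t ∈ (Finset.univ : Finset Ω).offDiag,
      (T.filter fun x => (x.1, x.2.1) = t).card = p - 3 := by
    rintro ⟨a, b⟩ hab
    simp only [Finset.mem_offDiag, Finset.mem_univ, true_and] at hab
    obtain ⟨g, ga, gb⟩ := h2t (e.injective.ne (zero_ne_one (α := ZMod p))) hab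
    have hn0 : n ≠ 0 := S.ne_right hn01
    have hn1 : n ≠ 1 := fun h => by
      rw [h] at hnn; exact one_ne_zero (show (1 : ZMod p) = 0 by linear_combination hnn)
    have himg : T.filter (fun x => (x.1, x.2.1) = (a, b)) =
        ((Finset.univ \ {0, 1, n} : Finset (ZMod p))).image fun z => (a, b, g • e z) := by
      ext ⟨x, y, z⟩
      simp only [T, Finset.mem_filter, Finset.mem_univ, true_and, Finset.mem_image, Finset.mem_sdiff,
        Finset.mem_insert, Finset.mem_singleton, Prod.mk.injEq]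
      constructor
      · rintro ⟨⟨-, hza, hzb, hz⟩, rfl, rfl⟩
        refine ⟨e.symm (g⁻¹ • z), ?_, rfl, rfl, by simp⟩
        rintro (h | h | h) <;> rw [Equiv.symm_apply_eq, inv_smul_eq_iff] at h
        · exact hza (h.trans ga)
        · exact hzb (h.trans gb)
        · apply hz
          rw [h, ← ga, ← gb, col_smul_iff]
          exact hn01
      · rintro ⟨w, hw, rfl, rfl, rfl⟩
        push Not at hw
        refine ⟨⟨hab, ?_, ?_, ?_⟩, rfl, rfl⟩
        · rw [← ga, ne_eq, smul_left_cancel_iff, e.injective.eq_iff]; exact hw.1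
        · rw [← gb, ne_eq, smul_left_cancel_iff, e.injective.eq_iff]; exact hw.2.1
        · rw [← ga, ← gb, col_smul_iff]
          exact fun h => (hnB w h).elim hw.2.1 hw.2.2
    rw [himg, Finset.card_image_of_injective _ (fun z w h => by simpa using h),
      Finset.card_sdiff_of_subset (Finset.subset_univ _), Finset.card_univ, ZMod.card,
      Finset.card_insert_of_notMem (by simp [hn0.symm]), Finset.card_pair hn1.symm]
  have hTcard : T.card = (p * p - p) * (p - 3) := by
    rw [Finset.card_eq_sum_card_fiberwise (f := fun x => (x.1, x.2.1))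
        (t := (Finset.univ : Finset Ω).offDiag) (fun x hx => by
          simp only [T, Finset.coe_filter, Set.mem_ofPred_eq, Finset.mem_univ, true_and] at hx
          simp [hx.1]),
      Finset.sum_congr rfl hfib, Finset.sum_const, smul_eq_mul, Finset.offDiag_card,
      Finset.card_univ, hcard]
  have hG : Nat.card G = (p * p - p) * (p - 3) := by
    rw [Nat.card_eq_of_bijective Φ hΦ, Nat.card_eq_fintype_card, Fintype.card_coe, hTcard]
  -- Sylow
  have hidx : Nat.card (Sylow p G) * Nat.card ↥(Subgroup.normalizer ((P : Subgroup G) : Set G)) =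
      Nat.card G := by
    rw [P.card_eq_index_normalizer]
    exact Subgroup.index_mul_card _
  have hmod : Nat.card (Sylow p G) % p = 1 :=
    Nat.mod_eq_of_modEq (card_sylow_modEq_one p G) hp.one_lt
  have hns : Nat.card (Sylow p G) = 2 * (p - 3) := by
    have h : Nat.card (Sylow p G) * (p * (p - 1)) = (2 * (p - 3)) * (p * (p - 1)) := by
      rw [← hN, mul_left_comm, hidx, hG, hN, Nat.mul_sub_one]
      ring
    exact Nat.eq_of_mul_eq_mul_right (Nat.mul_pos hp.pos (by omega)) h
  rw [hns, show 2 * (p - 3) = p + (p - 6) by omega, Nat.add_mod_left,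
    Nat.mod_eq_of_lt (by omega)] at hmod
  omega

end Cfsg.Agent.OddLocal44.HalfPrimitive
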