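import Mathlib

/-!
# Linear spaces on a prime number of points with half the affine line group

A ternary relation `R a x y` ("`x` and `y` lie on one line through `a`") on `ZMod p`, invariant
under `x ↦ c + a * x` for squares `a ≠ 0`, with symmetric lines and a proper, nontrivial line,
has lines of three points `x, x + d, x + n d` where `n * n = n - 1`, and three consecutive
points generate everything.
-/

set_option autoImplicit false

namespace Cfsg.Agent.OddLocal44.Netto

variable {p : ℕ} [Fact p.Prime]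

theorem isSquare_mul_of_not {a b : ZMod p} (ha : ¬ IsSquare a) (hb : ¬ IsSquare b) :
    IsSquare (a * b) := by
  have ha0 : a ≠ 0 := fun h => ha (h ▸ ⟨0, by simp⟩)
  have hb0 : b ≠ 0 := fun h => hb (h ▸ ⟨0, by simp⟩)
  rw [← quadraticChar_one_iff_isSquare (mul_ne_zero ha0 hb0), map_mul,
    quadraticChar_neg_one_iff_not_isSquare.mpr ha, quadraticChar_neg_one_iff_not_isSquare.mpr hb]
  norm_num

theorem not_isSquare_inv {a : ZMod p} (ha : ¬ IsSquare a) : ¬ IsSquare a⁻¹ := by
  rintro ⟨c, hc⟩
  exact ha ⟨c⁻¹, by rw [← mul_inv, ← hc, inv_inv]⟩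

/-- The hypotheses on the collinearity relation. -/
structure Space (R : ZMod p → ZMod p → ZMod p → Prop) : Prop where
  ne_left : ∀ {a x y}, R a x y → x ≠ a
  refl : ∀ {a x}, x ≠ a → R a x x
  symm : ∀ {a x y}, R a x y → R a y x
  trans : ∀ {a x y z}, R a x y → R a y z → R a x z
  swap : ∀ {a x y}, R a x y → x ≠ y → R x a y
  smul : ∀ {s : ZMod p}, s ≠ 0 → IsSquare s → ∀ (c : ZMod p) {a x y},
    R a x y → R (c + s * a) (c + s * x) (c + s * y)
  nontrivial : ∃ z, R 0 1 z ∧ z ≠ 1
  proper : ∃ z, z ≠ 0 ∧ ¬ R 0 1 z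

namespace Space

variable {R : ZMod p → ZMod p → ZMod p → Prop} (S : Space R)
include S

theorem ne_right {a x y : ZMod p} (h : R a x y) : y ≠ a := S.ne_left (S.symm h)

theorem shift {a x y : ZMod p} (c : ZMod p) (h : R a x y) : R (c + a) (c + x) (c + y) := by
  simpa using S.smul one_ne_zero IsSquare.one c h

theorem scale {s x y : ZMod p} (hs0 : s ≠ 0) (hs : IsSquare s) (h : R 0 x y) :
    R 0 (s * x) (s * y) := by
  simpa using S.smul hs0 hs 0 h

/-- Translating the line `0, 1` by a point `d` of it gives the line `0, -d`. -/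
theorem line_shift {d x : ZMod p} (hd : R 0 1 d) :
    (x + d = 0 ∨ R 0 1 (x + d)) ↔ (x = 0 ∨ R 0 (-d) x) := by
  have hd0 : d ≠ 0 := S.ne_right hd
  constructor
  · intro h
    by_cases hx : x = 0
    · exact Or.inl hx
    right
    rcases h with h | h
    · rw [eq_neg_of_add_eq_zero_left h]
      exact S.refl (neg_ne_zero.mpr hd0)
    · have h1 := S.shift (-d) (S.swap (S.trans (S.symm hd) h) (fun h' => hx (by simpa using h'.symm)))
      simpa [neg_add_cancel, add_comm x d] using h1
  · rintro (rfl | h)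
    · right; simpa using hd
    by_cases hx : x = -d
    · left; rw [hx, neg_add_cancel]
    · have h1 := S.shift d (S.swap h (fun h' => hx h'.symm))
      right
      rw [add_neg_cancel, add_zero, add_comm d x] at h1
      exact S.trans hd h1

/-- The only square on the block of `1` is `1`. -/
theorem eq_one_of_isSquare {u : ZMod p} (hu : R 0 1 u) (hsq : IsSquare u) : u = 1 := by
  by_contra hu1
  have hu0 : u ≠ 0 := S.ne_right hu
  have hC : R 0 (-1) (-u) := by
    by_cases hm : IsSquare (-1 : ZMod p)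
    · simpa using S.scale (neg_ne_zero.mpr one_ne_zero) hm hu
    by_cases hw : ∃ w, R 0 1 w ∧ ¬ IsSquare w
    · obtain ⟨w, hw, hwn⟩ := hw
      have hw0 : w ≠ 0 := S.ne_right hw
      have h1 : R 0 1 (u * w) := by
        have := S.scale hu0 hsq hw
        rw [mul_one] at this
        exact S.trans hu this
      have h2 := S.scale (mul_ne_zero (neg_ne_zero.mpr one_ne_zero) (inv_ne_zero hw0))
        (isSquare_mul_of_not hm (not_isSquare_inv hwn)) (S.trans (S.symm hw) h1)
      rwa [show (-1 : ZMod p) * w⁻¹ * w = -1 by rw [mul_assoc, inv_mul_cancel₀ hw0, mul_one],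
        show (-1 : ZMod p) * w⁻¹ * (u * w) = -u by field_simp] at h2
    · push Not at hw
      exfalso
      have hC' : ∀ s, R 0 (-1) s → ¬ IsSquare s := by
        intro s hs hss
        have hs0 : s ≠ 0 := S.ne_right hs
        have h1 := S.scale (inv_ne_zero hs0)
          (let ⟨r, hr⟩ := hss; ⟨r⁻¹, by rw [← mul_inv, ← hr]⟩) (S.symm hs)
        rw [inv_mul_cancel₀ hs0] at h1
        obtain ⟨r, hr⟩ := hw _ h1
        obtain ⟨t, ht⟩ := hss
        refine hm ⟨t * r, ?_⟩
        rw [show t * r * (t * r) = t * t * (r * r) by ring, ← hr, ← ht, ← mul_assoc,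
          mul_inv_cancel₀ hs0, one_mul]
      have v1 : R 0 (-1) (u - 1) := by
        simpa [sub_eq_neg_add] using S.shift (-1) (S.swap hu (Ne.symm hu1))
      have v2 : R 0 (-1) (u⁻¹ - 1) := by
        have h1 := S.shift (-u) (S.swap (S.symm hu) hu1)
        rw [add_zero, neg_add_cancel] at h1
        have h2 := S.scale (inv_ne_zero hu0) (let ⟨r, hr⟩ := hsq; ⟨r⁻¹, by rw [← mul_inv, ← hr]⟩) h1
        rwa [mul_neg, inv_mul_cancel₀ hu0, show u⁻¹ * (-u + 1) = u⁻¹ - 1 by field_simp; ring] at h2
      obtain ⟨r, hr⟩ := isSquare_mul_of_not (hC' _ v1) (not_isSquare_inv (hC' _ v2))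
      obtain ⟨t, ht⟩ := hsq
      have hu' : u⁻¹ - 1 ≠ 0 := S.ne_right v2
      have hkey : (u - 1) * (u⁻¹ - 1)⁻¹ = -u := by
        rw [mul_inv_eq_iff_eq_mul₀ hu', mul_sub, neg_mul, mul_inv_cancel₀ hu0]
        ring
      have ht0 : t ≠ 0 := fun h => hu0 (by rw [ht, h, mul_zero])
      refine hm ⟨r * t⁻¹, ?_⟩
      rw [show r * t⁻¹ * (r * t⁻¹) = r * r * (t * t)⁻¹ by rw [mul_inv]; ring, ← hr, ← ht, hkey,
        neg_mul, mul_inv_cancel₀ hu0]
  have hper : ∀ z, (z = 0 ∨ R 0 1 z) → (z + (u - 1) = 0 ∨ R 0 1 (z + (u - 1))) := by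
    intro z hz
    have h1 := (S.line_shift (x := z - 1) (S.refl one_ne_zero)).mp (by simpa using hz)
    have h2 : z - 1 = 0 ∨ R 0 (-u) (z - 1) := h1.imp id fun h => S.trans (S.symm hC) h
    have h3 := (S.line_shift hu).mpr h2
    rwa [show z - 1 + u = z + (u - 1) by ring] at h3
  obtain ⟨z, hz0, hz⟩ := S.proper
  have hall : ∀ k : ℕ, ((k : ZMod p) * (u - 1) = 0 ∨ R 0 1 ((k : ZMod p) * (u - 1))) := by
    intro k
    induction k with
    | zero => simp
    | succ k ih =>
      have := hper _ ih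
      rwa [show (k : ZMod p) * (u - 1) + (u - 1) = ((k + 1 : ℕ) : ZMod p) * (u - 1) by
        push_cast; ring] at this
  have hne : u - 1 ≠ 0 := sub_ne_zero.mpr hu1
  have h := hall (z * (u - 1)⁻¹).val
  rw [ZMod.natCast_zmod_val, mul_assoc, inv_mul_cancel₀ hne, mul_one] at h
  exact h.elim hz0 hz

/-- The line through `0` and `1` has just one more point, a nonsquare root of `X * X - X + 1`. -/
theorem exists_third (h3 : (3 : ZMod p) ≠ 0) :
    ∃ n : ZMod p, ¬ IsSquare n ∧ n * n = n - 1 ∧ R 0 1 n ∧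
      ∀ z, R 0 1 z → z = 1 ∨ z = n := by
  obtain ⟨n, hn, hn1⟩ := S.nontrivial
  have hns : ¬ IsSquare n := fun h => hn1 (S.eq_one_of_isSquare hn h)
  have hn0 : n ≠ 0 := S.ne_right hn
  have hB : ∀ z, R 0 1 z → z = 1 ∨ z = n := by
    intro z hz
    by_cases hs : IsSquare z
    · exact Or.inl (S.eq_one_of_isSquare hz hs)
    right
    have hq : IsSquare (z * n⁻¹) := isSquare_mul_of_not hs (not_isSquare_inv hns)
    have h1 := S.scale (mul_ne_zero (S.ne_right hz) (inv_ne_zero hn0)) hq hn
    rw [mul_one, mul_assoc, inv_mul_cancel₀ hn0, mul_one] at h1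
    have h2 := S.eq_one_of_isSquare (S.trans hz (S.symm h1)) hq
    rwa [mul_inv_eq_one₀ hn0] at h2
  have hA : R 0 (-1) (n - 1) := by
    simpa [sub_eq_neg_add] using S.shift (-1) (S.swap hn (Ne.symm hn1))
  have hm : ¬ IsSquare (-1 : ZMod p) := by
    intro hm
    have h1 := S.scale (neg_ne_zero.mpr one_ne_zero) hm hA
    rw [show (-1 : ZMod p) * -1 = 1 by ring] at h1
    have e1 : -1 * (n - 1) = n := (hB _ h1).resolve_left fun h => hn0 (by linear_combination -h)
    have h2 := S.shift (-n) (S.swap (S.symm hn) hn1)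
    rw [add_zero, neg_add_cancel] at h2
    have h4 := S.scale (neg_ne_zero.mpr one_ne_zero) hm h2
    rw [show (-1 : ZMod p) * -n = n by ring] at h4
    have e2 : -1 * (-n + 1) = 1 :=
      (hB _ (S.trans hn h4)).resolve_right fun h => one_ne_zero (by linear_combination -h)
    exact h3 (by linear_combination (-1 : ZMod p) * e1 - 2 * e2)
  refine ⟨n, hns, ?_, hn, hB⟩
  have h1 := S.scale (mul_ne_zero (neg_ne_zero.mpr one_ne_zero) (inv_ne_zero hn0))
    (isSquare_mul_of_not hm (not_isSquare_inv hns)) hn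
  rw [mul_one, show (-1 : ZMod p) * n⁻¹ * n = -1 by
    rw [mul_assoc, inv_mul_cancel₀ hn0, mul_one]] at h1
  have hsqn : IsSquare (-1 * n) := isSquare_mul_of_not hm hns
  have h2 := S.scale (mul_ne_zero (neg_ne_zero.mpr one_ne_zero) hn0) hsqn (S.trans h1 hA)
  rw [show (-1 : ZMod p) * n * (-1 * n⁻¹) = 1 by field_simp] at h2
  rcases hB _ h2 with h | h
  · linear_combination -h
  · exfalso
    exact hn0 (mul_left_cancel₀ hn0 (show n * n = n * 0 by linear_combination -h))

/-- Three consecutive points generate everything. -/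
theorem fix_all (h3 : (3 : ZMod p) ≠ 0) (f : ZMod p → ZMod p) (hf : Function.Injective f)
    (hinv : ∀ a x y, R a x y → R (f a) (f x) (f y))
    (h0 : f 0 = 0) (h1 : f 1 = 1) (h2 : f 2 = 2) (z : ZMod p) : f z = z := by
  obtain ⟨n, hns, hnn, hn, hB⟩ := S.exists_third h3
  have hn0 : n ≠ 0 := S.ne_right hn
  -- the third point of the line through `x` and `x + d`
  have hsquare : ∀ x d : ZMod p, d ≠ 0 → IsSquare d →
      R x (x + d) (x + n * d) ∧ ∀ z, R x (x + d) z → z = x + d ∨ z = x + n * d := by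
    intro x d hd hs
    constructor
    · simpa [mul_comm d n] using S.smul hd hs x hn
    · intro z hz
      have h := S.shift (-x) hz
      rw [neg_add_cancel, neg_add_cancel_left] at h
      have h' := S.scale (inv_ne_zero hd) (let ⟨r, hr⟩ := hs; ⟨r⁻¹, by rw [← mul_inv, ← hr]⟩) h
      rw [inv_mul_cancel₀ hd] at h'
      rcases hB _ h' with e | e
      · left; linear_combination d * e - (-x + z) * mul_inv_cancel₀ hd
      · right; linear_combination d * e - (-x + z) * mul_inv_cancel₀ hd
  have hother : ∀ x d : ZMod p, d ≠ 0 → ¬ IsSquare d →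
      R x (x + d) (x + (1 - n) * d) ∧ ∀ z, R x (x + d) z → z = x + d ∨ z = x + (1 - n) * d := by
    intro x d hd hs
    have hsq : IsSquare ((1 - n) * d) := by
      have : (1 - n : ZMod p) = n⁻¹ := eq_inv_of_mul_eq_one_left (by linear_combination -hnn)
      rw [this, mul_comm]
      exact isSquare_mul_of_not hs (not_isSquare_inv hns)
    have ha : (1 - n) * d ≠ 0 := mul_ne_zero (fun h => hn0 (by linear_combination n * (hnn + n * h))) hd
    have hna : n * ((1 - n) * d) = d := by linear_combination -d * hnn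
    obtain ⟨l1, l2⟩ := hsquare x _ ha hsq
    rw [hna] at l1 l2
    refine ⟨S.symm l1, fun z hz => ?_⟩
    exact (l2 z (S.trans l1 hz)).symm
  have hfix : ∀ x y z, f x = x → f y = y → R x y z → z ≠ y → f z = z := by
    intro x y z hx hy hR hzy
    have hyx : y ≠ x := S.ne_left hR
    have hR' := hinv _ _ _ hR
    rw [hx, hy] at hR'
    have hfz : f z ≠ y := fun h => hzy (hf (h.trans hy.symm))
    obtain ⟨d, rfl⟩ : ∃ d, y = x + d := ⟨y - x, by ring⟩
    have hd : d ≠ 0 := fun h => hyx (by rw [h, add_zero])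
    by_cases hs : IsSquare d
    · obtain ⟨-, l⟩ := hsquare x d hd hs
      exact ((l _ hR').resolve_left hfz).trans ((l _ hR).resolve_left hzy).symm
    · obtain ⟨-, l⟩ := hother x d hd hs
      exact ((l _ hR').resolve_left hfz).trans ((l _ hR).resolve_left hzy).symm
  have hn1 : n ≠ 1 := fun h => hns (h ▸ IsSquare.one)
  have hline : ∀ t, f t = t → f (t + 1) = t + 1 → f (t + n) = t + n := fun t a b =>
    hfix t (t + 1) _ a b (by simpa using (hsquare t 1 one_ne_zero IsSquare.one).1)
      fun h => hn1 (by linear_combination h)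
  let T : ZMod p → Prop := fun t => f t = t ∧ f (t + 1) = t + 1 ∧ f (t + 2) = t + 2
  have hd2 : (2 * n - 1 : ZMod p) ≠ 0 := fun h =>
    h3 (by linear_combination 4 * hnn - (2 * n - 1) * h)
  have hpt : ∀ t, T t → f (t + n) = t + n ∧ f (t + n + 1) = t + n + 1 ∧
      f (t + 1) = t + 1 ∧ f (t + 2 * n) = t + 2 * n := by
    rintro t ⟨a, b, c⟩
    have e1 := hline t a b
    have e2 := hline (t + 1) b (by rw [add_assoc, show (1 : ZMod p) + 1 = 2 by norm_num]; exact c)
    rw [show t + 1 + n = t + n + 1 by ring] at e2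
    have e3 := hline (t + n) e1 e2
    rw [show t + n + n = t + 2 * n by ring] at e3
    exact ⟨e1, e2, b, e3⟩
  obtain ⟨d, hd, hstep⟩ : ∃ d : ZMod p, d ≠ 0 ∧ ∀ t, T t → T (t + d) := by
    by_cases hs : IsSquare (2 * n - 1 : ZMod p)
    · refine ⟨n - 1, sub_ne_zero.mpr hn1, fun t ht => ?_⟩
      obtain ⟨e1, e2, b, e3⟩ := hpt t ht
      obtain ⟨l, -⟩ := hsquare (t + 1) _ hd2 hs
      rw [show t + 1 + (2 * n - 1) = t + 2 * n by ring,
        show t + 1 + n * (2 * n - 1) = t + (n - 1) by linear_combination 2 * hnn] at l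
      refine ⟨hfix _ _ _ b e3 l fun h => hns ?_, ?_, ?_⟩
      · have : n = -1 := by linear_combination -h
        exact absurd (by linear_combination hnn - (n - 2) * this : (3 : ZMod p) = 0) h3
      · rwa [show t + (n - 1) + 1 = t + n by ring]
      · rwa [show t + (n - 1) + 2 = t + n + 1 by ring]
    · refine ⟨n, hn0, fun t ht => ?_⟩
      obtain ⟨e1, e2, b, e3⟩ := hpt t ht
      obtain ⟨l, -⟩ := hother (t + 1) _ hd2 hs
      rw [show t + 1 + (2 * n - 1) = t + 2 * n by ring,
        show t + 1 + (1 - n) * (2 * n - 1) = t + n + 2 by linear_combination -2 * hnn] at l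
      refine ⟨e1, e2, hfix _ _ _ b e3 l fun h => ?_⟩
      have : n = 2 := by linear_combination -h
      exact h3 (by linear_combination hnn - (n + 1) * this)
  have hall : ∀ k : ℕ, T ((k : ZMod p) * d) := by
    intro k
    induction k with
    | zero => exact ⟨by simpa using h0, by simpa using h1, by simpa using h2⟩
    | succ k ih =>
      have := hstep _ ih
      rwa [show (k : ZMod p) * d + d = ((k + 1 : ℕ) : ZMod p) * d by push_cast; ring] at this
  have h := (hall (z * d⁻¹).val).1
  rwa [ZMod.natCast_zmod_val, mul_assoc, inv_mul_cancel₀ hd, mul_one] at h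

/-- The point `2` is off the line through `0` and `1`. -/
theorem not_two (h3 : (3 : ZMod p) ≠ 0) : ¬ R 0 1 2 := by
  obtain ⟨n, -, hnn, -, hB⟩ := S.exists_third h3
  intro h
  rcases hB _ h with e | e
  · exact one_ne_zero (show (1 : ZMod p) = 0 by linear_combination e)
  · exact h3 (by rw [← e] at hnn; linear_combination hnn)

end Space

end Cfsg.Agent.OddLocal44.Netto
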