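import Mathlib

/-!
# Split torus elements of `PSL(2, p)` do not centralize involutions when `p ≡ 3 (mod 4)`
-/

set_option autoImplicit false

open Matrix

namespace Cfsg.Agent.OddLocal44

theorem psl_two_commute_involution {p : ℕ} [Fact p.Prime] (hp3 : p % 4 = 3)
    (s g : Matrix.ProjectiveSpecialLinearGroup (Fin 2) (ZMod p)) (hs : s * s = 1) (hs1 : s ≠ 1)
    (hg : g ^ ((p - 1) / 2) = 1) (hc : s * g = g * s) : g = 1 := by
  obtain ⟨S, rfl⟩ := QuotientGroup.mk_surjective s
  obtain ⟨G, rfl⟩ := QuotientGroup.mk_surjective g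
  have h2 : (2 : ZMod p) ≠ 0 := by
    rw [show (2 : ZMod p) = ((2 : ℕ) : ZMod p) by norm_cast, Ne, ZMod.natCast_eq_zero_iff]
    intro hd
    have := Nat.le_of_dvd (by norm_num) hd
    omega
  -- central elements are `±1`
  have hcen : ∀ Z : Matrix.SpecialLinearGroup (Fin 2) (ZMod p), Z ∈ Subgroup.center _ →
      (Z : Matrix (Fin 2) (Fin 2) (ZMod p)) = 1 ∨ (Z : Matrix (Fin 2) (Fin 2) (ZMod p)) = -1 := by
    intro Z hZ
    obtain ⟨r, hr, hrZ⟩ := Matrix.SpecialLinearGroup.mem_center_iff.mp hZ
    rw [Fintype.card_fin, pow_two, mul_self_eq_one_iff] at hr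
    rw [← hrZ]
    rcases hr with rfl | rfl
    · exact Or.inl (map_one _)
    · exact Or.inr (by rw [map_neg, map_one])
  have hmk : ∀ {A B : Matrix.SpecialLinearGroup (Fin 2) (ZMod p)},
      (QuotientGroup.mk A : ProjectiveSpecialLinearGroup (Fin 2) (ZMod p)) = QuotientGroup.mk B →
      (B : Matrix (Fin 2) (Fin 2) (ZMod p)) = (A : Matrix (Fin 2) (Fin 2) (ZMod p)) ∨
      (B : Matrix (Fin 2) (Fin 2) (ZMod p)) = -(A : Matrix (Fin 2) (Fin 2) (ZMod p)) := by
    intro A B h
    have h' := hcen _ (QuotientGroup.eq.mp h)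
    rcases h' with e | e
    · left
      rw [← mul_inv_cancel_left A B, Matrix.SpecialLinearGroup.coe_mul, e, mul_one]
    · right
      rw [← mul_inv_cancel_left A B, Matrix.SpecialLinearGroup.coe_mul, e, mul_neg, mul_one]
  have hS1 : S ∉ Subgroup.center _ := fun h => hs1 ((QuotientGroup.eq_one_iff S).mpr h)
  set M : Matrix (Fin 2) (Fin 2) (ZMod p) := (S : Matrix (Fin 2) (Fin 2) (ZMod p)) with hM
  set N : Matrix (Fin 2) (Fin 2) (ZMod p) := (G : Matrix (Fin 2) (Fin 2) (ZMod p)) with hN
  have hdet : M 0 0 * M 1 1 - M 0 1 * M 1 0 = 1 := by rw [← det_fin_two]; exact S.2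
  have hM2 : M * M = -1 := by
    rcases hmk (A := S * S) (B := 1) hs with h | h
    · exfalso
      rw [Matrix.SpecialLinearGroup.coe_one, Matrix.SpecialLinearGroup.coe_mul] at h
      have e00 := congrFun (congrFun h 0) 0
      have e01 := congrFun (congrFun h 0) 1
      have e10 := congrFun (congrFun h 1) 0
      have e11 := congrFun (congrFun h 1) 1
      simp only [← hM, mul_apply, Fin.sum_univ_two, one_apply_eq, one_apply_ne, ne_eq,
        zero_ne_one, one_ne_zero, not_false_eq_true] at e00 e01 e10 e11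
      -- `S * S = 1` forces `S` to be scalar
      have d0 : M 0 0 = M 1 1 := by linear_combination -(M 1 1 * e00) + M 1 0 * e01 - M 0 0 * hdet
      have b0 : M 0 1 = 0 := by
        have : M 0 1 * 2 = 0 := by
          linear_combination -(M 1 1 * e01) + M 0 1 * e11 - M 0 1 * hdet
        simpa [h2] using this
      have c0 : M 1 0 = 0 := by
        have : M 1 0 * 2 = 0 := by
          linear_combination -(M 0 0 * e10) + M 1 0 * e00 - M 1 0 * hdet
        simpa [h2] using this
      apply hS1
      rw [Matrix.SpecialLinearGroup.mem_center_iff]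
      refine ⟨M 0 0, ?_, ?_⟩
      · rw [Fintype.card_fin, pow_two]
        linear_combination hdet + M 0 0 * d0 + M 1 0 * b0
      · ext i j
        fin_cases i <;> fin_cases j <;> simp [← hM, d0, b0, c0]
    · rw [Matrix.SpecialLinearGroup.coe_one, Matrix.SpecialLinearGroup.coe_mul, ← hM] at h
      rw [h, neg_neg]
  have hNM : M * N = N * M := by
    rcases hmk (A := S * G) (B := G * S) hc with h | h <;>
      rw [Matrix.SpecialLinearGroup.coe_mul, Matrix.SpecialLinearGroup.coe_mul, ← hM, ← hN] at h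
    · exact h.symm
    exfalso
    obtain ⟨k, hk⟩ : Odd ((p - 1) / 2) := ⟨(p - 3) / 4, by omega⟩
    have hpow : ∀ n : ℕ, M * N ^ n = (-1 : ZMod p) ^ n • (N ^ n * M) := by
      intro n
      induction n with
      | zero => simp
      | succ n ih =>
        rw [pow_succ, pow_succ (-1 : ZMod p), ← mul_assoc, ih, smul_mul_assoc, mul_assoc,
          show M * N = -(N * M) by rw [h, neg_neg], mul_neg, ← mul_assoc]
        rw [mul_smul, neg_one_smul]
    have hGc : N ^ ((p - 1) / 2) = 1 ∨ N ^ ((p - 1) / 2) = -1 := by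
      rw [← QuotientGroup.mk_pow, QuotientGroup.eq_one_iff] at hg
      have := hcen _ hg
      rwa [Matrix.SpecialLinearGroup.coe_pow] at this
    have h1 := hpow ((p - 1) / 2)
    rw [Odd.neg_one_pow ⟨k, hk⟩, neg_one_smul] at h1
    have h3 : M = -M := by
      rcases hGc with e | e <;> rw [e] at h1
      · rwa [mul_one, one_mul] at h1
      · rwa [mul_neg, mul_one, neg_mul, one_mul, neg_inj] at h1
    have h4 : ∀ i j, M i j = 0 := fun i j => by
      have h5 := congrFun (congrFun h3 i) j
      rw [Matrix.neg_apply] at h5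
      have : M i j * 2 = 0 := by linear_combination h5
      simpa [h2] using this
    rw [h4 0 0, h4 0 1] at hdet
    simp at hdet
  -- `N` is a combination of `1` and `M`
  have q00 := congrFun (congrFun hM2 0) 0
  have q01 := congrFun (congrFun hM2 0) 1
  have c00 := congrFun (congrFun hNM 0) 0
  have c01 := congrFun (congrFun hNM 0) 1
  simp only [mul_apply, Fin.sum_univ_two, Matrix.neg_apply, one_apply_eq, one_apply_ne, ne_eq, zero_ne_one,
    not_false_eq_true, neg_zero] at q00 q01 c00 c01
  have hb : M 0 1 ≠ 0 := by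
    intro hb
    rw [hb, zero_mul, add_zero] at q00
    have hsq : IsSquare (-1 : ZMod p) := ⟨M 0 0, q00.symm⟩
    exact (ZMod.exists_sq_eq_neg_one_iff.mp hsq) hp3
  have hd : M 1 1 = -M 0 0 := by
    apply mul_left_cancel₀ hb
    linear_combination q01
  obtain ⟨x, y, hxy⟩ : ∃ x y : ZMod p, N = x • 1 + y • M := by
    refine ⟨N 0 0 - N 0 1 / M 0 1 * M 0 0, N 0 1 / M 0 1, ?_⟩
    have hy : N 0 1 / M 0 1 * M 0 1 = N 0 1 := div_mul_cancel₀ _ hb
    have h10 : N 1 0 = N 0 1 / M 0 1 * M 1 0 := by
      apply mul_left_cancel₀ hb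
      linear_combination c00 - M 1 0 * hy
    have h11 : N 1 1 = N 0 0 - N 0 1 / M 0 1 * M 0 0 + N 0 1 / M 0 1 * M 1 1 := by
      apply mul_left_cancel₀ hb
      linear_combination c01 + (M 0 0 - M 1 1) * hy
    ext i j
    fin_cases i <;> fin_cases j <;> simp [hy, h10.symm]
    exact h11
  have hp1 : p - 1 = (p - 1) / 2 * 2 := by omega
  have hNp : N ^ p = N := by
    have : N ^ (p - 1) = 1 := by
      rw [← QuotientGroup.mk_pow, QuotientGroup.eq_one_iff] at hg
      have := hcen _ hg
      rw [Matrix.SpecialLinearGroup.coe_pow, ← hN] at this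
      rw [hp1, pow_mul, pow_two]
      rcases this with e | e <;> simp [e]
    calc N ^ p = N ^ (p - 1 + 1) := congrArg (N ^ ·) (by omega)
      _ = N := by rw [pow_succ, this, one_mul]
  have hMp : M ^ p = -M := by
    calc M ^ p = M ^ (2 * ((p - 1) / 2) + 1) := congrArg (M ^ ·) (by omega)
      _ = -M := by rw [pow_succ, pow_mul, pow_two, hM2,
        Odd.neg_one_pow ⟨(p - 3) / 4, by omega⟩, neg_one_mul]
  haveI : CharP (Matrix (Fin 2) (Fin 2) (ZMod p)) p := inferInstance
  have hy0 : y = 0 := by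
    have h1 : N ^ p = x • 1 - y • M := by
      rw [hxy, add_pow_char_of_commute (p := p) (h := ((Commute.one_left _).smul_left x).smul_right y),
        smul_pow, smul_pow, one_pow, hMp, ZMod.pow_card, ZMod.pow_card, smul_neg, sub_eq_add_neg]
    rw [hNp, hxy] at h1
    have h2' := congrFun (congrFun h1 0) 1
    simp at h2'
    have : y * M 0 1 * 2 = 0 := by linear_combination h2'
    simpa [h2, hb] using this
  rw [QuotientGroup.eq_one_iff, Matrix.SpecialLinearGroup.mem_center_iff]
  refine ⟨x, ?_, ?_⟩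
  · have := G.2
    rw [← hN, hxy, hy0, zero_smul, add_zero, det_smul, det_one, mul_one] at this
    exact this
  · rw [← hN, hxy, hy0, zero_smul, add_zero, scalar_apply]
    ext i j
    fin_cases i <;> fin_cases j <;> simp

end Cfsg.Agent.OddLocal44
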