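import Cfsg.Agent.OddLocal44.DihedralGraph
import Cfsg.Agent.OddLocal44.HalfPrimitive

/-!
# A triply transitive extension that is not quadruply transitive gives a dihedral Cayley graph
-/

set_option autoImplicit false
open Cfsg MulAction Finset

namespace Cfsg.Agent.OddLocal44

/-- Three points and a subgroup of order `m` fixing two of them, inverted by an involution swapping
them. -/
theorem false_of_not_four_transitive {X Ω : Type*} [Group X] [Finite X] [MulAction X Ω]
    [Fintype Ω] [DecidableEq Ω] {p : ℕ} (hp3 : p % 4 = 3) (hp5 : 5 ≤ p)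
    (hΩ : Fintype.card Ω = p + 1)
    (h3t : ∀ a b c a' b' c' : Ω, a ≠ b → a ≠ c → b ≠ c → a' ≠ b' → a' ≠ c' → b' ≠ c' →
      ∃ g : X, g • a = a' ∧ g • b = b' ∧ g • c = c')
    {u v x₀ : Ω} (huv : u ≠ v) (hux : u ≠ x₀) (hvx : v ≠ x₀)
    (htwo : ∀ c : Fin 3 → Ω, (∀ i, c i ≠ u ∧ c i ≠ v ∧ c i ≠ x₀) →
      (∀ i j, i ≠ j → ∀ g : X, g • u = u → g • v = v → g • x₀ = x₀ → g • c i ≠ c j) → False)
    (hblock : ∀ B : Set Ω, (∀ x ∈ B, x ≠ u ∧ x ≠ v) →
      (∀ h : X, h • u = u → h • v = v → ∀ b ∈ B, h • b ∈ B → ∀ z ∈ B, h • z ∈ B) →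
      ∀ b ∈ B, ∀ b' ∈ B, b' ≠ b → ∀ z, z ≠ u → z ≠ v → z ∈ B)
    (A : Subgroup X) [IsCyclic A] (hA : Nat.card A = (p - 1) / 2)
    (hAu : ∀ h ∈ A, h • u = u ∧ h • v = v)
    (hAfree : ∀ h ∈ A, ∀ x : Ω, x ≠ u → x ≠ v → h • x = x → h = 1)
    (t : X) (htu : t • u = v) (htv : t • v = u) (htt : t * t = 1)
    (htA : ∀ h ∈ A, t * h * t = h⁻¹) (htfree : ∀ h ∈ A, t • x₀ ≠ h • x₀)
    (hnot : ¬ ∀ c d : Ω, (c ≠ u ∧ c ≠ v ∧ c ≠ x₀) → (d ≠ u ∧ d ≠ v ∧ d ≠ x₀) →
      ∃ g : X, g • u = u ∧ g • v = v ∧ g • x₀ = x₀ ∧ g • c = d) : False := by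
  classical
  push Not at hnot
  obtain ⟨c, d, hc, hd, hcd⟩ := hnot
  set W : Finset Ω := univ.filter fun z => z ≠ u ∧ z ≠ v ∧ z ≠ x₀ with hW
  have hWcard : W.card = p - 2 := by
    have : W = univ \ {u, v, x₀} := by ext z; simp [hW]
    rw [this, card_sdiff_of_subset (subset_univ _), card_univ, hΩ,
      card_insert_of_notMem (by simp [huv, hux]), card_pair hvx]
    omega
  let orb : Ω → Finset Ω := fun w => univ.filter fun z =>
    ∃ g : X, g • u = u ∧ g • v = v ∧ g • x₀ = x₀ ∧ g • w = z
  have hmemW : ∀ g : X, g • u = u → g • v = v → g • x₀ = x₀ → ∀ z ∈ W, g • z ∈ W := by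
    intro g gu gv gx z hz
    simp only [hW, mem_filter, mem_univ, true_and] at hz ⊢
    exact ⟨fun h => hz.1 (MulAction.injective g (h.trans gu.symm)),
      fun h => hz.2.1 (MulAction.injective g (h.trans gv.symm)),
      fun h => hz.2.2 (MulAction.injective g (h.trans gx.symm))⟩
  have hcW : c ∈ W := by simp [hW, hc.1, hc.2.1, hc.2.2]
  have hdW : d ∈ W := by simp [hW, hd.1, hd.2.1, hd.2.2]
  -- exactly two orbits
  have hcover : ∀ z ∈ W, z ∈ orb c ∨ z ∈ orb d := by
    intro z hz
    by_contra hno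
    rw [not_or] at hno
    simp only [orb, mem_filter, mem_univ, true_and] at hno
    push Not at hno
    simp only [hW, mem_filter, mem_univ, true_and] at hz
    have hrev : ∀ x y : Ω, (∀ g : X, g • u = u → g • v = v → g • x₀ = x₀ → g • x ≠ y) →
        ∀ g : X, g • u = u → g • v = v → g • x₀ = x₀ → g • y ≠ x := fun x y h g gu gv gx e =>
      h g⁻¹ (by rw [inv_smul_eq_iff, gu]) (by rw [inv_smul_eq_iff, gv])
        (by rw [inv_smul_eq_iff, gx]) (by rw [inv_smul_eq_iff, e])
    refine htwo ![c, d, z] (fun i => by fin_cases i <;> [exact hc; exact hd; exact hz])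
      fun i j hij g gu gv gx => ?_
    fin_cases i <;> fin_cases j <;> simp at hij ⊢
    · exact hcd g gu gv gx
    · exact hno.1 g gu gv gx
    · exact hrev c d hcd g gu gv gx
    · exact hno.2 g gu gv gx
    · exact hrev c z hno.1 g gu gv gx
    · exact hrev d z hno.2 g gu gv gx
  have horb : ∀ w ∈ W, ∀ z ∈ orb w, z ∈ W ∧ orb z = orb w := by
    intro w hw z hz
    simp only [orb, mem_filter, mem_univ, true_and] at hz
    obtain ⟨g, gu, gv, gx, rfl⟩ := hz
    refine ⟨hmemW g gu gv gx w hw, ?_⟩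
    ext y
    simp only [orb, mem_filter, mem_univ, true_and]
    constructor
    · rintro ⟨k, ku, kv, kx, rfl⟩
      exact ⟨k * g, by rw [mul_smul, gu, ku], by rw [mul_smul, gv, kv], by rw [mul_smul, gx, kx],
        mul_smul k g w⟩
    · rintro ⟨k, ku, kv, kx, rfl⟩
      refine ⟨k * g⁻¹, ?_, ?_, ?_, by rw [mul_smul, inv_smul_smul]⟩ <;> rw [mul_smul]
      · rw [show g⁻¹ • u = u by rw [inv_smul_eq_iff, gu], ku]
      · rw [show g⁻¹ • v = v by rw [inv_smul_eq_iff, gv], kv]
      · rw [show g⁻¹ • x₀ = x₀ by rw [inv_smul_eq_iff, gx], kx]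
  have hself : ∀ w, w ∈ orb w := fun w => by
    simp only [orb, mem_filter, mem_univ, true_and]
    exact ⟨1, one_smul _ _, one_smul _ _, one_smul _ _, one_smul _ _⟩
  set D := orb d with hD
  have hDW : D ⊆ W := fun z hz => (horb d hdW z hz).1
  have hcD : c ∉ D := fun h => by
    have h1 := hself d
    rw [← (horb d hdW c h).2] at h1
    simp only [orb, mem_filter, mem_univ, true_and] at h1
    obtain ⟨g, gu, gv, gx, ge⟩ := h1
    exact hcd g gu gv gx ge
  have hsplit : W = orb c ∪ D := by
    ext z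
    rw [mem_union]
    exact ⟨hcover z, fun h => h.elim (fun h => (horb c hcW z h).1) fun h => hDW h⟩
  have hdisj : Disjoint (orb c) D := by
    rw [Finset.disjoint_left]
    intro z hzc hzd
    have h1 := hself c
    rw [← (horb c hcW z hzc).2, (horb d hdW z hzd).2] at h1
    exact hcD h1
  have hsum : (orb c).card + D.card = p - 2 := by
    rw [← hWcard, hsplit, card_union_of_disjoint hdisj]
  -- a set of the size of `D`, invariant and inside `W`, is `D`
  have hDuniq : ∀ S : Finset Ω, S ⊆ W → S.card = D.card →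
      (∀ g : X, g • u = u → g • v = v → g • x₀ = x₀ → ∀ z ∈ S, g • z ∈ S) → S = D := by
    intro S hSW hS hSinv
    have hin : ∀ z ∈ S, orb z ⊆ S := fun z hz y hy => by
      simp only [orb, mem_filter, mem_univ, true_and] at hy
      obtain ⟨g, gu, gv, gx, rfl⟩ := hy
      exact hSinv g gu gv gx z hz
    by_cases hcS : ∃ z ∈ S, z ∈ orb c
    · exfalso
      obtain ⟨z, hz, hzc⟩ := hcS
      have hsub : orb c ⊆ S := (horb c hcW z hzc).2 ▸ hin z hz
      by_cases hdS : ∃ y ∈ S, y ∈ D
      · obtain ⟨y, hy, hyd⟩ := hdS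
        have hsub' : D ⊆ S := hD ▸ (horb d hdW y hyd).2 ▸ hin y hy
        have h1 := card_le_card (union_subset hsub hsub')
        rw [card_union_of_disjoint hdisj] at h1
        have : 0 < (orb c).card := card_pos.mpr ⟨c, hself c⟩
        omega
      · have hsub' : S ⊆ orb c := fun y hy => by
          rcases hcover y (hSW hy) with h | h
          · exact h
          · exact absurd ⟨y, hy, h⟩ hdS
        have h1 := le_antisymm (card_le_card hsub') (card_le_card hsub)
        omega
    · apply eq_of_subset_of_card_le (fun y hy => ?_) hS.ge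
      rcases hcover y (hSW hy) with h | h
      · exact absurd ⟨y, hy, h⟩ hcS
      · exact h
  -- permuting the three points keeps `D`
  have hperm : ∀ s : X, (∀ x ∈ ({u, v, x₀} : Finset Ω), s • x ∈ ({u, v, x₀} : Finset Ω)) →
      ∀ z ∈ D, s • z ∈ D := by
    intro s hs z hz
    have himg : ({u, v, x₀} : Finset Ω).image (s • ·) = {u, v, x₀} :=
      eq_of_subset_of_card_le (fun y hy => by
        obtain ⟨x, hx, rfl⟩ := mem_image.mp hy; exact hs x hx)
        (by rw [card_image_of_injective _ (MulAction.injective s)])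
    have hS : D.image (s • ·) = D := by
      refine hDuniq _ (fun y hy => ?_) (card_image_of_injective _ (MulAction.injective s))
        fun g gu gv gx y hy => ?_
      · obtain ⟨w, hw, rfl⟩ := mem_image.mp hy
        simp only [hW, mem_filter, mem_univ, true_and]
        have hnot : s • w ∉ ({u, v, x₀} : Finset Ω) := by
          rw [← himg]
          intro h
          obtain ⟨x, hx, hxe⟩ := mem_image.mp h
          have hwW := hDW hw
          simp only [hW, mem_filter, mem_univ, true_and] at hwW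
          rw [MulAction.injective s hxe] at hx
          simp [hwW.1, hwW.2.1, hwW.2.2] at hx
        simpa using hnot
      · obtain ⟨w, hw, rfl⟩ := mem_image.mp hy
        have hfix : ∀ x ∈ ({u, v, x₀} : Finset Ω), (s⁻¹ * g * s) • x = x := by
          intro x hx
          have h1 : g • (s • x) = s • x := by
            have h2 := hs x hx
            simp only [mem_insert, mem_singleton] at h2
            rcases h2 with e | e | e <;> rw [e] <;> assumption
          rw [mul_smul, mul_smul, h1, inv_smul_smul]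
        refine mem_image.mpr ⟨(s⁻¹ * g * s) • w, ?_, by
          rw [← mul_smul, ← mul_assoc, ← mul_assoc, mul_inv_cancel, one_mul, mul_smul]⟩
        simp only [hD, orb, mem_filter, mem_univ, true_and] at hw ⊢
        obtain ⟨k, ku, kv, kx, rfl⟩ := hw
        refine ⟨s⁻¹ * g * s * k, ?_, ?_, ?_, (mul_smul _ _ _)⟩ <;> rw [mul_smul]
        · rw [ku, hfix u (by simp)]
        · rw [kv, hfix v (by simp)]
        · rw [kx, hfix x₀ (by simp)]
    rw [← hS]
    exact mem_image_of_mem _ hz
  -- the graph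
  let E : Ω → Ω → Prop := fun x y => ∃ g : X, g • u = u ∧ g • v = v ∧ g • x₀ = x ∧ g⁻¹ • y ∈ D
  have hEinv : ∀ h : X, h • u = u → h • v = v → ∀ x y, E (h • x) (h • y) ↔ E x y := by
    intro h hu hv x y
    constructor
    · rintro ⟨g, gu, gv, gx, gy⟩
      refine ⟨h⁻¹ * g, ?_, ?_, ?_, by rwa [mul_inv_rev, inv_inv, mul_smul]⟩ <;> rw [mul_smul]
      · rw [gu, inv_smul_eq_iff, hu]
      · rw [gv, inv_smul_eq_iff, hv]
      · rw [gx, inv_smul_smul]
    · rintro ⟨g, gu, gv, gx, gy⟩
      exact ⟨h * g, by rw [mul_smul, gu, hu], by rw [mul_smul, gv, hv], by rw [mul_smul, gx],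
        by rwa [mul_inv_rev, mul_smul, inv_smul_smul]⟩
  have hE0 : ∀ y, E x₀ y ↔ y ∈ D := by
    intro y
    constructor
    · rintro ⟨g, gu, gv, gx, gy⟩
      have := hperm g (fun x hx => by
        simp only [mem_insert, mem_singleton] at hx ⊢
        rcases hx with rfl | rfl | rfl <;> simp [gu, gv, gx]) _ gy
      rwa [smul_inv_smul] at this
    · exact fun h => ⟨1, one_smul _ _, one_smul _ _, one_smul _ _, by simpa using h⟩
  have hne : ∀ {x y}, E x y → (x ≠ u ∧ x ≠ v) ∧ (y ≠ u ∧ y ≠ v) ∧ y ≠ x := by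
    rintro x y ⟨g, gu, gv, gx, gy⟩
    have h1 := hDW gy
    simp only [hW, mem_filter, mem_univ, true_and] at h1
    refine ⟨⟨fun e => hux ?_, fun e => hvx ?_⟩, ⟨fun e => h1.1 ?_, fun e => h1.2.1 ?_⟩,
      fun e => h1.2.2 ?_⟩
    · exact MulAction.injective g (gu.trans (e ▸ gx.symm))
    · exact MulAction.injective g (gv.trans (e ▸ gx.symm))
    · rw [e, inv_smul_eq_iff, gu]
    · rw [e, inv_smul_eq_iff, gv]
    · rw [e, inv_smul_eq_iff, gx]
  have hmove : ∀ x, x ≠ u → x ≠ v → ∃ g : X, g • u = u ∧ g • v = v ∧ g • x₀ = x :=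
    fun x hxu hxv => h3t u v x₀ u v x huv hux hvx huv hxu.symm hxv.symm
  -- symmetry: out-degree equals in-degree
  have hsymm : ∀ x y, E x y → E y x := by
    set V := univ.filter fun z : Ω => z ≠ u ∧ z ≠ v
    have hout : ∀ x ∈ V, (V.filter fun y => E x y).card = D.card := by
      intro x hx
      simp only [V, mem_filter, mem_univ, true_and] at hx
      obtain ⟨g, gu, gv, gx⟩ := hmove x hx.1 hx.2
      rw [← card_image_of_injective D (MulAction.injective g)]
      congr 1
      ext y
      simp only [V, mem_filter, mem_univ, true_and, mem_image]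
      constructor
      · rintro ⟨-, h⟩
        refine ⟨g⁻¹ • y, ?_, smul_inv_smul _ _⟩
        rw [← hE0, ← hEinv g gu gv, gx, smul_inv_smul]
        exact h
      · rintro ⟨z, hz, rfl⟩
        rw [← gx, hEinv g gu gv, hE0]
        refine ⟨?_, hz⟩
        exact (hne (x := g • x₀) (y := g • z) (by rw [hEinv g gu gv, hE0]; exact hz)).2.1
    have hin : ∀ y ∈ V, (V.filter fun x => E x y).card = (V.filter fun x => E x x₀).card := by
      intro y hy
      simp only [V, mem_filter, mem_univ, true_and] at hy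
      obtain ⟨g, gu, gv, gx⟩ := hmove y hy.1 hy.2
      rw [← card_image_of_injective (V.filter fun x => E x x₀) (MulAction.injective g)]
      congr 1
      ext x
      simp only [mem_filter, mem_image, V, mem_univ, true_and]
      constructor
      · rintro ⟨-, h⟩
        have h' : E (g⁻¹ • x) x₀ := by rwa [← hEinv g gu gv, smul_inv_smul, gx]
        exact ⟨g⁻¹ • x, ⟨(hne h').1, h'⟩, smul_inv_smul _ _⟩
      · rintro ⟨z, ⟨-, hz⟩, rfl⟩
        have h' : E (g • z) y := by rw [← gx, hEinv g gu gv]; exact hz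
        exact ⟨(hne h').1, h'⟩
    have hx₀V : x₀ ∈ V := by simp [V, hux.symm, hvx.symm]
    have hcnt : (V.filter fun x => E x x₀).card = D.card := by
      have h1 := Finset.sum_card_bipartiteAbove_eq_sum_card_bipartiteBelow E (s := V) (t := V)
      simp only [bipartiteAbove, bipartiteBelow] at h1
      rw [sum_congr rfl hout, sum_congr rfl hin, sum_const, sum_const, smul_eq_mul, smul_eq_mul] at h1
      exact (Nat.eq_of_mul_eq_mul_left (card_pos.mpr ⟨x₀, hx₀V⟩) h1).symm
    have hset : V.filter (fun x => E x x₀) = D := by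
      refine hDuniq _ (fun y hy => ?_) hcnt fun g gu gv gx y hy => ?_
      · simp only [mem_filter] at hy
        simp only [hW, mem_filter, mem_univ, true_and]
        exact ⟨(hne hy.2).1.1, (hne hy.2).1.2, fun e => (hne hy.2).2.2 e.symm⟩
      · simp only [mem_filter, V, mem_univ, true_and] at hy ⊢
        have h' : E (g • y) x₀ := by rw [← gx, hEinv g gu gv]; exact hy.2
        exact ⟨(hne h').1, h'⟩
    intro x y hxy
    obtain ⟨g, gu, gv, gx, gy⟩ := hxy
    rw [← hset, mem_filter] at gy
    have := (hEinv g gu gv _ _).mpr gy.2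
    rwa [smul_inv_smul, gx] at this
  have hirr : ∀ x, ¬ E x x := fun x h => (hne h).2.2 rfl
  have htE : ∀ x y, E x y → E (t • x) (t • y) := by
    rintro x y ⟨g, gu, gv, gx, gy⟩
    obtain ⟨s, su, sv, sx⟩ := h3t u v x₀ v u x₀ huv hux hvx huv.symm hvx hux
    refine ⟨t * g * s, ?_, ?_, ?_, ?_⟩
    · rw [mul_smul, su, mul_smul, gv, htv]
    · rw [mul_smul, sv, mul_smul, gu, htu]
    · rw [mul_smul, sx, mul_smul, gx]
    · rw [mul_inv_rev, mul_inv_rev, mul_smul, mul_smul, inv_smul_smul]
      have := hperm s⁻¹ (fun z hz => by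
        simp only [mem_insert, mem_singleton] at hz ⊢
        rcases hz with rfl | rfl | rfl
        · exact Or.inr (Or.inl (by rw [inv_smul_eq_iff, sv]))
        · exact Or.inl (by rw [inv_smul_eq_iff, su])
        · exact Or.inr (Or.inr (by rw [inv_smul_eq_iff, sx]))) _ gy
      exact this
  -- the points other than `u` and `v`
  let V' := {x : Ω // x ≠ u ∧ x ≠ v}
  have hAV : ∀ (h : A) (x : V'), (h : X) • (x : Ω) ≠ u ∧ (h : X) • (x : Ω) ≠ v := fun h x =>
    ⟨fun e => x.2.1 (MulAction.injective (h : X) (e.trans (hAu _ h.2).1.symm)),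
      fun e => x.2.2 (MulAction.injective (h : X) (e.trans (hAu _ h.2).2.symm))⟩
  letI : MulAction A V' :=
    { smul := fun h x => ⟨(h : X) • (x : Ω), hAV h x⟩
      one_smul := fun x => Subtype.ext (one_smul X (x : Ω))
      mul_smul := fun g h x => Subtype.ext (mul_smul (g : X) (h : X) (x : Ω)) }
  letI : CommGroup A := IsCyclic.commGroup
  haveI : Fintype A := Fintype.ofFinite A
  have htV : ∀ x : V', t • (x : Ω) ≠ u ∧ t • (x : Ω) ≠ v := fun x =>
    ⟨fun e => x.2.2 (MulAction.injective t (e.trans htv.symm)),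
      fun e => x.2.1 (MulAction.injective t (e.trans htu.symm))⟩
  have htinv : ∀ z : Ω, t • t • z = z := fun z => by rw [← mul_smul, htt, one_smul]
  let tV : Equiv.Perm V' :=
    { toFun := fun x => ⟨t • (x : Ω), htV x⟩
      invFun := fun x => ⟨t • (x : Ω), htV x⟩
      left_inv := fun x => Subtype.ext (htinv _)
      right_inv := fun x => Subtype.ext (htinv _) }
  let x' : V' := ⟨x₀, hux.symm, hvx.symm⟩
  have hV'card : Fintype.card V' = p - 1 := by
    rw [Fintype.card_subtype, show (univ.filter fun x : Ω => x ≠ u ∧ x ≠ v) = univ \ {u, v} by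
      ext z; simp, card_sdiff_of_subset (subset_univ _), card_univ, hΩ, card_pair huv]
    omega
  have hfree : ∀ (g k : A) (z : V'), g • z = k • z → g = k := by
    intro g k z e
    have e' : (g : X) • (z : Ω) = (k : X) • (z : Ω) := congrArg Subtype.val e
    have := hAfree ((k : X)⁻¹ * g) (mul_mem (inv_mem k.2) g.2) z z.2.1 z.2.2
      (by rw [mul_smul, e', inv_smul_smul])
    exact Subtype.ext (inv_mul_eq_one.mp this).symm
  have hbij : Function.Bijective fun q : A × Bool => q.1 • if q.2 then tV x' else x' := by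
    rw [Fintype.bijective_iff_injective_and_card]
    constructor
    · rintro ⟨g, i⟩ ⟨k, j⟩ e
      have hmix : ∀ g k : A, g • x' ≠ k • tV x' := fun g k e => by
        have e' : (g : X) • x₀ = (k : X) • t • x₀ := congrArg Subtype.val e
        refine htfree ((k : X)⁻¹ * g) (mul_mem (inv_mem k.2) g.2) ?_
        rw [mul_smul, e', inv_smul_smul]
      cases i <;> cases j <;> simp only [if_true, Bool.false_eq_true, if_false] at e
      · rw [hfree g k _ e]
      · exact absurd e (hmix g k)
      · exact absurd e.symm (hmix k g)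
      · rw [hfree g k _ e]
    · rw [Fintype.card_prod, Fintype.card_bool, hV'card, ← Nat.card_eq_fintype_card, hA]
      omega
  -- numerical data
  have hD0 : 0 < D.card := card_pos.mpr ⟨d, hself d⟩
  have hc0 : 0 < (orb c).card := card_pos.mpr ⟨c, hself c⟩
  have hcnt : ∀ z : Ω, (univ.filter fun w : V' => E x₀ (w : Ω) ∧ E z (w : Ω)).card =
      (D.filter fun w => E z w).card := by
    intro z
    rw [← card_map (f := ⟨Subtype.val, Subtype.val_injective⟩)]
    congr 1
    ext w
    simp only [mem_map, mem_filter, mem_univ, true_and, Function.Embedding.coeFn_mk, hE0]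
    refine ⟨?_, fun ⟨h1, h2⟩ => ?_⟩
    · rintro ⟨a, ha, rfl⟩; exact ha
    · have h3 := hDW h1
      simp only [hW, mem_filter, mem_univ, true_and] at h3
      exact ⟨⟨w, h3.1, h3.2.1⟩, ⟨h1, h2⟩, rfl⟩
  have hinvD : ∀ g : X, g • u = u → g • v = v → g • x₀ = x₀ → ∀ z,
      (D.filter fun w => E (g • z) w).card = (D.filter fun w => E z w).card := by
    intro g gu gv gx z
    rw [← card_image_of_injective (D.filter fun w => E z w) (MulAction.injective g)]
    congr 1
    ext w
    simp only [mem_filter, mem_image]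
    constructor
    · rintro ⟨hw, he⟩
      refine ⟨g⁻¹ • w, ⟨?_, ?_⟩, smul_inv_smul _ _⟩
      · rw [← hE0, ← hEinv g gu gv, gx, smul_inv_smul, hE0]; exact hw
      · rw [← hEinv g gu gv, smul_inv_smul]; exact he
    · rintro ⟨y, ⟨hy, he⟩, rfl⟩
      exact ⟨by rw [← hE0, ← gx, hEinv g gu gv, hE0]; exact hy, (hEinv g gu gv _ _).mpr he⟩
  -- `x₀` has no twin
  have hD' : ∀ z, z ≠ u → z ≠ v → z ≠ x₀ → z ∉ D → z ∈ orb c := fun z a b c' h =>
    (hcover z (by simp [hW, a, b, c'])).resolve_right h
  have hmu : (D.filter fun w => E c w).card < D.card := by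
    refine lt_of_le_of_ne (card_filter_le _ _) fun heq => ?_
    have hall := filter_eq_self.mp (eq_of_subset_of_card_le (filter_subset _ _) heq.ge)
    have hEc : ∀ w, E c w ↔ E x₀ w := by
      obtain ⟨g, gu, gv, gx⟩ := hmove c hc.1 hc.2.1
      have himg : D.image (g • ·) = D := by
        refine (eq_of_subset_of_card_le (fun w hw => ?_)
          (card_image_of_injective _ (MulAction.injective g)).le).symm
        refine mem_image.mpr ⟨g⁻¹ • w, ?_, smul_inv_smul _ _⟩
        rw [← hE0, ← hEinv g gu gv, gx, smul_inv_smul]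
        exact hall w hw
      intro w
      rw [hE0, ← himg, ← gx, mem_image]
      constructor
      · intro h
        refine ⟨g⁻¹ • w, ?_, smul_inv_smul _ _⟩
        rw [← hE0, ← hEinv g gu gv, smul_inv_smul]
        exact h
      · rintro ⟨y, hy, rfl⟩
        rw [hEinv g gu gv, hE0]
        exact hy
    let B : Set Ω := {y | (y ≠ u ∧ y ≠ v) ∧ ∀ w, E y w ↔ E x₀ w}
    have hB := hblock B (fun x hx => hx.1) (fun h hu hv b hb hhb z hz => ?_) x₀
      ⟨⟨hux.symm, hvx.symm⟩, fun _ => Iff.rfl⟩ c ⟨⟨hc.1, hc.2.1⟩, hEc⟩ hc.2.2 d hd.1 hd.2.1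
    · have h1 := (hB.2 d).mpr ((hE0 d).mpr (hself d))
      exact hirr d h1
    · refine ⟨⟨fun e => hz.1.1 (MulAction.injective h (e.trans hu.symm)),
        fun e => hz.1.2 (MulAction.injective h (e.trans hv.symm))⟩, fun w => ?_⟩
      obtain ⟨w, rfl⟩ : ∃ y, h • y = w := ⟨h⁻¹ • w, smul_inv_smul _ _⟩
      rw [← hhb.2, hEinv h hu hv, hEinv h hu hv, hb.2, hz.2]
  have hdD : d ∈ D := hself d
  have hlam : (D.filter fun w => E d w).card + 1 < D.card := by
    have hle : D.filter (fun w => E d w) ⊆ D.erase d := fun w hw => by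
      rw [mem_filter] at hw
      exact mem_erase.mpr ⟨fun e => hirr d (e ▸ hw.2), hw.1⟩
    have h1 := card_le_card hle
    rw [card_erase_of_mem hdD] at h1
    refine lt_of_le_of_ne (by omega) fun heq => ?_
    have hall : ∀ w ∈ D, w ≠ d → E d w := fun w hw hwd => by
      have := eq_of_subset_of_card_le hle (by rw [card_erase_of_mem hdD]; omega)
      have h2 : w ∈ D.erase d := mem_erase.mpr ⟨hwd, hw⟩
      rw [← this, mem_filter] at h2
      exact h2.2
    have hEd : ∀ w, (E d w ∨ w = d) ↔ (E x₀ w ∨ w = x₀) := by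
      have hdx : E d x₀ := hsymm _ _ ((hE0 d).mpr (hself d))
      obtain ⟨g, gu, gv, gx⟩ := hmove d hd.1 hd.2.1
      have hmem : ∀ w, E d w ↔ w ∈ D.image (g • ·) := fun w => by
        rw [← gx, mem_image]
        constructor
        · intro h
          refine ⟨g⁻¹ • w, ?_, smul_inv_smul _ _⟩
          rw [← hE0, ← hEinv g gu gv, smul_inv_smul]
          exact h
        · rintro ⟨y, hy, rfl⟩
          rw [hEinv g gu gv, hE0]
          exact hy
      have himg : insert x₀ (D.erase d) = D.image (g • ·) := by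
        refine eq_of_subset_of_card_le (fun w hw => ?_) ?_
        · rw [← hmem]
          rcases mem_insert.mp hw with rfl | hw
          · exact hdx
          · exact hall w (mem_of_mem_erase hw) (ne_of_mem_erase hw)
        · rw [card_image_of_injective _ (MulAction.injective g),
            card_insert_of_notMem (fun h => by simpa [hW] using hDW (mem_of_mem_erase h)),
            card_erase_of_mem hdD]
          omega
      intro w
      rw [hmem, ← himg, mem_insert, mem_erase, hE0]
      constructor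
      · rintro ((rfl | ⟨-, h⟩) | rfl)
        · exact Or.inr rfl
        · exact Or.inl h
        · exact Or.inl (hself _)
      · rintro (h | rfl)
        · by_cases hwd : w = d
          · exact Or.inr hwd
          · exact Or.inl (Or.inr ⟨hwd, h⟩)
        · exact Or.inl (Or.inl rfl)
    let B : Set Ω := {y | (y ≠ u ∧ y ≠ v) ∧ ∀ w, (E y w ∨ w = y) ↔ (E x₀ w ∨ w = x₀)}
    have hB := hblock B (fun x hx => hx.1) (fun h hu hv b hb hhb z hz => ?_) x₀
      ⟨⟨hux.symm, hvx.symm⟩, fun _ => Iff.rfl⟩ d ⟨⟨hd.1, hd.2.1⟩, hEd⟩ hd.2.2 c hc.1 hc.2.1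
    · rcases (hB.2 c).mp (Or.inr rfl) with h1 | h1
      · exact hcD ((hE0 c).mp h1)
      · exact hc.2.2 h1
    · refine ⟨⟨fun e => hz.1.1 (MulAction.injective h (e.trans hu.symm)),
        fun e => hz.1.2 (MulAction.injective h (e.trans hv.symm))⟩, fun w => ?_⟩
      obtain ⟨w, rfl⟩ : ∃ y, h • y = w := ⟨h⁻¹ • w, smul_inv_smul _ _⟩
      rw [← hhb.2, hEinv h hu hv, hEinv h hu hv, smul_left_cancel_iff, smul_left_cancel_iff, hb.2,
        hz.2]
  have hodd : Odd (Fintype.card A) := by
    rw [← Nat.card_eq_fintype_card, hA]; exact ⟨(p - 3) / 4, by omega⟩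
  refine Dihedral.false_of_graph (V := V') (H := A) hodd
    (by rw [← Nat.card_eq_fintype_card, hA]; omega) x' (tV x') hbij tV
    (Subtype.ext (htinv _)) (fun h x => Subtype.ext ?_)
    (fun x y => E (x : Ω) (y : Ω)) (fun x y => hsymm _ _) (fun x => hirr _)
    (fun h x y => hEinv _ (hAu _ h.2).1 (hAu _ h.2).2 _ _)
    (fun x y => ⟨fun h => by
      have := htE _ _ h
      simpa [tV, htinv] using this, fun h => htE _ _ h⟩)
    (D.filter fun w => E d w).card (D.filter fun w => E c w).card D.card ?_ ?_ ?_ hmu hlam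
  · show t • (h : X) • (x : Ω) = ((h : X)⁻¹) • t • (x : Ω)
    rw [← htA _ h.2, mul_smul, mul_smul, htinv]
  · show (univ.filter fun w : V' => E x₀ (w : Ω)).card = D.card
    rw [← card_map (f := ⟨Subtype.val, Subtype.val_injective⟩)]
    congr 1
    ext w
    simp only [mem_map, mem_filter, mem_univ, true_and, Function.Embedding.coeFn_mk, hE0]
    refine ⟨?_, fun h1 => ?_⟩
    · rintro ⟨a, ha, rfl⟩; exact ha
    · have h3 := hDW h1
      simp only [hW, mem_filter, mem_univ, true_and] at h3
      exact ⟨⟨w, h3.1, h3.2.1⟩, h1, rfl⟩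
  · intro y hy
    show (univ.filter fun w : V' => E x₀ (w : Ω) ∧ E (y : Ω) (w : Ω)).card = _
    rw [hcnt]
    by_cases hyD : (y : Ω) ∈ D
    · rw [if_pos ((hE0 _).mpr hyD)]
      simp only [hD, orb, mem_filter, mem_univ, true_and] at hyD
      obtain ⟨g, gu, gv, gx, ge⟩ := hyD
      rw [← ge, hinvD g gu gv gx]
    · rw [if_neg (fun h => hyD ((hE0 _).mp h))]
      have := hD' y y.2.1 y.2.2 (fun e => hy (Subtype.ext e.symm)) hyD
      simp only [orb, mem_filter, mem_univ, true_and] at this
      obtain ⟨g, gu, gv, gx, ge⟩ := this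
      rw [← ge, hinvD g gu gv gx]
  · rw [hV'card]; omega

end Cfsg.Agent.OddLocal44
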