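import Cfsg.Agent.Lib.Perm.PrimeDegreeGroups
import Cfsg.Agent.Lib.Perm.PrimeDegreeOrders

/-!
# A point stabilizer containing half of the affine group

A group of degree `p` with no element fixing a point and cycling all others, containing a subgroup
`M` of order `p(p-1)/2`, has that subgroup as the normalizer of a Sylow `p`-subgroup; in suitable
coordinates `M` consists of affine maps.
-/

set_option autoImplicit false
open Cfsg MulAction

namespace Cfsg.Agent.OddLocal44

open Agent.Perm

theorem half_affine_setup {G V : Type*} [Group G] [Finite G] [MulAction G V] [FaithfulSMul G V]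
    [Fintype V] [DecidableEq V] {p : ℕ} [Fact p.Prime] (hp2 : p ≠ 2) (hcard : Fintype.card V = p)
    (M : Subgroup G) (hM : 2 * Nat.card M = p * (p - 1))
    (hno : ∀ (e : ZMod p ≃ V) (g : G) (a : ZMod p), a ≠ 0 → (∀ x, g • e x = e (a * x)) →
      orderOf a ≠ p - 1) :
    ∃ (P : Sylow p G) (e : ZMod p ≃ V), Subgroup.normalizer ((P : Subgroup G) : Set G) = M ∧
      (∀ g ∈ M, ∃ c a : ZMod p, a ≠ 0 ∧ ∀ x, g • e x = e (c + a * x)) ∧
      ∀ c, ∃ g ∈ M, g • e 0 = e c := by
  classical
  have hp : p.Prime := Fact.out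
  have hp2le : 3 ≤ p := by have := hp.two_le; omega
  let π := MulAction.toPermHom G V
  have hπ : Function.Injective π := fun x y h =>
    FaithfulSMul.eq_of_smul_eq_smul (α := V) fun z => Equiv.congr_fun h z
  have hV : Nat.card V = p := Nat.card_eq_fintype_card.trans hcard
  have hpp : ¬ p ^ 2 ∣ Nat.card G := by
    intro h
    have h1 : Nat.card π.range = Nat.card G := (Nat.card_congr (MonoidHom.ofInjective hπ).toEquiv).symm
    exact PrimeDeg.not_sq_dvd_card (G := π.range) hcard (h1 ▸ h)
  obtain ⟨w, hw⟩ : Even (p - 1) := by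
    obtain ⟨k, hk⟩ := hp.odd_of_ne_two hp2
    exact ⟨k, by omega⟩
  have hMc : Nat.card M = p * w := by
    have : 2 * Nat.card M = 2 * (p * w) := by rw [hM, hw]; ring
    omega
  obtain ⟨τ', hτ'⟩ := exists_prime_orderOf_dvd_card' (G := M) p (hMc ▸ dvd_mul_right p w)
  set τ : G := (τ' : G) with hτdef
  have hτo : orderOf τ = p := by rw [hτdef, Subgroup.orderOf_coe, hτ']
  obtain ⟨e, he⟩ := PrimeDeg.exists_coord (p := p) hV (τ := π τ)
    (by rw [orderOf_injective π hπ, hτo])
  have hτe : ∀ i, τ • e i = e (i + 1) := he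
  have hτn : ∀ (n : ℕ) x, τ ^ n • e x = e (x + (n : ZMod p)) := by
    intro n
    induction n with
    | zero => intro x; simp
    | succ n ih => intro x; rw [pow_succ', mul_smul, ih, hτe]; congr 1; push_cast; ring
  -- normalizing elements are affine
  have haff : ∀ g : G, g * τ * g⁻¹ ∈ Subgroup.zpowers τ →
      ∃ c a : ZMod p, a ≠ 0 ∧ ∀ x, g • e x = e (c + a * x) := by
    intro g hg
    obtain ⟨j, hj⟩ := (isOfFinOrder_of_finite τ).mem_powers_iff_mem_zpowers.mpr hg
    have hgj : g * τ = τ ^ j * g := by rw [show τ ^ j = g * τ * g⁻¹ from hj]; group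
    refine ⟨e.symm (g • e 0), (j : ZMod p), ?_, ?_⟩
    · intro h0
      have h1 : g • e (0 + 1) = g • e 0 := by
        rw [← hτe, ← mul_smul, hgj, mul_smul, ← e.apply_symm_apply (g • e 0), hτn, h0, add_zero]
      exact one_ne_zero ((zero_add (1 : ZMod p)).symm.trans
        (e.injective (MulAction.injective g h1)))
    · intro x
      obtain ⟨n, rfl⟩ : ∃ n : ℕ, (n : ZMod p) = x := ⟨x.val, ZMod.natCast_zmod_val x⟩
      induction n with
      | zero => simp
      | succ n ih =>
        rw [show ((n + 1 : ℕ) : ZMod p) = (n : ZMod p) + 1 by push_cast; rfl, ← hτe, ← mul_smul,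
          hgj, mul_smul, ih, hτn]
        congr 1
        ring
  let P : Sylow p G := Sylow.ofCard (Subgroup.zpowers τ) (by
    have h1 : (Nat.card G).factorization p = 1 := by
      refine le_antisymm ?_ ?_
      · by_contra h
        exact hpp ((Nat.Prime.pow_dvd_iff_le_factorization hp Nat.card_pos.ne').mpr (by omega))
      · exact (Nat.Prime.dvd_iff_one_le_factorization hp Nat.card_pos.ne').mp
          (hτo ▸ orderOf_dvd_natCard τ)
    rw [Nat.card_zpowers, hτo, h1, pow_one])
  have hP : (P : Subgroup G) = Subgroup.zpowers τ := rfl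
  set N := Subgroup.normalizer ((P : Subgroup G) : Set G) with hN
  -- the Sylow subgroup of `M` is normal in `M`
  have hMN : M ≤ N := by
    let Q : Sylow p M := Sylow.ofCard (Subgroup.zpowers τ') (by
      have h1 : (Nat.card M).factorization p = 1 := by
        refine le_antisymm ?_ ?_
        · by_contra h
          exact hpp (((Nat.Prime.pow_dvd_iff_le_factorization hp Nat.card_pos.ne').mpr
            (by omega)).trans M.card_subgroup_dvd_card)
        · exact (Nat.Prime.dvd_iff_one_le_factorization hp Nat.card_pos.ne').mp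
            (hMc ▸ dvd_mul_right p w)
      rw [Nat.card_zpowers, hτ', h1, pow_one])
    have hidx : (Q : Subgroup M).index = w := by
      have h1 := (Q : Subgroup M).index_mul_card
      rw [show Nat.card (Q : Subgroup M) = p from (Nat.card_zpowers τ').trans hτ', hMc,
        mul_comm p w] at h1
      exact Nat.eq_of_mul_eq_mul_right hp.pos h1
    have hn1 : Nat.card (Sylow p M) = 1 := by
      have h1 := Sylow.card_dvd_index Q
      rw [hidx] at h1
      have h2 : Nat.card (Sylow p M) % p = 1 :=
        Nat.mod_eq_of_modEq (card_sylow_modEq_one p M) hp.one_lt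
      have h3 := Nat.le_of_dvd (by omega) h1
      rwa [Nat.mod_eq_of_lt (by omega)] at h2
    haveI : Subsingleton (Sylow p M) := (Nat.card_eq_one_iff_unique.mp hn1).1
    have hQn : (Q : Subgroup M).Normal := Sylow.normal_of_subsingleton Q
    intro g hg
    have hconj : g * τ * g⁻¹ ∈ Subgroup.zpowers τ := by
      obtain ⟨k, hk⟩ := Subgroup.mem_zpowers_iff.mp
        (hQn.conj_mem τ' (Subgroup.mem_zpowers τ') ⟨g, hg⟩)
      exact ⟨k, by simpa [hτdef] using congrArg (fun y : M => (y : G)) hk⟩
    show g ∈ Subgroup.normalizer ((Subgroup.zpowers τ : Subgroup G) : Set G)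
    rw [Subgroup.mem_normalizer_iff]
    have hle : (Subgroup.zpowers τ).map (MulAut.conj g).toMonoidHom = Subgroup.zpowers τ := by
      refine Subgroup.eq_of_le_of_card_ge ?_ ?_
      · rw [MonoidHom.map_zpowers, Subgroup.zpowers_le]
        exact hconj
      · rw [Subgroup.card_map_of_injective (MulAut.conj g).injective]
    intro h
    constructor
    · intro hh
      rw [← hle]
      exact ⟨h, hh, rfl⟩
    · intro hh
      rw [← hle] at hh
      obtain ⟨k, hk, hke⟩ := hh
      have : k = h := (MulAut.conj g).injective hke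
      exact this ▸ hk
  have hNaff : ∀ g ∈ N, ∃ c a : ZMod p, a ≠ 0 ∧ ∀ x, g • e x = e (c + a * x) := fun g hg =>
    haff g ((Subgroup.mem_normalizer_iff.mp hg τ).mp (Subgroup.mem_zpowers τ))
  choose cN aN haN hcN using fun g : N => hNaff g.1 g.2
  let f : N → ZMod p × (ZMod p)ˣ := fun g => (cN g, Units.mk0 _ (haN g))
  have hinj : Function.Injective f := by
    intro g k h
    simp only [f, Prod.mk.injEq, Units.ext_iff, Units.val_mk0] at h
    apply Subtype.ext
    apply FaithfulSMul.eq_of_smul_eq_smul (α := V)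
    intro x
    obtain ⟨i, rfl⟩ := e.surjective x
    rw [hcN, hcN, h.1, h.2]
  have hNM : N = M := by
    refine (Subgroup.eq_of_le_of_card_ge hMN ?_).symm
    have hle := Nat.card_le_card_of_injective _ hinj
    rw [Nat.card_prod, Nat.card_zmod, Nat.card_units, Nat.card_zmod] at hle
    rcases lt_or_eq_of_le hle with hlt | heq
    · obtain ⟨k, hk⟩ := Subgroup.card_dvd_of_le hMN
      have hN0 : 0 < Nat.card N := Nat.card_pos
      rw [hk, hMc] at hlt hN0 ⊢
      rw [hw] at hlt
      have hk2 : k < 2 := Nat.lt_of_mul_lt_mul_left (a := p * w) (by linarith)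
      have : k = 1 := by
        rcases Nat.lt_succ_iff.mp hk2 |>.lt_or_eq with h | h
        · rw [Nat.lt_one_iff.mp h, mul_zero] at hN0; exact absurd hN0 (lt_irrefl 0)
        · exact h
      rw [this, mul_one]
    · exfalso
      obtain ⟨-, hsurj⟩ := (Nat.bijective_iff_injective_and_card f).mpr ⟨hinj, by
        rw [heq, Nat.card_prod, Nat.card_zmod, Nat.card_units, Nat.card_zmod]⟩
      obtain ⟨u, hu⟩ := IsCyclic.exists_generator (α := (ZMod p)ˣ)
      obtain ⟨g, hg⟩ := hsurj (0, u)
      simp only [f, Prod.mk.injEq, Units.ext_iff, Units.val_mk0] at hg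
      refine hno e g.1 u u.ne_zero (fun x => ?_) ?_
      · rw [hcN, hg.1, hg.2, zero_add]
      · rw [orderOf_units, orderOf_eq_card_of_forall_mem_zpowers hu, Nat.card_units, Nat.card_zmod]
  refine ⟨P, e, hNM, fun g hg => hNaff g (hNM ▸ hg), fun c => ?_⟩
  refine ⟨τ ^ c.val, pow_mem τ'.2 _, ?_⟩
  rw [hτn, ZMod.natCast_zmod_val, zero_add]

end Cfsg.Agent.OddLocal44
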