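import Cfsg.Agent.OddLocal44.PSLTorus
import Cfsg.Agent.OddLocal44.ProjectiveSetup
import Cfsg.Agent.OddLocal44.ProjectiveGraph
import Cfsg.Agent.Lib.Dickson.Tori

/-!
# Even overgroups of `PSL(2, p)` on `p + 1` points are quadruply transitive
-/

set_option autoImplicit false
open Cfsg MulAction

namespace Cfsg.Agent.OddLocal44

open Agent.Perm

theorem projective_overgroup_four_transitive {X Ω : Type*} [Group X] [Finite X] [MulAction X Ω]
    [FaithfulSMul X Ω] [Fintype Ω] [DecidableEq Ω] {p : ℕ} [Fact p.Prime] (hp7 : 7 < p)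
    (hΩ : Fintype.card Ω = p + 1)
    (heven : ∀ x : X, Equiv.Perm.sign (MulAction.toPerm x : Equiv.Perm Ω) = 1)
    (L : Subgroup X) (φ : ↥L ≃* Matrix.ProjectiveSpecialLinearGroup (Fin 2) (ZMod p))
    (hLt : MulAction.IsMultiplyPretransitive ↥L Ω 2) (hLX : L ≠ ⊤) :
    MulAction.IsMultiplyPretransitive X Ω 4 := by
  classical
  have hp : p.Prime := Fact.out
  have hp2 : p ≠ 2 := by omega
  have hpodd : p % 2 = 1 := Nat.odd_iff.mp (hp.odd_of_ne_two hp2)
  obtain ⟨u⟩ : Nonempty Ω := Fintype.card_pos_iff.mp (by omega)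
  have hL2 : ∀ {a b c d : Ω}, a ≠ b → c ≠ d → ∃ l : L, l • a = c ∧ l • b = d :=
    is_two_pretransitive_iff.mp hLt
  haveI : IsPretransitive ↥L Ω := ⟨fun a b => by
    obtain ⟨a', ha'⟩ := Fintype.exists_ne_of_one_lt_card (α := Ω) (by omega) a
    obtain ⟨b', hb'⟩ := Fintype.exists_ne_of_one_lt_card (α := Ω) (by omega) b
    obtain ⟨l, la, -⟩ := hL2 ha'.symm hb'.symm
    exact ⟨l, la⟩⟩
  haveI : IsPretransitive X Ω := ⟨fun a b => by
    obtain ⟨l, hl⟩ := exists_smul_eq L a b
    exact ⟨l, hl⟩⟩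
  rw [SubMulAction.ofStabilizer.isMultiplyPretransitive (n := 3) (a := u)]
  -- the point stabilizer on the other `p` points
  haveI : Fintype ↥(SubMulAction.ofStabilizer X u) := Fintype.ofFinite _
  haveI : FaithfulSMul ↥(stabilizer X u) ↥(SubMulAction.ofStabilizer X u) := ⟨fun {g k} h =>
    Subtype.ext (FaithfulSMul.eq_of_smul_eq_smul (α := Ω) fun z => by
      by_cases hz : z = u
      · rw [hz, g.2, k.2]
      · exact congrArg Subtype.val (h ⟨z, hz⟩))⟩
  haveI : IsPretransitive ↥(stabilizer X u) ↥(SubMulAction.ofStabilizer X u) := ⟨fun a b => by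
    obtain ⟨l, lu, la⟩ := hL2 (Ne.symm (show (a : Ω) ≠ u from a.2)) (Ne.symm (show (b : Ω) ≠ u from b.2))
    exact ⟨⟨l, lu⟩, Subtype.ext la⟩⟩
  have hVcard : Fintype.card ↥(SubMulAction.ofStabilizer X u) = p := by
    have h := SubMulAction.nat_card_ofStabilizer_eq X u
    rw [Nat.card_eq_fintype_card, Nat.card_eq_fintype_card, hΩ] at h
    omega
  have hV : Nat.card ↥(SubMulAction.ofStabilizer X u) = p := Nat.card_eq_fintype_card.trans hVcard
  let M : Subgroup (stabilizer X u) := L.subgroupOf (stabilizer X u)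
  -- orders
  have hLcard : 2 * Nat.card L = (p + 1) * (p * (p - 1)) := by
    have h := Cfsg.Agent.Dickson.card_psl_eq (F := ZMod p)
    rw [ZMod.card, Nat.gcd_eq_left (by omega)] at h
    rw [Nat.card_congr φ.toEquiv]
    exact h
  let εM : ↥(stabilizer L u) ≃ M :=
    { toFun := fun l => ⟨⟨((l : L) : X), l.2⟩, (l : L).2⟩
      invFun := fun g => ⟨⟨((g : stabilizer X u) : X), g.2⟩, (g : stabilizer X u).2⟩
      left_inv := fun l => rfl
      right_inv := fun g => rfl }
  have hLM : Nat.card L = (p + 1) * Nat.card M := by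
    rw [← Nat.card_congr εM, ← (stabilizer L u).index_mul_card, index_stabilizer_of_transitive,
      Nat.card_eq_fintype_card, hΩ]
  have hM : 2 * Nat.card M = p * (p - 1) := by
    refine Nat.eq_of_mul_eq_mul_left (show 0 < p + 1 by omega) ?_
    rw [← hLcard, hLM]; ring
  -- no element of the stabilizer is a full cycle on the remaining points
  have hno : ∀ (e : ZMod p ≃ ↥(SubMulAction.ofStabilizer X u)) (g : stabilizer X u) (a : ZMod p),
      a ≠ 0 → (∀ x, g • e x = e (a * x)) → orderOf a ≠ p - 1 := by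
    intro e g a ha hg hord
    set μ : Equiv.Perm (ZMod p) := Equiv.mulLeft₀ a ha
    let f : ZMod p ≃ {x : Ω // x ≠ u} := e.trans (Equiv.subtypeEquivRight fun x => Iff.rfl)
    have hext : (MulAction.toPerm (g : X) : Equiv.Perm Ω) = μ.extendDomain f := by
      ext z
      by_cases hz : z = u
      · rw [Equiv.Perm.extendDomain_apply_not_subtype _ _ (by simpa using hz), hz]
        exact g.2
      · obtain ⟨x, hx⟩ := f.surjective ⟨z, hz⟩
        have hzx : z = (f x : Ω) := by rw [hx]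
        rw [hzx, Equiv.Perm.extendDomain_apply_image]
        exact congrArg Subtype.val (hg x)
    have hpow : ∀ n : ℕ, (μ ^ n) 1 = a ^ n := by
      intro n
      induction n with
      | zero => simp
      | succ n ih => rw [pow_succ', Equiv.Perm.mul_apply, ih, pow_succ']; rfl
    have hgen : ∀ y : ZMod p, y ≠ 0 → ∃ n : ℕ, a ^ n = y := by
      intro y hy
      have hu : orderOf (Units.mk0 a ha) = Nat.card (ZMod p)ˣ := by
        rw [← orderOf_units, Units.val_mk0, hord, Nat.card_units, Nat.card_zmod]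
      have htop : Subgroup.zpowers (Units.mk0 a ha) = ⊤ :=
        Subgroup.eq_top_of_card_eq _ (by rw [Nat.card_zpowers, hu])
      obtain ⟨n, hn⟩ := (isOfFinOrder_of_finite (Units.mk0 a ha)).mem_powers_iff_mem_zpowers.mpr
        (htop ▸ Subgroup.mem_top (Units.mk0 y hy))
      exact ⟨n, by simpa using congrArg Units.val hn⟩
    have ha1 : a ≠ 1 := fun h => by rw [h, orderOf_one] at hord; omega
    have hmov : ∀ y, μ y ≠ y ↔ y ≠ 0 := fun y => by
      show a * y ≠ y ↔ y ≠ 0
      constructor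
      · exact fun h h0 => h (by rw [h0, mul_zero])
      · exact fun h0 h => ha1 (mul_right_cancel₀ h0 (by rw [h, one_mul]))
    have hcyc : μ.IsCycle := ⟨1, (hmov 1).mpr one_ne_zero, fun y hy => by
      obtain ⟨n, hn⟩ := hgen y ((hmov y).mp hy)
      exact ⟨n, by rw [zpow_natCast, hpow, hn]⟩⟩
    have hsupp : μ.support = Finset.univ.erase 0 := by
      ext y; simp [Equiv.Perm.mem_support, hmov]
    have h := heven (g : X)
    rw [hext, Equiv.Perm.sign_extendDomain, hcyc.sign, hsupp,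
      Finset.card_erase_of_mem (Finset.mem_univ _), Finset.card_univ, ZMod.card,
      Even.neg_one_pow ⟨(p - 1) / 2, by omega⟩] at h
    exact absurd h (by decide)
  obtain ⟨P, e, hNM, haff, htr⟩ := half_affine_setup hp2 hVcard M hM hno
  have hN : 2 * Nat.card ↥(Subgroup.normalizer ((P : Subgroup ↥(stabilizer X u)) : Set ↥(stabilizer X u))) =
      p * (p - 1) := by rw [hNM, hM]
  let π := MulAction.toPermHom (stabilizer X u) ↥(SubMulAction.ofStabilizer X u)
  have hπ : Function.Injective π := fun x y h =>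
    FaithfulSMul.eq_of_smul_eq_smul (α := ↥(SubMulAction.ofStabilizer X u)) fun z =>
      Equiv.congr_fun h z
  haveI : IsPretransitive π.range ↥(SubMulAction.ofStabilizer X u) := ⟨fun a b => by
    obtain ⟨g, hg⟩ := exists_smul_eq (stabilizer X u) a b
    exact ⟨⟨π g, g, rfl⟩, hg⟩⟩
  let P' : Sylow p π.range := P.mapSurjective π.rangeRestrict_surjective
  have hins : ¬ Group.IsSolvable (stabilizer X u) := by
    intro hsol
    have h1 : Group.IsSolvable π.range :=
      solvable_of_surjective π.rangeRestrict_surjective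
    have h2 := PrimeDeg.normal_sylow_of_isSolvable hVcard h1 P'
    have h3 : ((P' : Subgroup π.range).comap π.rangeRestrict) = (P : Subgroup (stabilizer X u)) := by
      rw [Sylow.coe_mapSurjective, Subgroup.comap_map_eq_self_of_injective]
      exact fun x y h => hπ (congrArg Subtype.val h)
    have h4 : (P : Subgroup (stabilizer X u)).Normal := h3 ▸ h2.comap _
    have h5 : M = ⊤ := by
      rw [← hNM]
      exact Subgroup.normalizer_eq_top_iff.mpr h4
    apply hLX
    rw [eq_top_iff]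
    intro x _
    obtain ⟨l, hl⟩ := exists_smul_eq L u (x • u)
    have h6 : (l : X)⁻¹ * x ∈ stabilizer X u := by
      rw [mem_stabilizer_iff, mul_smul, inv_smul_eq_iff]
      exact hl.symm
    have h7 : (⟨_, h6⟩ : stabilizer X u) ∈ M := h5 ▸ Subgroup.mem_top _
    simpa using L.mul_mem l.2 (Subgroup.mem_subgroupOf.mp h7)
  rcases (show p % 4 = 1 ∨ p % 4 = 3 by omega) with hp1 | hp3
  · -- an involution of the normalizer inverts the Sylow subgroup
    have heven' : Even (Nat.card (Subgroup.normalizer ((P' : Subgroup π.range) : Set π.range))) := by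
      refine even_iff_two_dvd.mpr ?_
      have h1 : 2 ∣ Nat.card M := by
        obtain ⟨k, hk⟩ : ∃ k, p - 1 = 2 * (2 * k) := ⟨(p - 1) / 4, by omega⟩
        refine ⟨p * k, ?_⟩
        have : 2 * Nat.card M = 2 * (2 * (p * k)) := by rw [hM, hk]; ring
        omega
      rw [← hNM] at h1
      refine h1.trans ?_
      rw [← Subgroup.card_map_of_injective (f := π.rangeRestrict)
        (fun x y h => hπ (congrArg Subtype.val h))]
      refine Subgroup.card_dvd_of_le ?_
      rw [Sylow.coe_mapSurjective]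
      exact Subgroup.le_normalizer_map _
    have hnsH : ¬ Group.IsSolvable π.range := fun h =>
      hins (solvable_of_solvable_injective (f := π.rangeRestrict)
        (fun x y h => hπ (congrArg Subtype.val h)))
    have h3 := PrimeDeg.three_transitive hVcard hnsH P' heven'
    rw [isMultiplyPretransitive_iff]
    intro a b
    obtain ⟨⟨-, g, rfl⟩, hg⟩ := isMultiplyPretransitive_iff.mp h3 a b
    exact ⟨g, hg⟩
  -- `p ≡ 3 (mod 4)`
  obtain ⟨-, h2, eh, -, hthree⟩ := half_normalizer_setup hVcard hins P hN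
  have h2t : ∀ {a b c d : ↥(SubMulAction.ofStabilizer X u)}, a ≠ b → c ≠ d →
      ∃ g : stabilizer X u, g • a = c ∧ g • b = d := is_two_pretransitive_iff.mp h2
  have h3t : ∀ a b c a' b' c' : Ω, a ≠ b → a ≠ c → b ≠ c → a' ≠ b' → a' ≠ c' → b' ≠ c' →
      ∃ g : X, g • a = a' ∧ g • b = b' ∧ g • c = c' := by
    intro a b c a' b' c' hab hac hbc hab' hac' hbc'
    obtain ⟨k, hk⟩ := exists_smul_eq X a u
    obtain ⟨k', hk'⟩ := exists_smul_eq X a' u
    have hne : ∀ {k : X} {a b : Ω}, k • a = u → a ≠ b → k • b ≠ u := fun hk h e =>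
      h (MulAction.injective _ (hk.trans e.symm))
    obtain ⟨g, g1, g2⟩ := h2t (a := ⟨k • b, hne hk hab⟩) (b := ⟨k • c, hne hk hac⟩)
      (c := ⟨k' • b', hne hk' hab'⟩) (d := ⟨k' • c', hne hk' hac'⟩)
      (fun e => hbc (MulAction.injective k (congrArg Subtype.val e)))
      (fun e => hbc' (MulAction.injective k' (congrArg Subtype.val e)))
    refine ⟨k'⁻¹ * (g : X) * k, ?_, ?_, ?_⟩ <;> rw [mul_smul, mul_smul, inv_smul_eq_iff]
    · rw [hk, hk']; exact g.2
    · exact congrArg Subtype.val g1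
    · exact congrArg Subtype.val g2
  haveI := h2
  refine three_transitive_of_stabilizer fun v x₀ c d hvx hcv hcx hdv hdx => ?_
  by_contra hno'
  push Not at hno'
  have huv : u ≠ (v : Ω) := fun h => v.2 h.symm
  have hux : u ≠ (x₀ : Ω) := fun h => x₀.2 h.symm
  -- the torus
  let A : Subgroup X := L ⊓ stabilizer X u ⊓ stabilizer X (v : Ω)
  have hAu : ∀ h ∈ A, h • u = u ∧ h • (v : Ω) = (v : Ω) := fun h hh => ⟨hh.1.2, hh.2⟩
  let εA : ↥(stabilizer M v) ≃ A :=
    { toFun := fun g => ⟨(((g : M) : stabilizer X u) : X),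
        ⟨(g : M).2, ((g : M) : stabilizer X u).2⟩, congrArg Subtype.val g.2⟩
      invFun := fun h => ⟨⟨⟨h.1, h.2.1.2⟩, h.2.1.1⟩, Subtype.ext h.2.2⟩
      left_inv := fun g => rfl
      right_inv := fun h => rfl }
  haveI : IsPretransitive M ↥(SubMulAction.ofStabilizer X u) := ⟨fun a b => by
    obtain ⟨i, rfl⟩ := e.surjective a
    obtain ⟨j, rfl⟩ := e.surjective b
    obtain ⟨g, hg, hgi⟩ := htr i
    obtain ⟨k, hk, hkj⟩ := htr j
    refine ⟨⟨k * g⁻¹, M.mul_mem hk (M.inv_mem hg)⟩, ?_⟩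
    show (k * g⁻¹) • e i = e j
    rw [mul_smul, ← hgi, inv_smul_smul, hkj]⟩
  have hAcard : Nat.card A = (p - 1) / 2 := by
    have h1 := (stabilizer M v).index_mul_card
    rw [index_stabilizer_of_transitive, hV, Nat.card_congr εA] at h1
    have h3 : p * (2 * Nat.card A) = p * (p - 1) := by rw [← hM, ← h1]; ring
    have := Nat.eq_of_mul_eq_mul_left hp.pos h3
    omega
  obtain ⟨c₀, hc₀⟩ := e.surjective v
  let m : A → ZMod p := fun h => e.symm ((⟨h.1, h.2.1.2⟩ : stabilizer X u) • e (c₀ + 1)) - c₀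
  have hm : ∀ (h : A) y,
      (⟨h.1, h.2.1.2⟩ : stabilizer X u) • e (c₀ + y) = e (c₀ + m h * y) := by
    intro h y
    obtain ⟨c', a', -, hca⟩ := haff ⟨h.1, h.2.1.2⟩ h.2.1.1
    have hfix : c' + a' * c₀ = c₀ := e.injective (by
      rw [← hca, hc₀]; exact Subtype.ext h.2.2)
    have hm' : m h = a' := by
      show e.symm _ - c₀ = a'
      rw [hca, e.symm_apply_apply]
      linear_combination hfix
    rw [hca, hm']
    congr 1
    linear_combination hfix
  have hmm : ∀ g h : A, m (g * h) = m g * m h := by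
    intro g h
    have h1 := hm (g * h) 1
    have h2' : (⟨(g * h : A).1, (g * h).2.1.2⟩ : stabilizer X u) • e (c₀ + 1) =
        e (c₀ + m g * m h) := by
      rw [show (⟨(g * h : A).1, (g * h).2.1.2⟩ : stabilizer X u) =
        (⟨g.1, g.2.1.2⟩ : stabilizer X u) * ⟨h.1, h.2.1.2⟩ from rfl, mul_smul, hm, mul_one, hm]
    rw [h2', mul_one] at h1
    exact (add_left_cancel (e.injective h1)).symm
  have hm1 : m 1 = 1 := by
    show e.symm ((1 : stabilizer X u) • e (c₀ + 1)) - c₀ = 1
    rw [one_smul, e.symm_apply_apply, add_sub_cancel_left]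
  have hmfree : ∀ h : A, m h = 1 → h = 1 := by
    intro h hh
    have h1 : (⟨h.1, h.2.1.2⟩ : stabilizer X u) = 1 :=
      FaithfulSMul.eq_of_smul_eq_smul (α := ↥(SubMulAction.ofStabilizer X u)) fun z => by
        obtain ⟨i, rfl⟩ := e.surjective z
        rw [show i = c₀ + (i - c₀) by ring, hm, hh, one_mul, one_smul]
    exact Subtype.ext (congrArg (fun g : stabilizer X u => (g : X)) h1)
  let mh : A →* ZMod p := { toFun := m, map_one' := hm1, map_mul' := hmm }
  haveI : IsCyclic A := isCyclic_of_injective mh.toHomUnits fun g h hgh => by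
    have h1 : m g = m h := congrArg Units.val hgh
    rw [← inv_mul_eq_one]
    refine hmfree _ ?_
    rw [hmm, ← h1, ← hmm, inv_mul_cancel, hm1]
  have hAfree : ∀ h ∈ A, ∀ x : Ω, x ≠ u → x ≠ (v : Ω) → h • x = x → h = 1 := by
    intro h hh x hxu hxv hfix
    obtain ⟨i, hi⟩ := e.surjective ⟨x, hxu⟩
    have hy : i - c₀ ≠ 0 := fun h0 => hxv (by
      have : (⟨x, hxu⟩ : ↥(SubMulAction.ofStabilizer X u)) = v := by
        rw [← hi, ← hc₀, sub_eq_zero.mp h0]
      exact congrArg Subtype.val this)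
    have h1 := hm ⟨h, hh⟩ (i - c₀)
    rw [add_sub_cancel, hi, show (⟨h, hh.1.2⟩ : stabilizer X u) •
      (⟨x, hxu⟩ : ↥(SubMulAction.ofStabilizer X u)) = ⟨x, hxu⟩ from Subtype.ext hfix, ← hi] at h1
    have h2' : (m ⟨h, hh⟩ - 1) * (i - c₀) = 0 := by linear_combination -(e.injective h1)
    exact congrArg Subtype.val
      (hmfree ⟨h, hh⟩ (sub_eq_zero.mp ((mul_eq_zero.mp h2').resolve_right hy)))
  have hApow : ∀ h ∈ A, h ^ ((p - 1) / 2) = 1 := fun h hh => by
    have := congrArg Subtype.val (pow_card_eq_one' (G := A) (x := ⟨h, hh⟩))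
    rwa [hAcard] at this
  -- involutions of `L` fix no point
  have hinv : ∀ l ∈ L, l * l = 1 → ∀ y : Ω, l • y = y → l = 1 := by
    intro l hl hll y hy
    have h1 : Nat.card (stabilizer L y) = Nat.card M := by
      have h2' := (stabilizer L y).index_mul_card
      rw [index_stabilizer_of_transitive, Nat.card_eq_fintype_card, hΩ, hLM] at h2'
      exact Nat.eq_of_mul_eq_mul_left (by omega) h2'
    have h3 : orderOf l ∣ Nat.card M := by
      have h4 : (⟨⟨l, hl⟩, hy⟩ : stabilizer L y) ^ Nat.card M = 1 := h1 ▸ pow_card_eq_one'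
      exact orderOf_dvd_of_pow_eq_one
        (congrArg (fun g : stabilizer L y => ((g : L) : X)) h4)
    have h5 : orderOf l ∣ 2 := orderOf_dvd_of_pow_eq_one (by rw [pow_two, hll])
    rcases (Nat.dvd_prime Nat.prime_two).mp h5 with h | h
    · exact orderOf_eq_one_iff.mp h
    · exfalso
      rw [h] at h3
      obtain ⟨k, hk⟩ := h3
      obtain ⟨j, hj⟩ : ∃ j, p * (p - 1) = 2 * (2 * j + 1) := by
        obtain ⟨a, ha⟩ : ∃ a, p = 4 * a + 3 := ⟨p / 4, by omega⟩
        refine ⟨(4 * a + 3) * a + 2 * a + 1, ?_⟩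
        rw [show p - 1 = 4 * a + 2 by omega, ha]
        ring
      omega
  -- the involution exchanging `u` and `v`
  obtain ⟨s, su, sv⟩ := hL2 huv huv.symm
  obtain ⟨k, hk⟩ : ∃ k, (p - 1) / 2 = 2 * k + 1 := ⟨(p - 3) / 4, by omega⟩
  have hsu : (s : X) • u = (v : Ω) := su
  have hsv : (s : X) • (v : Ω) = u := sv
  have hs2 : (s : X) ^ 2 ∈ A := by
    refine ⟨⟨pow_mem s.2 2, ?_⟩, ?_⟩
    · show (s : X) ^ 2 • u = u
      rw [pow_two, mul_smul, hsu, hsv]
    · show (s : X) ^ 2 • (v : Ω) = (v : Ω)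
      rw [pow_two, mul_smul, hsv, hsu]
  set t : X := (s : X) ^ ((p - 1) / 2) with ht
  have htk : t = (s : X) * ((s : X) ^ 2) ^ k := by rw [ht, hk, pow_succ', pow_mul]
  have htu : t • u = (v : Ω) := by
    rw [htk, mul_smul, (hAu _ (A.pow_mem hs2 k)).1, hsu]
  have htv : t • (v : Ω) = u := by
    rw [htk, mul_smul, (hAu _ (A.pow_mem hs2 k)).2, hsv]
  have htt : t * t = 1 := by
    rw [ht, ← pow_add, ← two_mul, pow_mul]
    exact hApow _ hs2
  have htL : t ∈ L := pow_mem s.2 _
  have hconj : ∀ h ∈ A, t * h * t ∈ A := by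
    intro h hh
    refine ⟨⟨L.mul_mem (L.mul_mem htL hh.1.1) htL, ?_⟩, ?_⟩
    · show (t * h * t) • u = u
      rw [mul_smul, mul_smul, htu, (hAu h hh).2, htv]
    · show (t * h * t) • (v : Ω) = (v : Ω)
      rw [mul_smul, mul_smul, htv, (hAu h hh).1, htu]
  have htA : ∀ h ∈ A, t * h * t = h⁻¹ := by
    intro h hh
    letI : CommGroup A := IsCyclic.commGroup
    have hcomm : h * (t * h * t) = t * h * t * h :=
      congrArg Subtype.val (mul_comm (⟨h, hh⟩ : A) ⟨_, hconj h hh⟩)
    have hz : h * (t * h * t) ∈ A := A.mul_mem hh (hconj h hh)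
    have htz : t * (h * (t * h * t)) = h * (t * h * t) * t := by
      calc t * (h * (t * h * t)) = t * h * t * h * t := by group
        _ = h * (t * h * t) * t := by rw [hcomm]
    have hφ := psl_two_commute_involution hp3 (φ ⟨t, htL⟩) (φ ⟨_, hz.1.1⟩)
      (by rw [← map_mul, show (⟨t, htL⟩ * ⟨t, htL⟩ : L) = 1 from Subtype.ext htt, map_one])
      (fun h1 => huv (by
        have : t = 1 := congrArg Subtype.val ((map_eq_one_iff φ φ.injective).mp h1)
        rw [← htu, this, one_smul]))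
      (by rw [← map_pow, show (⟨_, hz.1.1⟩ : L) ^ ((p - 1) / 2) = 1 from
        Subtype.ext (hApow _ hz), map_one])
      (by rw [← map_mul, ← map_mul]; exact congrArg φ (Subtype.ext htz))
    have : h * (t * h * t) = 1 := congrArg Subtype.val ((map_eq_one_iff φ φ.injective).mp hφ)
    exact eq_inv_of_mul_eq_one_right this
  have htfree : ∀ h ∈ A, t • (x₀ : Ω) ≠ h • (x₀ : Ω) := by
    intro h hh heq
    have hfix : (h⁻¹ * t) • (x₀ : Ω) = (x₀ : Ω) := by rw [mul_smul, heq, inv_smul_smul]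
    have hsq : h⁻¹ * t * (h⁻¹ * t) = 1 := by
      calc h⁻¹ * t * (h⁻¹ * t) = h⁻¹ * (t * h⁻¹ * t) := by group
        _ = 1 := by rw [htA _ (A.inv_mem hh), inv_inv, inv_mul_cancel]
    have h1 := hinv _ (L.mul_mem (L.inv_mem hh.1.1) htL) hsq _ hfix
    rw [inv_mul_eq_one] at h1
    exact huv (by rw [← htu, ← h1, (hAu h hh).1])
  refine false_of_not_four_transitive (X := X) (p := p) hp3 (by omega) hΩ h3t huv hux
    (fun h => hvx (Subtype.ext h)) ?_ ?_ A hAcard hAu hAfree t htu htv htt htA htfree ?_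
  · intro c hc hd
    refine hthree hvx (fun i => ⟨c i, (hc i).1⟩) (fun i e => (hc i).2.1 (congrArg Subtype.val e))
      (fun i e => (hc i).2.2 (congrArg Subtype.val e)) fun i j hij g ga gb ge => ?_
    exact hd i j hij g g.2 (congrArg Subtype.val ga) (congrArg Subtype.val gb)
      (congrArg Subtype.val ge)
  · intro B hB hinvB b hb b' hb' hbb' z hzu hzv
    by_contra hzB
    refine HalfPrimitive.false_of_block hVcard hins P hN hp7 (α := v)
      (B := {y | (y : Ω) ∈ B}) ?_ (fun h => (hB _ h).2 rfl)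
      (β := ⟨b, (hB b hb).1⟩) (y₀ := ⟨b', (hB b' hb').1⟩) (out := ⟨z, hzu⟩) hb hb'
      (fun e => hbb' (congrArg Subtype.val e)) hzB (fun e => hzv (congrArg Subtype.val e))
    intro h hh y hy hhy w hw
    exact hinvB (h : X) h.2 (congrArg Subtype.val hh) y hy hhy w hw
  · intro hall
    obtain ⟨g, gu, gv, gx, gc⟩ := hall (c : Ω) (d : Ω)
      ⟨c.2, fun e => hcv (Subtype.ext e), fun e => hcx (Subtype.ext e)⟩
      ⟨d.2, fun e => hdv (Subtype.ext e), fun e => hdx (Subtype.ext e)⟩
    exact hno' ⟨g, gu⟩ (Subtype.ext gv) (Subtype.ext gx) (Subtype.ext gc)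

end Cfsg.Agent.OddLocal44
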