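import Mathlib

/-!
# Primitive groups on `q + 1` points, `q` an odd prime, do not have rank three

With suborbits of lengths `k` and `q - k` one has `k (k - λ - 1) = μ (q - k)`, so the prime `q`
divides `k - λ - 1 + μ`, a positive number below `2 q`; hence `μ = k`, and two points have the same
neighbours.
-/

set_option autoImplicit false

open MulAction Finset
open scoped Pointwise

namespace Cfsg.Agent.OddLocal44

theorem transitive_stabilizer_of_prime_succ {K V : Type*} [Group K] [MulAction K V] [Fintype V]
    [DecidableEq V] [IsPreprimitive K V] {q : ℕ} (hq : q.Prime) (hq2 : q ≠ 2)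
    (hV : Fintype.card V = q + 1) (x₀ : V)
    (htwo : ∀ c : Fin 3 → V, (∀ i, c i ≠ x₀) →
      (∀ i j, i ≠ j → ∀ g : K, g • x₀ = x₀ → g • c i ≠ c j) → False)
    {c d : V} (hc : c ≠ x₀) (hd : d ≠ x₀) : ∃ g : K, g • x₀ = x₀ ∧ g • c = d := by
  classical
  by_contra hcd
  push Not at hcd
  let orb : V → Finset V := fun w => univ.filter fun z => ∃ g : K, g • x₀ = x₀ ∧ g • w = z
  have hself : ∀ w, w ∈ orb w := fun w => by simpa [orb] using ⟨1, one_smul _ _, one_smul _ _⟩
  have hne : ∀ w, w ≠ x₀ → ∀ z ∈ orb w, z ≠ x₀ := by
    intro w hw z hz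
    simp only [orb, mem_filter, mem_univ, true_and] at hz
    obtain ⟨g, gx, rfl⟩ := hz
    exact fun h => hw (MulAction.injective g (h.trans gx.symm))
  have hclosed : ∀ g : K, g • x₀ = x₀ → ∀ w, ∀ z ∈ orb w, g • z ∈ orb w := by
    intro g gx w z hz
    simp only [orb, mem_filter, mem_univ, true_and] at hz ⊢
    obtain ⟨k, kx, rfl⟩ := hz
    exact ⟨g * k, by rw [mul_smul, kx, gx], mul_smul _ _ _⟩
  have hback : ∀ w z, z ∈ orb w → w ∈ orb z := by
    intro w z hz
    simp only [orb, mem_filter, mem_univ, true_and] at hz ⊢
    obtain ⟨k, kx, rfl⟩ := hz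
    exact ⟨k⁻¹, by rw [inv_smul_eq_iff, kx], inv_smul_smul _ _⟩
  have hsub : ∀ w z, z ∈ orb w → orb z ⊆ orb w := by
    intro w z hz y hy
    simp only [orb, mem_filter, mem_univ, true_and] at hy
    obtain ⟨g, gx, rfl⟩ := hy
    exact hclosed g gx w z hz
  have hcover : ∀ z, z ≠ x₀ → z ∈ orb c ∨ z ∈ orb d := by
    intro z hz
    by_contra hno
    rw [not_or] at hno
    simp only [orb, mem_filter, mem_univ, true_and] at hno
    push Not at hno
    have hrev : ∀ x y : V, (∀ g : K, g • x₀ = x₀ → g • x ≠ y) →
        ∀ g : K, g • x₀ = x₀ → g • y ≠ x := fun x y h g gx e =>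
      h g⁻¹ (by rw [inv_smul_eq_iff, gx]) (by rw [inv_smul_eq_iff, e])
    refine htwo ![c, d, z] (fun i => by fin_cases i <;> assumption) fun i j hij g gx => ?_
    fin_cases i <;> fin_cases j <;> simp at hij ⊢
    · exact hcd g gx
    · exact hno.1 g gx
    · exact hrev c d hcd g gx
    · exact hno.2 g gx
    · exact hrev c z hno.1 g gx
    · exact hrev d z hno.2 g gx
  set C := orb c with hC
  set D := orb d with hD
  have hdisj : Disjoint C D := by
    rw [Finset.disjoint_left]
    intro z hzc hzd
    have h1 := hsub c z hzc (hback d z hzd)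
    simp only [orb, mem_filter, mem_univ, true_and] at h1
    obtain ⟨g, gx, ge⟩ := h1
    exact hcd g gx ge
  have hunion : C ∪ D = univ.erase x₀ := by
    ext z
    simp only [mem_union, mem_erase, mem_univ, and_true]
    exact ⟨fun h => h.elim (hne c hc z) (hne d hd z), hcover z⟩
  have hsum : C.card + D.card = q := by
    rw [← card_union_of_disjoint hdisj, hunion, card_erase_of_mem (mem_univ _), card_univ, hV]
    omega
  have hC0 : 0 < C.card := card_pos.mpr ⟨c, hself c⟩
  have hD0 : 0 < D.card := card_pos.mpr ⟨d, hself d⟩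
  have hqodd : q % 2 = 1 := Nat.odd_iff.mp (hq.odd_of_ne_two hq2)
  have hDuniq : ∀ S : Finset V, x₀ ∉ S → S.card = D.card →
      (∀ g : K, g • x₀ = x₀ → ∀ z ∈ S, g • z ∈ S) → S = D := by
    intro S hS0 hS hSinv
    have hin : ∀ w, ∀ z ∈ S, z ∈ orb w → orb w ⊆ S := by
      intro w z hz hzw y hy
      have h1 := hsub z w (hback w z hzw) hy
      simp only [orb, mem_filter, mem_univ, true_and] at h1
      obtain ⟨g, gx, rfl⟩ := h1
      exact hSinv g gx z hz
    by_cases hcS : ∃ z ∈ S, z ∈ C
    · obtain ⟨z, hz, hzc⟩ := hcS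
      by_cases hdS : ∃ y ∈ S, y ∈ D
      · obtain ⟨y, hy, hyd⟩ := hdS
        have h1 := card_le_card (union_subset (hin c z hz hzc) (hin d y hy hyd))
        rw [card_union_of_disjoint hdisj] at h1
        omega
      · have hsub' : S ⊆ C := fun y hy => (hcover y (fun e => hS0 (e ▸ hy))).resolve_right
          fun h => hdS ⟨y, hy, h⟩
        have h1 := le_antisymm (card_le_card hsub') (card_le_card (hin c z hz hzc))
        omega
    · exact eq_of_subset_of_card_le (fun y hy => (hcover y (fun e => hS0 (e ▸ hy))).resolve_left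
        fun h => hcS ⟨y, hy, h⟩) hS.ge
  -- the graph
  let E : V → V → Prop := fun x y => ∃ g : K, g • x₀ = x ∧ g⁻¹ • y ∈ D
  have hEinv : ∀ (h : K) (x y : V), E (h • x) (h • y) ↔ E x y := by
    intro h x y
    constructor
    · rintro ⟨g, gx, gy⟩
      exact ⟨h⁻¹ * g, by rw [mul_smul, gx, inv_smul_smul],
        by rwa [mul_inv_rev, inv_inv, mul_smul]⟩
    · rintro ⟨g, gx, gy⟩
      exact ⟨h * g, by rw [mul_smul, gx], by rwa [mul_inv_rev, mul_smul, inv_smul_smul]⟩
  have hE0 : ∀ y, E x₀ y ↔ y ∈ D := by
    intro y
    constructor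
    · rintro ⟨g, gx, gy⟩
      have := hclosed g gx d _ gy
      rwa [smul_inv_smul] at this
    · exact fun h => ⟨1, one_smul _ _, by simpa using h⟩
  have hirr : ∀ x, ¬ E x x := by
    rintro x ⟨g, gx, gy⟩
    rw [← gx, inv_smul_smul] at gy
    exact hne d hd x₀ gy rfl
  have hnb : ∀ g : K, univ.filter (E (g • x₀)) = D.image (g • ·) := by
    intro g
    ext y
    simp only [mem_filter, mem_univ, true_and, mem_image]
    constructor
    · intro h
      refine ⟨g⁻¹ • y, ?_, smul_inv_smul _ _⟩
      rw [← hE0, ← hEinv g, smul_inv_smul]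
      exact h
    · rintro ⟨z, hz, rfl⟩
      rw [hEinv, hE0]
      exact hz
  have hout : ∀ x, (univ.filter (E x)).card = D.card := by
    intro x
    obtain ⟨g, rfl⟩ := exists_smul_eq K x₀ x
    rw [hnb, card_image_of_injective _ (MulAction.injective g)]
  have hin' : ∀ y, (univ.filter fun x => E x y).card = (univ.filter fun x => E x x₀).card := by
    intro y
    obtain ⟨g, rfl⟩ := exists_smul_eq K x₀ y
    rw [← card_image_of_injective (univ.filter fun x => E x x₀) (MulAction.injective g)]
    congr 1
    ext x
    simp only [mem_filter, mem_univ, true_and, mem_image]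
    constructor
    · intro h
      exact ⟨g⁻¹ • x, by rwa [← hEinv g, smul_inv_smul], smul_inv_smul _ _⟩
    · rintro ⟨z, hz, rfl⟩
      exact (hEinv _ _ _).mpr hz
  have hset : univ.filter (fun x => E x x₀) = D := by
    refine hDuniq _ (by simpa using hirr x₀) ?_ fun g gx z hz => ?_
    · have h1 := Finset.sum_card_bipartiteAbove_eq_sum_card_bipartiteBelow E
        (s := (univ : Finset V)) (t := (univ : Finset V))
      simp only [bipartiteAbove, bipartiteBelow] at h1
      rw [sum_congr rfl (fun x _ => hout x), sum_congr rfl (fun x _ => hin' x), sum_const,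
        sum_const, smul_eq_mul, smul_eq_mul, card_univ, hV] at h1
      exact (Nat.eq_of_mul_eq_mul_left (by omega) h1).symm
    · simp only [mem_filter, mem_univ, true_and] at hz ⊢
      rw [← gx]
      exact (hEinv _ _ _).mpr hz
  have hsymm : ∀ x y, E x y → E y x := by
    intro x y hxy
    obtain ⟨g, rfl⟩ := exists_smul_eq K x₀ x
    have h1 : g⁻¹ • y ∈ D := by rwa [← hE0, ← hEinv g, smul_inv_smul]
    rw [← hset, mem_filter] at h1
    have h2 := (hEinv g _ _).mpr h1.2
    rwa [smul_inv_smul] at h2
  have hconst : ∀ g : K, g • x₀ = x₀ → ∀ z,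
      (D.filter fun w => E (g • z) w).card = (D.filter fun w => E z w).card := by
    intro g gx z
    rw [← card_image_of_injective (D.filter fun w => E z w) (MulAction.injective g)]
    congr 1
    ext w
    simp only [mem_filter, mem_image]
    constructor
    · rintro ⟨hw, he⟩
      refine ⟨g⁻¹ • w, ⟨hclosed g⁻¹ (by rw [inv_smul_eq_iff, gx]) d w hw, ?_⟩, smul_inv_smul _ _⟩
      rw [← hEinv g, smul_inv_smul]; exact he
    · rintro ⟨y, ⟨hy, he⟩, rfl⟩
      exact ⟨hclosed g gx d y hy, (hEinv g _ _).mpr he⟩
  set lam := (D.filter fun w => E d w).card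
  set mu := (D.filter fun w => E c w).card
  have hlam : ∀ y ∈ D, (D.filter fun w => E y w).card = lam := by
    intro y hy
    simp only [hD, orb, mem_filter, mem_univ, true_and] at hy
    obtain ⟨g, gx, rfl⟩ := hy
    exact hconst g gx d
  have hmu : ∀ z ∈ C, (D.filter fun w => E z w).card = mu := by
    intro z hz
    simp only [hC, orb, mem_filter, mem_univ, true_and] at hz
    obtain ⟨g, gx, rfl⟩ := hz
    exact hconst g gx c
  have hrow : ∀ y ∈ D, (C.filter fun z => E y z).card + lam + 1 = D.card := by
    intro y hy
    rw [← hout y, ← hlam y hy]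
    have hsplit : univ.filter (E y) = insert x₀ (C.filter (fun z => E y z) ∪ D.filter (fun z => E y z)) := by
      ext z
      simp only [mem_filter, mem_univ, true_and, mem_insert, mem_union]
      constructor
      · intro hz
        by_cases hzx : z = x₀
        · exact Or.inl hzx
        · exact Or.inr ((hcover z hzx).imp (fun h => ⟨h, hz⟩) (fun h => ⟨h, hz⟩))
      · rintro (rfl | h | h)
        · exact hsymm _ _ ((hE0 y).mpr hy)
        · exact h.2
        · exact h.2
    rw [hsplit, card_insert_of_notMem, card_union_of_disjoint]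
    · exact disjoint_filter_filter hdisj
    · simp only [mem_union, mem_filter, not_or, not_and]
      exact ⟨fun h => absurd rfl (hne c hc x₀ h), fun h => absurd rfl (hne d hd x₀ h)⟩
  have hmul : D.card * (D.card - lam - 1) = C.card * mu := by
    have h1 := Finset.sum_card_bipartiteAbove_eq_sum_card_bipartiteBelow E (s := D) (t := C)
    simp only [bipartiteAbove, bipartiteBelow] at h1
    rw [sum_congr rfl (fun y hy => show (C.filter fun z => E y z).card = D.card - lam - 1 by
        have := hrow y hy; omega),
      sum_congr rfl (fun z hz => show (D.filter fun y => E y z).card = mu by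
        rw [← hmu z hz]; congr 1; ext w; simp only [mem_filter, and_congr_right_iff]
        exact fun _ => ⟨hsymm _ _, hsymm _ _⟩),
      sum_const, sum_const, smul_eq_mul, smul_eq_mul] at h1
    exact h1
  -- twins would give blocks
  have hmu_lt : mu < D.card := by
    refine lt_of_le_of_ne (card_filter_le _ _) fun heq => ?_
    have hall := filter_eq_self.mp (eq_of_subset_of_card_le (filter_subset _ _) heq.ge)
    have hEc : univ.filter (E c) = univ.filter (E x₀) := by
      refine (eq_of_subset_of_card_le (fun w hw => ?_) (by rw [hout, hout])).symm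
      simp only [mem_filter, mem_univ, true_and, hE0] at hw ⊢
      exact hall w hw
    let B : Set V := {y | univ.filter (E y) = univ.filter (E x₀)}
    have hmap : ∀ (g : K) (y : V), univ.filter (E (g • y)) = (univ.filter (E y)).image (g • ·) := by
      intro g y
      ext w
      simp only [mem_filter, mem_univ, true_and, mem_image]
      constructor
      · intro h
        exact ⟨g⁻¹ • w, by rwa [← hEinv g, smul_inv_smul], smul_inv_smul _ _⟩
      · rintro ⟨z, hz, rfl⟩
        exact (hEinv _ _ _).mpr hz
    have hB : IsBlock K B := by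
      rw [isBlock_iff_smul_eq_of_nonempty]
      rintro g ⟨y, hy1, hy2⟩
      obtain ⟨z, hz, rfl⟩ := Set.mem_smul_set.mp hy1
      change univ.filter (E (g • z)) = _ at hy2
      change univ.filter (E z) = _ at hz
      rw [hmap, hz] at hy2
      ext w
      rw [Set.mem_smul_set_iff_inv_smul_mem]
      change univ.filter (E (g⁻¹ • w)) = _ ↔ univ.filter (E w) = _
      constructor
      · intro h
        rw [← smul_inv_smul g w, hmap, h, hy2]
      · intro h
        apply Finset.image_injective (MulAction.injective g)
        rw [← hmap, smul_inv_smul, h, hy2]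
    rcases IsPreprimitive.isTrivialBlock_of_isBlock hB with h | h
    · exact hc (h (x := c) hEc (y := x₀) rfl)
    · have hd' : univ.filter (E d) = univ.filter (E x₀) := (Set.eq_univ_iff_forall.mp h) d
      have : d ∈ univ.filter (E x₀) := mem_filter.mpr ⟨mem_univ _, (hE0 d).mpr (hself d)⟩
      rw [← hd', mem_filter] at this
      exact hirr d this.2
  have hlam_lt : lam + 1 ≤ D.card := by have := hrow d (hself d); omega
  have hqdvd : q ∣ D.card - lam - 1 + mu := by
    have h1 : D.card * (D.card - lam - 1 + mu) = q * mu := by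
      rw [mul_add, hmul, ← hsum]; ring
    rcases hq.dvd_mul.mp ⟨mu, h1⟩ with h | h
    · exact absurd (Nat.le_of_dvd hD0 h) (by omega)
    · exact h
  rcases Nat.eq_zero_or_pos (D.card - lam - 1 + mu) with h0 | hpos
  · -- no edges leave `x₀` and its neighbours: blocks again
    have hmu0 : mu = 0 := by omega
    have hall : ∀ y ∈ D, ∀ w, E y w → w = x₀ ∨ w ∈ D := by
      intro y hy w hyw
      by_cases hw : w = x₀
      · exact Or.inl hw
      refine Or.inr ((hcover w hw).resolve_left fun hwC => ?_)
      have h1 := hrow y hy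
      have : 0 < (C.filter fun z => E y z).card := card_pos.mpr ⟨w, mem_filter.mpr ⟨hwC, hyw⟩⟩
      omega
    have hcl : ∀ y ∈ D, insert y (univ.filter (E y)) = insert x₀ D := by
      intro y hy
      refine eq_of_subset_of_card_le (fun w hw => ?_) ?_
      · simp only [mem_insert, mem_filter, mem_univ, true_and] at hw ⊢
        rcases hw with rfl | hw
        · exact Or.inr hy
        · exact hall y hy w hw
      · rw [card_insert_of_notMem (fun h => hne d hd x₀ h rfl),
          card_insert_of_notMem (by simpa using hirr y), hout]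
    let N : V → Finset V := fun y => insert y (univ.filter (E y))
    have hN0 : N x₀ = insert x₀ D := by
      simp only [N]; congr 1; ext w; simp [hE0]
    have hmap : ∀ (g : K) (y : V), N (g • y) = (N y).image (g • ·) := by
      intro g y
      simp only [N, image_insert]
      congr 1
      ext w
      simp only [mem_filter, mem_univ, true_and, mem_image]
      constructor
      · intro h
        exact ⟨g⁻¹ • w, by rwa [← hEinv g, smul_inv_smul], smul_inv_smul _ _⟩
      · rintro ⟨z, hz, rfl⟩
        exact (hEinv _ _ _).mpr hz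
    let B : Set V := {y | N y = N x₀}
    have hB : IsBlock K B := by
      rw [isBlock_iff_smul_eq_of_nonempty]
      rintro g ⟨y, hy1, hy2⟩
      obtain ⟨z, hz, rfl⟩ := Set.mem_smul_set.mp hy1
      change N (g • z) = _ at hy2
      change N z = _ at hz
      rw [hmap, hz] at hy2
      ext w
      rw [Set.mem_smul_set_iff_inv_smul_mem]
      change N (g⁻¹ • w) = _ ↔ N w = _
      constructor
      · intro h
        rw [← smul_inv_smul g w, hmap, h, hy2]
      · intro h
        apply Finset.image_injective (MulAction.injective g)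
        rw [← hmap, smul_inv_smul, h, hy2]
    rcases IsPreprimitive.isTrivialBlock_of_isBlock hB with h | h
    · exact hd (h (x := d) (by show N d = N x₀; rw [hN0]; exact hcl d (hself d)) (y := x₀) rfl)
    · have h1 : N c = N x₀ := (Set.eq_univ_iff_forall.mp h) c
      have h2 : c ∈ N x₀ := h1 ▸ mem_insert_self _ _
      rw [hN0, mem_insert] at h2
      exact h2.elim hc fun h => Finset.disjoint_left.mp hdisj (hself c) h
  · obtain ⟨t, ht⟩ := hqdvd
    have ht1 : t = 1 := by
      have : q * t < q * 2 := by omega
      have h2 := Nat.lt_of_mul_lt_mul_left this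
      have : t ≠ 0 := fun h => by rw [h, mul_zero] at ht; omega
      omega
    rw [ht1, mul_one] at ht
    have h1 : D.card * q = q * mu := by
      calc D.card * q = D.card * (D.card - lam - 1 + mu) := by rw [ht]
        _ = q * mu := by rw [mul_add, hmul, ← hsum]; ring
    rw [mul_comm] at h1
    exact absurd (Nat.eq_of_mul_eq_mul_left hq.pos h1) (by omega)

end Cfsg.Agent.OddLocal44
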