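import Cfsg.Agent.S3612
import Cfsg.Agent.OddLocal44.RankThreePrimeSucc
import Cfsg.Agent.Lib.Perm.PrimeDegreeOrders

/-!
# Prime degree `p = q + 2` with the Sylow normalizer of half the possible order

Such a group is triply transitive; the setwise stabilizer of two points then shows that it is
quintuply transitive.
-/

set_option autoImplicit false
open Cfsg MulAction
open scoped Pointwise

namespace Cfsg.Agent.OddLocal44.Twin

open Agent.Perm

variable {G Ω : Type*} [Group G] [Finite G] [MulAction G Ω] [FaithfulSMul G Ω] [Fintype Ω]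
  [DecidableEq Ω] [IsPretransitive G Ω] {p q : ℕ} [Fact p.Prime]

theorem three_transitive (hq : q.Prime) (hq5 : 5 < q) (hpq : p = q + 2)
    (hcard : Fintype.card Ω = p) (hins : ¬ Group.IsSolvable G) (P : Sylow p G)
    (hN : 2 * Nat.card ↥(Subgroup.normalizer ((P : Subgroup G) : Set G)) = p * (p - 1)) :
    IsMultiplyPretransitive G Ω 3 := by
  classical
  obtain ⟨-, h2, e, -, hthree⟩ := half_normalizer_setup hcard hins P hN
  haveI := h2
  refine three_transitive_of_stabilizer fun a b c d hab hca hcb hda hdb => ?_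
  haveI : IsPreprimitive ↥(stabilizer G a) ↥(SubMulAction.ofStabilizer G a) :=
    Cfsg.Agent.S3612.result p Fact.out (Nat.card_eq_fintype_card.trans hcard) inferInstance hins P hN
      (by omega) a
  haveI : Fintype ↥(SubMulAction.ofStabilizer G a) := Fintype.ofFinite _
  have hV : Fintype.card ↥(SubMulAction.ofStabilizer G a) = q + 1 := by
    have h := SubMulAction.nat_card_ofStabilizer_eq G a
    rw [Nat.card_eq_fintype_card, Nat.card_eq_fintype_card, hcard] at h
    omega
  obtain ⟨g, gb, gc⟩ := transitive_stabilizer_of_prime_succ (K := ↥(stabilizer G a)) hq (by omega) hV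
    ⟨b, hab.symm⟩ (c := ⟨c, hca⟩) (d := ⟨d, hda⟩) (fun f hf hd => hthree hab (fun i => (f i : Ω))
      (fun i => (f i).2) (fun i e => hf i (Subtype.ext e)) fun i j hij g ga gb ge =>
        hd i j hij ⟨g, ga⟩ (Subtype.ext gb) (Subtype.ext ge))
    (fun h => hcb (congrArg Subtype.val h)) (fun h => hdb (congrArg Subtype.val h))
  exact ⟨g, g.2, congrArg Subtype.val gb, congrArg Subtype.val gc⟩

/-- The group contains no transposition. -/
theorem not_isSwap (hp5 : 5 ≤ p) (hcard : Fintype.card Ω = p) (P : Sylow p G)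
    (hN : 2 * Nat.card ↥(Subgroup.normalizer ((P : Subgroup G) : Set G)) = p * (p - 1)) (g : G) :
    ¬ (MulAction.toPerm g : Equiv.Perm Ω).IsSwap := by
  intro hswap
  have hp : p.Prime := Fact.out
  let π := MulAction.toPermHom G Ω
  have hπ : Function.Injective π := fun x y h =>
    FaithfulSMul.eq_of_smul_eq_smul (α := Ω) fun z => Equiv.congr_fun h z
  haveI : IsPretransitive π.range Ω := ⟨fun a b => by
    obtain ⟨g, hg⟩ := exists_smul_eq G a b
    exact ⟨⟨π g, g, rfl⟩, hg⟩⟩
  haveI : IsPreprimitive π.range Ω :=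
    IsPreprimitive.of_prime_card ((Nat.card_eq_fintype_card.trans hcard).symm ▸ hp)
  have htop := Equiv.Perm.subgroup_eq_top_of_isPreprimitive_of_isSwap_mem (G := π.range) inferInstance
    _ hswap ⟨g, rfl⟩
  have hG : Nat.card G = p.factorial := by
    rw [Nat.card_congr (MonoidHom.ofInjective hπ).toEquiv, htop, Subgroup.card_top, Nat.card_perm,
      Nat.card_eq_fintype_card, hcard]
  have hidx : Nat.card (Sylow p G) * Nat.card ↥(Subgroup.normalizer ((P : Subgroup G) : Set G)) =
      Nat.card G := by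
    rw [P.card_eq_index_normalizer]
    exact Subgroup.index_mul_card _
  obtain ⟨n, hn⟩ : ∃ n, p = n + 2 := ⟨p - 2, by omega⟩
  have hns : Nat.card (Sylow p G) = 2 * n.factorial := by
    refine Nat.eq_of_mul_eq_mul_right (show 0 < p * (p - 1) from Nat.mul_pos hp.pos (by omega)) ?_
    rw [← hN, mul_left_comm, hidx, hG, hN, show p - 1 = n + 1 by omega, hn, Nat.factorial_succ,
      Nat.factorial_succ]
    ring
  have hfac : ((n.factorial : ℕ) : ZMod p) = 1 := by
    have h := ZMod.wilsons_lemma p
    rw [show p - 1 = n + 1 by omega, Nat.factorial_succ, Nat.cast_mul] at h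
    have h1 : ((n + 1 : ℕ) : ZMod p) = -1 := by
      have : ((n + 1 : ℕ) : ZMod p) + 1 = 0 := by
        rw [show ((n + 1 : ℕ) : ZMod p) + 1 = ((n + 1 + 1 : ℕ) : ZMod p) by push_cast; ring,
          show n + 1 + 1 = p by omega, ZMod.natCast_self]
      linear_combination this
    rw [h1] at h
    linear_combination -h
  have hmod : ((Nat.card (Sylow p G) : ℕ) : ZMod p) = 1 := by
    have := (ZMod.natCast_eq_natCast_iff _ _ _).mpr (card_sylow_modEq_one p G)
    rwa [Nat.cast_one] at this
  rw [hns, Nat.cast_mul, hfac, mul_one, Nat.cast_ofNat] at hmod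
  exact one_ne_zero (show (1 : ZMod p) = 0 by linear_combination hmod)

theorem five_transitive (hq : q.Prime) (hq5 : 5 < q) (hpq : p = q + 2)
    (hcard : Fintype.card Ω = p) (hins : ¬ Group.IsSolvable G) (P : Sylow p G)
    (hN : 2 * Nat.card ↥(Subgroup.normalizer ((P : Subgroup G) : Set G)) = p * (p - 1)) :
    IsMultiplyPretransitive G Ω 5 := by
  classical
  have hp : p.Prime := Fact.out
  haveI : Fact q.Prime := ⟨hq⟩
  have h3 := three_transitive hq hq5 hpq hcard hins P hN
  have h2 : IsMultiplyPretransitive G Ω 2 := by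
    haveI := h3
    exact isMultiplyPretransitive_of_le' (m := 2) (n := 3) (by norm_num)
      (by rw [ENat.card_eq_coe_fintype_card, hcard]; exact_mod_cast (by omega : 3 ≤ p))
  obtain ⟨a, b, hab⟩ := Fintype.exists_pair_of_one_lt_card (α := Ω) (by rw [hcard]; omega)
  let K : Subgroup G :=
    { carrier := {g | (g • a = a ∧ g • b = b) ∨ (g • a = b ∧ g • b = a)}
      one_mem' := Or.inl ⟨one_smul _ _, one_smul _ _⟩
      mul_mem' := by
        rintro g k (⟨ga, gb⟩ | ⟨ga, gb⟩) (⟨ka, kb⟩ | ⟨ka, kb⟩) <;>
          simp [Set.mem_ofPred_eq, mul_smul, ga, gb, ka, kb]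
      inv_mem' := by
        rintro g (⟨ga, gb⟩ | ⟨ga, gb⟩) <;> simp [Set.mem_ofPred_eq, inv_smul_eq_iff, ga, gb] }
  let W := {x : Ω // x ≠ a ∧ x ≠ b}
  have hKW : ∀ (g : K) (x : W), (g : G) • (x : Ω) ≠ a ∧ (g : G) • (x : Ω) ≠ b := by
    rintro ⟨g, ⟨ga, gb⟩ | ⟨ga, gb⟩⟩ x <;> refine ⟨fun e => ?_, fun e => ?_⟩
    · exact x.2.1 (MulAction.injective g (e.trans ga.symm))
    · exact x.2.2 (MulAction.injective g (e.trans gb.symm))
    · exact x.2.2 (MulAction.injective g (e.trans gb.symm))
    · exact x.2.1 (MulAction.injective g (e.trans ga.symm))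
  letI : MulAction K W :=
    { smul := fun g x => ⟨(g : G) • (x : Ω), hKW g x⟩
      one_smul := fun x => Subtype.ext (one_smul G (x : Ω))
      mul_smul := fun g h x => Subtype.ext (mul_smul (g : G) (h : G) (x : Ω)) }
  haveI : FaithfulSMul K W := ⟨fun {g k} h => by
    by_contra hne
    obtain ⟨t, ht, htW⟩ : ∃ t : K, t ≠ 1 ∧ ∀ x : W, t • x = x :=
      ⟨k⁻¹ * g, fun e => hne (inv_mul_eq_one.mp e).symm, fun x => by
        rw [mul_smul, h, inv_smul_smul]⟩
    have hfix : ∀ x, x ≠ a → x ≠ b → (t : G) • x = x := fun x xa xb =>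
      congrArg Subtype.val (htW ⟨x, xa, xb⟩)
    rcases t.2 with ⟨ta, tb⟩ | ⟨ta, tb⟩
    · exact ht (Subtype.ext (FaithfulSMul.eq_of_smul_eq_smul (α := Ω) fun x => by
        by_cases xa : x = a
        · rw [xa, ta]; exact (one_smul G a).symm
        · by_cases xb : x = b
          · rw [xb, tb]; exact (one_smul G b).symm
          · rw [hfix x xa xb]; exact (one_smul G x).symm))
    · refine not_isSwap (by omega) hcard P hN (t : G) ⟨a, b, hab, Equiv.ext fun x => ?_⟩
      by_cases xa : x = a
      · rw [xa, Equiv.swap_apply_left]; exact ta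
      · by_cases xb : x = b
        · rw [xb, Equiv.swap_apply_right]; exact tb
        · rw [Equiv.swap_apply_of_ne_of_ne xa xb]; exact hfix x xa xb⟩
  have hWcard : Fintype.card W = q := by
    rw [Fintype.card_subtype, show (Finset.univ.filter fun x : Ω => x ≠ a ∧ x ≠ b) =
      Finset.univ \ {a, b} by ext z; simp, Finset.card_sdiff_of_subset (Finset.subset_univ _),
      Finset.card_univ, hcard, Finset.card_pair hab]
    omega
  let π := MulAction.toPermHom K W
  have hπ : Function.Injective π := fun x y h =>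
    FaithfulSMul.eq_of_smul_eq_smul (α := W) fun z => Equiv.congr_fun h z
  -- the pointwise stabilizer
  let H : Subgroup K :=
    { carrier := {g | (g : G) • a = a}
      one_mem' := one_smul G a
      mul_mem' := fun {g k} hg hk => by
        show ((g : G) * (k : G)) • a = a
        rw [mul_smul, hk, hg]
      inv_mem' := fun {g} hg => by
        show (g : G)⁻¹ • a = a
        rw [inv_smul_eq_iff, hg] }
  have hHb : ∀ g : K, g ∈ H → (g : G) • b = b := by
    rintro ⟨g, ⟨ga, gb⟩ | ⟨ga, gb⟩⟩ hg
    · exact gb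
    · exact absurd (hg.symm.trans ga) hab
  obtain ⟨τ, τa, τb⟩ := is_two_pretransitive_iff.mp h2 hab hab.symm
  have hτ : τ ∈ K := Or.inr ⟨τa, τb⟩
  have hout : ∀ g : K, g ∉ H → (g : G) • a = b ∧ (g : G) • b = a := by
    rintro ⟨g, h | h⟩ hg
    · exact absurd h.1 hg
    · exact h
  have hidx : H.index = 2 := by
    rw [Subgroup.index_eq_two_iff]
    refine ⟨⟨τ, hτ⟩, fun g => ?_⟩
    by_cases hg : g ∈ H
    · refine Or.inr ⟨hg, fun h => hab ?_⟩
      have h' : ((g : G) * τ) • a = a := h
      rw [mul_smul, τa, hHb g hg] at h'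
      exact h'.symm
    · refine Or.inl ⟨?_, hg⟩
      show ((g : G) * τ) • a = a
      rw [mul_smul, τa, (hout g hg).2]
  haveI hHn : H.Normal := Subgroup.normal_of_index_eq_two hidx
  haveI hHtrans : IsPretransitive H W := ⟨fun x y => by
    have h3' := isMultiplyPretransitive_iff.mp h3
    let f1 : Fin 3 ↪ Ω := ⟨![a, b, x], by
      intro i j hij
      fin_cases i <;> fin_cases j <;>
        simp_all [hab, hab.symm, x.2.1, x.2.2, x.2.1.symm, x.2.2.symm]⟩
    let f2 : Fin 3 ↪ Ω := ⟨![a, b, y], by
      intro i j hij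
      fin_cases i <;> fin_cases j <;>
        simp_all [hab, hab.symm, y.2.1, y.2.2, y.2.1.symm, y.2.2.symm]⟩
    obtain ⟨g, hg⟩ := h3' f1 f2
    have g0 : g • a = a := congrArg (fun f : Fin 3 ↪ Ω => f 0) hg
    have g1 : g • b = b := congrArg (fun f : Fin 3 ↪ Ω => f 1) hg
    have g2 : g • (x : Ω) = (y : Ω) := congrArg (fun f : Fin 3 ↪ Ω => f 2) hg
    exact ⟨⟨⟨g, Or.inl ⟨g0, g1⟩⟩, g0⟩, Subtype.ext g2⟩⟩
  let ι := π.comp H.subtype
  have hι : Function.Injective ι := hπ.comp Subtype.val_injective
  haveI : IsPretransitive ι.range W := ⟨fun x y => by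
    obtain ⟨g, hg⟩ := exists_smul_eq H x y
    exact ⟨⟨ι g, g, rfl⟩, hg⟩⟩
  haveI : IsPretransitive π.range W := ⟨fun x y => by
    obtain ⟨g, hg⟩ := exists_smul_eq H x y
    exact ⟨⟨π (g : K), (g : K), rfl⟩, hg⟩⟩
  -- the pointwise stabilizer is insoluble
  have hHins : ¬ Group.IsSolvable ι.range := by
    intro hsol
    let Q : Sylow q ι.range := default
    have hnorm := PrimeDeg.normal_sylow_of_isSolvable hWcard hsol Q
    have hdvd := PrimeDeg.card_normalizer_dvd hWcard Q
    rw [Subgroup.normalizer_eq_top_iff.mpr hnorm, Subgroup.card_top] at hdvd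
    obtain ⟨e, he⟩ := PrimeDeg.prime_dvd_card (G := ι.range) hWcard
    rw [he] at hdvd
    have hedvd : e ∣ q - 1 := Nat.dvd_of_mul_dvd_mul_left hq.pos hdvd
    have hHc : Nat.card H = q * e :=
      (Nat.card_congr (MonoidHom.ofInjective hι).toEquiv).trans he
    let εH : ↥(stabilizer (stabilizer G a) b) ≃ H :=
      { toFun := fun g => ⟨⟨((g : stabilizer G a) : G), Or.inl ⟨(g : stabilizer G a).2, g.2⟩⟩,
          (g : stabilizer G a).2⟩
        invFun := fun g => ⟨⟨((g : K) : G), g.2⟩, hHb g g.2⟩
        left_inv := fun g => rfl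
        right_inv := fun g => rfl }
    have ho : Nat.card (MulAction.orbit (stabilizer G a) b) = p - 1 := by
      have : MulAction.orbit (stabilizer G a) b = {a}ᶜ := by
        ext x
        simp only [Set.mem_compl_iff, Set.mem_singleton_iff]
        constructor
        · rintro ⟨g, rfl⟩ hx
          exact hab (MulAction.injective (g : G) (g.2.trans hx.symm))
        · intro hx
          obtain ⟨g, ga, gb⟩ := is_two_pretransitive_iff.mp h2 hab (Ne.symm hx)
          exact ⟨⟨g, ga⟩, gb⟩
      rw [this, Nat.card_coe_set_eq, Set.ncard_compl, Set.ncard_singleton,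
        Nat.card_eq_fintype_card, hcard]
    have hGc : Nat.card G = p * ((p - 1) * (q * e)) := by
      rw [← (stabilizer G a).index_mul_card, index_stabilizer_of_transitive,
        Nat.card_eq_fintype_card (α := Ω), hcard, ← (stabilizer (stabilizer G a) b).index_mul_card,
        index_stabilizer, Nat.card_congr εH, hHc, ← ho, Nat.card_coe_set_eq]
    have hidx' : Nat.card (Sylow p G) * Nat.card ↥(Subgroup.normalizer ((P : Subgroup G) : Set G)) =
        Nat.card G := by
      rw [P.card_eq_index_normalizer]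
      exact Subgroup.index_mul_card _
    have hns : Nat.card (Sylow p G) = 2 * (q * e) := by
      refine Nat.eq_of_mul_eq_mul_right (show 0 < p * (p - 1) from Nat.mul_pos hp.pos (by omega)) ?_
      rw [← hN, mul_left_comm, hidx', hGc, hN]
      ring
    have he4 : ((4 * e + 1 : ℕ) : ZMod p) = 0 := by
      have hmod := (ZMod.natCast_eq_natCast_iff _ _ _).mpr (card_sylow_modEq_one p G)
      rw [hns, Nat.cast_one] at hmod
      have hq' : (q : ZMod p) = -2 := by
        have : ((q + 2 : ℕ) : ZMod p) = 0 := by rw [← hpq]; exact ZMod.natCast_self p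
        push_cast at this
        linear_combination this
      push_cast at hmod ⊢
      rw [hq'] at hmod
      linear_combination -hmod
    obtain ⟨k, hk⟩ := (ZMod.natCast_eq_zero_iff _ _).mp he4
    obtain ⟨t, ht⟩ := hedvd
    have he0 : e ≠ 0 := fun h => by rw [h, zero_mul] at ht; omega
    have hk4 : k < 4 := by
      have hele : e ≤ q - 1 := Nat.le_of_dvd (by omega) ⟨t, ht⟩
      exact Nat.lt_of_mul_lt_mul_left (a := p) (by omega)
    have hpodd : p % 2 = 1 := Nat.odd_iff.mp (hp.odd_of_ne_two (by omega))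
    interval_cases k
    · omega
    · -- `4 e + 1 = p`
      have ht4 : e * t + 2 = 4 * e := by omega
      have : e ∣ 2 := ⟨4 - t, by rw [Nat.mul_sub]; omega⟩
      have := Nat.le_of_dvd (by norm_num) this
      have hp9 : p ≠ 9 := fun h => by rw [h] at hp; norm_num at hp
      omega
    · omega
    · -- `4 e + 1 = 3 p`
      rcases t with _ | _ | t
      · rw [mul_zero] at ht; omega
      · rw [zero_add, mul_one] at ht
        have hq9 : q = 9 := by omega
        rw [hq9] at hq; norm_num at hq
      · have : e * 2 ≤ e * (t + 1 + 1) := Nat.mul_le_mul_left e (by omega)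
        omega
  have hKins : ¬ Group.IsSolvable π.range := fun h => hHins
    (solvable_of_solvable_injective
      (f := Subgroup.inclusion (show ι.range ≤ π.range by rintro _ ⟨g, rfl⟩; exact ⟨(g : K), rfl⟩))
      (Subgroup.inclusion_injective _))
  -- its Sylow normalizer in the setwise stabilizer has even order
  let Q : Sylow q K := default
  have hQH : (Q : Subgroup K) ≤ H := by
    intro x hx
    obtain ⟨n, hn⟩ := Q.2 ⟨x, hx⟩
    have hxn : x ^ q ^ n = 1 := congrArg Subtype.val hn
    obtain ⟨j, hj⟩ := (hq.odd_of_ne_two (by omega)).pow (n := n)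
    have hmem : x ^ q ^ n ∈ H := hxn ▸ H.one_mem
    rw [hj, pow_succ, pow_mul] at hmem
    exact (H.mul_mem_cancel_left (H.pow_mem (Subgroup.sq_mem_of_index_two hidx x) j)).mp hmem
  have heven : Even (Nat.card (Subgroup.normalizer ((Q : Subgroup K) : Set K))) := by
    have h := Sylow.normalizer_sup_eq_top (Q.subtype hQH)
    rw [Sylow.coe_subtype, Subgroup.map_subgroupOf_eq_of_le hQH] at h
    rw [even_iff_two_dvd]
    by_contra hodd
    have hle : Subgroup.normalizer ((Q : Subgroup K) : Set K) ≤ H := by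
      intro x hx
      obtain ⟨j, hj⟩ : Odd (orderOf x) := by
        rw [Nat.odd_iff]
        by_contra hev
        exact hodd ((Nat.dvd_of_mod_eq_zero (by omega)).trans (Subgroup.orderOf_dvd_natCard _ hx))
      have hmem : x ^ orderOf x ∈ H := (pow_orderOf_eq_one x).symm ▸ H.one_mem
      rw [hj, pow_succ, pow_mul] at hmem
      exact (H.mul_mem_cancel_left (H.pow_mem (Subgroup.sq_mem_of_index_two hidx x) j)).mp hmem
    rw [sup_eq_right.mpr hle] at h
    rw [h, Subgroup.index_top] at hidx
    exact absurd hidx (by norm_num)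
  let Q' : Sylow q π.range := Q.mapSurjective π.rangeRestrict_surjective
  have heven' : Even (Nat.card (Subgroup.normalizer ((Q' : Subgroup π.range) : Set π.range))) := by
    rw [even_iff_two_dvd] at heven ⊢
    refine heven.trans ?_
    rw [← Subgroup.card_map_of_injective (f := π.rangeRestrict)
      (fun x y h => hπ (congrArg Subtype.val h))]
    refine Subgroup.card_dvd_of_le ?_
    rw [Sylow.coe_mapSurjective]
    exact Subgroup.le_normalizer_map _
  have hK3' := PrimeDeg.three_transitive hWcard hKins Q' heven'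
  have hH2 : IsMultiplyPretransitive ι.range W 2 :=
    (Cfsg.Agent.FGS80.Burnside.isSolvable_or_two_transitive (G := ι.range) hWcard).resolve_left hHins
  have h2W : ∀ {x y z w : W}, x ≠ y → z ≠ w → ∃ h : H, h • x = z ∧ h • y = w := by
    intro x y z w hxy hzw
    obtain ⟨⟨-, g, rfl⟩, g1, g2⟩ := is_two_pretransitive_iff.mp hH2 hxy hzw
    exact ⟨g, g1, g2⟩
  haveI : IsMultiplyPretransitive H W 2 := is_two_pretransitive_iff.mpr h2W
  have h3W : IsMultiplyPretransitive H W 3 := by
    refine three_transitive_of_stabilizer fun x y c d hxy hcx hcy hdx hdy => ?_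
    by_contra hno
    push Not at hno
    -- the two orbits would have equal size
    let orb : W → Finset W := fun w => Finset.univ.filter fun z =>
      ∃ h : H, h • x = x ∧ h • y = y ∧ h • w = z
    obtain ⟨k, kx, ky, kc⟩ : ∃ k : K, k • x = x ∧ k • y = y ∧ k • c = d := by
      let f1 : Fin 3 ↪ W := ⟨![x, y, c], by
        intro i j hij
        fin_cases i <;> fin_cases j <;> simp_all [hxy.symm, hcx.symm, hcy.symm]⟩
      let f2 : Fin 3 ↪ W := ⟨![x, y, d], by
        intro i j hij
        fin_cases i <;> fin_cases j <;> simp_all [hxy.symm, hdx.symm, hdy.symm]⟩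
      obtain ⟨⟨-, g, rfl⟩, hg⟩ := isMultiplyPretransitive_iff.mp hK3' f1 f2
      exact ⟨g, congrArg (fun f : Fin 3 ↪ W => f 0) hg, congrArg (fun f : Fin 3 ↪ W => f 1) hg,
        congrArg (fun f : Fin 3 ↪ W => f 2) hg⟩
    have hkH : k ∉ H := fun h => hno ⟨k, h⟩ kx ky kc
    have hconj : ∀ h : H, h • x = x → h • y = y →
        ∃ h' : H, (h' : K) = k * h * k⁻¹ ∧ h' • x = x ∧ h' • y = y := by
      intro h hx hy
      refine ⟨⟨k * h * k⁻¹, hHn.conj_mem _ h.2 k⟩, rfl, ?_, ?_⟩
      · show (k * (h : K) * k⁻¹) • x = x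
        rw [mul_smul, mul_smul, show k⁻¹ • x = x by rw [inv_smul_eq_iff, kx],
          show (h : K) • x = x from hx, kx]
      · show (k * (h : K) * k⁻¹) • y = y
        rw [mul_smul, mul_smul, show k⁻¹ • y = y by rw [inv_smul_eq_iff, ky],
          show (h : K) • y = y from hy, ky]
    have horbd : orb d = (orb c).image (k • ·) := by
      ext z
      simp only [orb, Finset.mem_filter, Finset.mem_univ, true_and, Finset.mem_image]
      constructor
      · rintro ⟨h, hx, hy, rfl⟩
        refine ⟨k⁻¹ • h • d, ⟨⟨k⁻¹ * h * k, ?_⟩, ?_, ?_, ?_⟩, smul_inv_smul _ _⟩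
        · simpa using hHn.conj_mem _ h.2 k⁻¹
        · show (k⁻¹ * (h : K) * k) • x = x
          rw [mul_smul, mul_smul, kx, show (h : K) • x = x from hx, inv_smul_eq_iff, kx]
        · show (k⁻¹ * (h : K) * k) • y = y
          rw [mul_smul, mul_smul, ky, show (h : K) • y = y from hy, inv_smul_eq_iff, ky]
        · show (k⁻¹ * (h : K) * k) • c = k⁻¹ • h • d
          rw [mul_smul, mul_smul, kc]; rfl
      · rintro ⟨w, ⟨h, hx, hy, rfl⟩, rfl⟩
        obtain ⟨h', he', hx', hy'⟩ := hconj h hx hy
        refine ⟨h', hx', hy', ?_⟩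
        show (h' : K) • d = k • (h : K) • c
        rw [he', mul_smul, mul_smul, ← kc, inv_smul_smul]
    have hcover : Finset.univ \ {x, y} = orb c ∪ orb d := by
      ext z
      simp only [Finset.mem_sdiff, Finset.mem_univ, true_and, Finset.mem_insert,
        Finset.mem_singleton, not_or, Finset.mem_union, orb, Finset.mem_filter]
      constructor
      · rintro ⟨zx, zy⟩
        obtain ⟨g, gx, gy, gz⟩ : ∃ g : K, g • x = x ∧ g • y = y ∧ g • c = z := by
          let f1 : Fin 3 ↪ W := ⟨![x, y, c], by
            intro i j hij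
            fin_cases i <;> fin_cases j <;> simp_all [hxy.symm, hcx.symm, hcy.symm]⟩
          let f2 : Fin 3 ↪ W := ⟨![x, y, z], by
            intro i j hij
            fin_cases i <;> fin_cases j <;> simp_all [hxy.symm, Ne.symm zx, Ne.symm zy]⟩
          obtain ⟨⟨-, g, rfl⟩, hg⟩ := isMultiplyPretransitive_iff.mp hK3' f1 f2
          exact ⟨g, congrArg (fun f : Fin 3 ↪ W => f 0) hg, congrArg (fun f : Fin 3 ↪ W => f 1) hg,
            congrArg (fun f : Fin 3 ↪ W => f 2) hg⟩
        by_cases hgH : g ∈ H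
        · exact Or.inl ⟨⟨g, hgH⟩, gx, gy, gz⟩
        · refine Or.inr ⟨⟨g * k⁻¹, ?_⟩, ?_, ?_, ?_⟩
          · show ((g : G) * (k : G)⁻¹) • a = a
            rw [mul_smul, show (k : G)⁻¹ • a = b by rw [inv_smul_eq_iff, (hout k hkH).2],
              (hout g hgH).2]
          · show (g * k⁻¹) • x = x
            rw [mul_smul, show k⁻¹ • x = x by rw [inv_smul_eq_iff, kx], gx]
          · show (g * k⁻¹) • y = y
            rw [mul_smul, show k⁻¹ • y = y by rw [inv_smul_eq_iff, ky], gy]
          · show (g * k⁻¹) • d = z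
            rw [mul_smul, ← kc, inv_smul_smul, gz]
      · rintro (⟨h, hx, hy, rfl⟩ | ⟨h, hx, hy, rfl⟩)
        · exact ⟨fun e => hcx (MulAction.injective h (e.trans hx.symm)),
            fun e => hcy (MulAction.injective h (e.trans hy.symm))⟩
        · exact ⟨fun e => hdx (MulAction.injective h (e.trans hx.symm)),
            fun e => hdy (MulAction.injective h (e.trans hy.symm))⟩
    have hdisj : Disjoint (orb c) (orb d) := by
      rw [Finset.disjoint_left]
      intro z h1 h2'
      simp only [orb, Finset.mem_filter, Finset.mem_univ, true_and] at h1 h2'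
      obtain ⟨g, gx, gy, rfl⟩ := h1
      obtain ⟨g', gx', gy', ge⟩ := h2'
      exact hno (g'⁻¹ * g) (by rw [mul_smul, gx, inv_smul_eq_iff, gx'])
        (by rw [mul_smul, gy, inv_smul_eq_iff, gy']) (by rw [mul_smul, inv_smul_eq_iff, ge])
    have hcards := congrArg Finset.card hcover
    rw [Finset.card_sdiff_of_subset (Finset.subset_univ _), Finset.card_univ, hWcard,
      Finset.card_pair hxy, Finset.card_union_of_disjoint hdisj, horbd,
      Finset.card_image_of_injective _ (MulAction.injective k)] at hcards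
    have := Nat.odd_iff.mp (hq.odd_of_ne_two (by omega))
    omega
  -- assemble
  rw [isMultiplyPretransitive_iff]
  intro x y
  obtain ⟨g, g1, g2⟩ := is_two_pretransitive_iff.mp h2 (show x 3 ≠ x 4 from x.injective.ne (by decide)) hab
  obtain ⟨k, k1, k2⟩ := is_two_pretransitive_iff.mp h2 (show y 3 ≠ y 4 from y.injective.ne (by decide)) hab
  have hmem : ∀ (g : G) (x : Fin 5 ↪ Ω), g • x 3 = a → g • x 4 = b → ∀ i : Fin 3,
      g • x (Fin.castLE (by norm_num) i) ≠ a ∧ g • x (Fin.castLE (by norm_num) i) ≠ b := by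
    intro g x g1 g2 i
    constructor <;> intro e
    · have := x.injective (MulAction.injective g (e.trans g1.symm))
      simp [Fin.ext_iff] at this
      omega
    · have := x.injective (MulAction.injective g (e.trans g2.symm))
      simp [Fin.ext_iff] at this
      omega
  let F : Fin 3 ↪ W := ⟨fun i => ⟨g • x (Fin.castLE (by norm_num) i), hmem g x g1 g2 i⟩,
    fun i j hij => Fin.castLE_injective _ (x.injective (MulAction.injective g (congrArg Subtype.val hij)))⟩
  let F' : Fin 3 ↪ W := ⟨fun i => ⟨k • y (Fin.castLE (by norm_num) i), hmem k y k1 k2 i⟩,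
    fun i j hij => Fin.castLE_injective _ (y.injective (MulAction.injective k (congrArg Subtype.val hij)))⟩
  obtain ⟨h, hh⟩ := isMultiplyPretransitive_iff.mp h3W F F'
  have hh' : ∀ i : Fin 3, ((h : K) : G) • g • x (Fin.castLE (by norm_num) i) =
      k • y (Fin.castLE (by norm_num) i) := fun i =>
    congrArg (fun f : Fin 3 ↪ W => (f i : Ω)) hh
  refine ⟨k⁻¹ * ((h : K) : G) * g, Function.Embedding.ext fun i => ?_⟩
  show (k⁻¹ * ((h : K) : G) * g) • x i = y i
  rw [mul_smul, mul_smul, inv_smul_eq_iff]
  fin_cases i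
  · exact hh' 0
  · exact hh' 1
  · exact hh' 2
  · show ((h : K) : G) • g • x 3 = k • y 3
    rw [g1, k1]; exact h.2
  · show ((h : K) : G) • g • x 4 = k • y 4
    rw [g2, k2]; exact hHb h h.2

end Cfsg.Agent.OddLocal44.Twin
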