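import Cfsg.Agent.OddLocal44.TwinAlternatingCore
import Cfsg.Agent.OddLocal44.TwinPrime

/-!
# Twin prime degree with `q = 2 r + 1` or `q = 3 r + 2`: the alternating group
-/

set_option autoImplicit false

open MulAction Finset Fin.NatCast
open scoped Pointwise

namespace Cfsg.Agent.OddLocal44.Twin

variable {G Ω : Type*} [Group G] [Finite G] [MulAction G Ω] [FaithfulSMul G Ω] [Fintype Ω]
  [DecidableEq Ω]

/-- An element acting as a `3`-cycle. -/
theorem alt_le_of_three (hprim : IsPreprimitive (MulAction.toPermHom G Ω).range Ω) {a b c : Ω}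
    (hab : a ≠ b) (hac : a ≠ c) (hbc : b ≠ c) (w : G) (ha : w • a = b) (hb : w • b = c)
    (hc : w • c = a) (hw : ∀ x, x ≠ a → x ≠ b → x ≠ c → w • x = x) :
    alternatingGroup Ω ≤ (MulAction.toPermHom G Ω).range := by
  refine Equiv.Perm.alternatingGroup_le_of_isPreprimitive_of_isThreeCycle_mem hprim
    (g := MulAction.toPermHom G Ω w) ?_ ⟨w, rfl⟩
  rw [← card_support_eq_three_iff]
  rw [show (MulAction.toPermHom G Ω w).support = {a, b, c} by
    ext x
    simp only [Equiv.Perm.mem_support, mem_insert, mem_singleton]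
    show w • x ≠ x ↔ _
    constructor
    · intro h
      by_contra hh
      simp only [not_or] at hh
      exact h (hw x hh.1 hh.2.1 hh.2.2)
    · rintro (rfl | rfl | rfl)
      · rw [ha]; exact hab.symm
      · rw [hb]; exact hbc.symm
      · rw [hc]; exact hac]
  rw [card_insert_of_notMem (by simp [hab, hac]), card_pair hbc]

/-- The points of the cyclic orbit. -/
theorem exists_pow_smul_eq {r : ℕ} (hr : r.Prime) {F : Finset Ω} {v : G} {O : Ω → Set Ω}
    (hfix : ∀ x ∉ F, v • x ≠ x) (hpow : ∀ x ∉ F, v ^ r • x = x)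
    (hO : ∀ x ∉ F, x ∈ O x ∧ ∀ y ∈ O x, y ∉ F ∧ O y = O x ∧ v • y ∈ O x)
    (hsize : ∀ x ∉ F, (O x).ncard = r) {x y : Ω} (hx : x ∉ F) (hy : y ∈ O x) :
    ∃ n : ℕ, v ^ n • x = y := by
  classical
  have hin : ∀ n : ℕ, v ^ n • x ∈ O x := by
    intro n
    induction n with
    | zero => simpa using (hO x hx).1
    | succ n ih => rw [pow_succ', mul_smul]; exact ((hO x hx).2 _ ih).2.2
  have hinj : Set.InjOn (fun i => v ^ i • x) (Set.Iio r) := by
    intro i hi l hl h
    simp only [Set.mem_Iio] at hi hl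
    by_contra hne
    wlog hlt : i < l generalizing i l
    · refine this h.symm ?_ ?_ ?_ ?_ <;> omega
    have h1 : v ^ (l - i) • x = x := by
      apply MulAction.injective (v ^ i)
      show v ^ i • v ^ (l - i) • x = v ^ i • x
      rw [← mul_smul, ← pow_add, show i + (l - i) = l by omega]
      exact h.symm
    have hcop : (l - i).Coprime r := Nat.Coprime.symm
      ((hr.coprime_iff_not_dvd).mpr fun hd => absurd (Nat.le_of_dvd (by omega) hd) (by omega))
    obtain ⟨u, -, hu⟩ := Nat.exists_mul_mod_eq_one_of_coprime hcop hr.one_lt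
    have hk : ∀ k : ℕ, (v ^ (l - i)) ^ k • x = x := by
      intro k
      induction k with
      | zero => simp
      | succ k ih => rw [pow_succ, mul_smul, h1, ih]
    have h2 := hk u
    rw [← pow_mul, smul_pow_eq_of_modEq (hpow x hx)
      (show (l - i) * u ≡ 1 [MOD r] by rw [Nat.ModEq, hu, Nat.one_mod_eq_one.mpr hr.ne_one]),
      pow_one] at h2
    exact hfix x hx h2
  have himg : (fun i => v ^ i • x) '' Set.Iio r = O x := by
    refine Set.eq_of_subset_of_ncard_le ?_ ?_ (Set.toFinite _)
    · rintro _ ⟨i, -, rfl⟩; exact hin i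
    · rw [hsize x hx, Set.InjOn.ncard_image hinj, Set.ncard_Iio_nat]
  rw [← himg] at hy
  obtain ⟨n, -, hn⟩ := hy
  exact ⟨n, hn⟩

/-- An element that preserves the orbits and centralizes the semiregular element has its `r`-th
power supported on `F`. -/
theorem pow_fixes {r : ℕ} (hr : r.Prime) {F : Finset Ω} {v : G} {O : Ω → Set Ω}
    (hfix : ∀ x ∉ F, v • x ≠ x) (hpow : ∀ x ∉ F, v ^ r • x = x)
    (hO : ∀ x ∉ F, x ∈ O x ∧ ∀ y ∈ O x, y ∉ F ∧ O y = O x ∧ v • y ∈ O x)
    (hsize : ∀ x ∉ F, (O x).ncard = r) (z : G) (hzO : ∀ x ∉ F, z • x ∈ O x)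
    (hc : z * v = v * z) {x : Ω} (hx : x ∉ F) : z ^ r • x = x := by
  obtain ⟨n, hn⟩ := exists_pow_smul_eq hr hfix hpow hO hsize hx (hzO x hx)
  have hcn : Commute z (v ^ n) := (show Commute z v from hc).pow_right n
  have h : ∀ m : ℕ, z ^ m • x = (v ^ n) ^ m • x := by
    intro m
    induction m with
    | zero => simp
    | succ m ih =>
      rw [pow_succ, mul_smul, ← hn, ← mul_smul, (hcn.pow_left m).eq, mul_smul, ih, ← mul_smul,
        ← pow_succ']
  rw [h r, ← pow_mul, mul_comm, pow_mul]
  have : ∀ k : ℕ, (v ^ r) ^ k • x = x := by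
    intro k
    induction k with
    | zero => simp
    | succ k ih => rw [pow_succ, mul_smul, hpow x hx, ih]
  exact this n

/-- The main construction. -/
theorem alt_le (k r : ℕ) [hr : Fact r.Prime] (hk : (k = 2 ∧ r % 3 = 2 ∧ 2 < r) ∨ (k = 3 ∧ 3 < r))
    (hcard : Fintype.card Ω = k * r + (k + 1))
    (hprim : IsPreprimitive (MulAction.toPermHom G Ω).range Ω)
    (h5 : IsMultiplyPretransitive G Ω 5) :
    alternatingGroup Ω ≤ (MulAction.toPermHom G Ω).range := by
  classical
  have hrp : r.Prime := hr.out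
  have hkr : k < r := by rcases hk with ⟨rfl, -, h⟩ | ⟨rfl, h⟩ <;> omega
  have hk3 : k ≤ 3 := by rcases hk with ⟨rfl, -, -⟩ | ⟨rfl, -⟩ <;> omega
  have hk5 : k + 2 ≤ 5 := by omega
  have htr : ∀ m : ℕ, m ≤ 5 → ∀ a b : Fin m ↪ Ω, ∃ g : G, ∀ i, g • a i = b i := by
    intro m hm a b
    haveI := h5
    haveI := isMultiplyPretransitive_of_le' (G := G) (α := Ω) (m := m) (n := 5) hm
      (by
        rw [ENat.card_eq_coe_fintype_card, hcard]
        have : 2 * r ≤ k * r := Nat.mul_le_mul_right r (by rcases hk with ⟨rfl, -⟩ | ⟨rfl, -⟩ <;> omega)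
        exact_mod_cast (by omega : 5 ≤ k * r + (k + 1)))
    obtain ⟨g, hg⟩ := exists_smul_eq G a b
    exact ⟨g, fun i => congrArg (fun f : Fin m ↪ Ω => f i) hg⟩
  obtain ⟨f⟩ : Nonempty (Fin (k + 1) ↪ Ω) :=
    Function.Embedding.nonempty_of_card_le (by rw [Fintype.card_fin, hcard]; omega)
  set F : Finset Ω := univ.map f with hF
  have hfF : ∀ i, f i ∈ F := fun i => mem_map_of_mem _ (mem_univ i)
  have hFf : ∀ z ∈ F, ∃ i, f i = z := fun z hz => by
    obtain ⟨i, -, hi⟩ := mem_map.mp hz
    exact ⟨i, hi⟩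
  let eF : Fin (k + 1) ≃ F := Equiv.ofBijective (fun i => ⟨f i, hfF i⟩)
    ⟨fun i j h => f.injective (congrArg Subtype.val h),
      fun z => (hFf z z.2).imp fun i hi => Subtype.ext hi⟩
  obtain ⟨R, v, O, hvR, hRF, hfix, hpow, hO', hnorm, hsize, hthree⟩ :=
    exists_semiregular_and_normalizer (G := G) k r hkr F (by rw [hF, card_map, card_univ, Fintype.card_fin])
      hcard
      (fun x hx y hy => by
        let a : Fin (k + 2) ↪ Ω := ⟨Fin.snoc f x, Fin.snoc_injective_iff.mpr
          ⟨f.injective, fun ⟨i, hi⟩ => hx (hi ▸ hfF i)⟩⟩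
        let b : Fin (k + 2) ↪ Ω := ⟨Fin.snoc f y, Fin.snoc_injective_iff.mpr
          ⟨f.injective, fun ⟨i, hi⟩ => hy (hi ▸ hfF i)⟩⟩
        obtain ⟨g, hg⟩ := htr (k + 2) hk5 a b
        refine ⟨g, fun z hz => ?_, by simpa [a, b] using hg (Fin.last _)⟩
        obtain ⟨i, rfl⟩ := hFf z hz
        simpa [a, b] using hg i.castSucc)
      (fun σ => by
        obtain ⟨g, hg⟩ := htr (k + 1) (by omega) f
          ⟨fun i => (σ (eF i) : Ω), fun i j h => eF.injective (σ.injective (Subtype.ext h))⟩
        refine ⟨g, fun z => ?_⟩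
        obtain ⟨i, rfl⟩ := eF.surjective z
        exact hg i)
  have hO : ∀ x ∉ F, x ∈ O x ∧ ∀ y ∈ O x, y ∉ F ∧ O y = O x ∧ v • y ∈ O x := fun x hx =>
    ⟨(hO' x hx).1, (hO' x hx).2.1⟩
  have hRO : ∀ u ∈ R, ∀ x ∉ F, ∃ n : ℕ, ∀ y ∈ O x, u • y = v ^ n • y := fun u hu x hx =>
    (hO' x hx).2.2 u hu
  have hvpow : ∀ (n : ℕ) x, x ∉ F → v ^ n • x ∈ O x := by
    intro n
    induction n with
    | zero => intro x hx; simpa using (hO x hx).1
    | succ n ih => intro x hx; rw [pow_succ', mul_smul]; exact ((hO x hx).2 _ (ih x hx)).2.2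
  -- a global equality from equalities off `F`
  have hglobal : ∀ a ∈ R, ∀ b ∈ R, (∀ x ∉ F, a • x = b • x) → a = b := fun a ha b hb h =>
    FaithfulSMul.eq_of_smul_eq_smul (α := Ω) fun x => by
      by_cases hx : x ∈ F
      · rw [hRF a ha x hx, hRF b hb x hx]
      · exact h x hx
  have hzpow : ∀ (z : G), (∀ x ∉ F, z • x ∈ O x) → ∀ (m : ℕ), ∀ x ∉ F, z ^ m • x ∈ O x := by
    intro z hz m
    induction m with
    | zero => intro x hx; simpa using (hO x hx).1
    | succ m ih =>
      intro x hx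
      rw [pow_succ', mul_smul]
      obtain ⟨hyF, hyO, -⟩ := (hO x hx).2 _ (ih x hx)
      exact hyO ▸ hz _ hyF
  have hzinv : ∀ (z : G), (∀ x ∉ F, z • x ∈ O x) → ∀ x ∉ F, ∀ y ∈ O x, z⁻¹ • y ∈ O x := by
    intro z hz x hx y hy
    obtain ⟨hyF, hyO, -⟩ := (hO x hx).2 y hy
    obtain ⟨j, hj⟩ := (isOfFinOrder_of_finite z).mem_powers_iff_mem_zpowers.mpr
      (Subgroup.inv_mem _ (Subgroup.mem_zpowers z))
    change z ^ j = z⁻¹ at hj
    rw [← hj, ← hyO]
    exact hzpow z hz j y hyF
  -- multipliers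
  have hmult : ∀ z : G, (∀ u ∈ R, z * u * z⁻¹ ∈ R) → (∀ x ∉ F, z • x ∈ O x) → ∀ x ∉ F,
      ∃ j : ℕ, ¬ r ∣ j ∧ ∀ (n : ℕ), ∀ y ∈ O x, (z * v ^ n * z⁻¹) • y = v ^ (j * n) • y := by
    intro z hzR hzO x hx
    obtain ⟨j, hj⟩ := hRO _ (hzR v hvR) x hx
    refine ⟨j, fun hd => ?_, conj_smul_pow (fun y hy => hzinv z hzO x hx y hy)
      (fun y hy => ((hO x hx).2 y hy).2.2) hj⟩
    have h1 := hj x (hO x hx).1
    rw [smul_pow_eq_of_modEq (hpow x hx) (Nat.modEq_zero_iff_dvd.mpr hd), pow_zero, one_smul,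
      mul_smul, mul_smul, smul_eq_iff_eq_inv_smul] at h1
    exact hfix _ ((hO x hx).2 _ (hzinv z hzO x hx x (hO x hx).1)).1 h1
  -- the inverse of an element permuting `F`
  have hpermF : ∀ z : G, (∀ x ∉ F, z • x ∉ F) → ∀ y ∈ F, z • y ∈ F := by
    intro z hz y hy
    by_contra h
    have hsub : (univ \ F).image (z • ·) ⊆ univ \ F := fun w hw => by
      obtain ⟨x, hx, rfl⟩ := mem_image.mp hw
      simp only [mem_sdiff, mem_univ, true_and] at hx ⊢
      exact hz x hx
    have heq := eq_of_subset_of_card_le hsub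
      (by rw [card_image_of_injective _ (MulAction.injective z)])
    have this : z • y ∈ (univ \ F).image (z • ·) := by rw [heq]; simp [h]
    obtain ⟨x, hx, hxe⟩ := mem_image.mp this
    rw [MulAction.injective z hxe] at hx
    simp [hy] at hx
  -- powers of an element centralizing `v`
  have hfinal : ∀ z : G, (∀ x ∉ F, z • x ∈ O x) → z * v = v * z → ∀ x ∉ F, z ^ r • x = x :=
    fun z hz hc x hx => pow_fixes hrp hfix hpow hO hsize z hz hc hx
  rcases hk with ⟨rfl, hr3, -⟩ | ⟨rfl, hr3⟩
  · -- two orbits: a `3`-cycle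
    obtain ⟨g, hgσ, hgR, hgF, hgO⟩ := hnorm (eF.permCongr (finRotate 3))
    have hrot : ∀ (n : ℕ) (i : Fin 3), g ^ n • f i = f (i + (n : Fin 3)) := by
      intro n
      induction n with
      | zero => intro i; simp
      | succ n ih =>
        intro i
        rw [pow_succ', mul_smul, ih]
        have h := hgσ (eF (i + (n : Fin 3)))
        rw [Equiv.permCongr_apply, eF.symm_apply_apply, finRotate_succ_apply] at h
        refine h.trans ?_
        show f (i + (n : Fin 3) + 1) = _
        push_cast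
        rw [add_assoc]
    have hg2R : ∀ u ∈ R, g ^ 2 * u * (g ^ 2)⁻¹ ∈ R := fun u hu => by
      rw [show g ^ 2 * u * (g ^ 2)⁻¹ = g * (g * u * g⁻¹) * g⁻¹ by rw [pow_two]; group]
      exact hgR _ (hgR u hu)
    have hx2 : ∀ x ∉ F, g ^ 2 • x ∈ O x := fun x hx => by
      simpa [Nat.factorial] using hgO x hx
    set z := (g ^ 2) ^ (r - 1) with hz
    have hzR : ∀ m : ℕ, ∀ u ∈ R, (g ^ 2) ^ m * u * ((g ^ 2) ^ m)⁻¹ ∈ R := by
      intro m
      induction m with
      | zero => intro u hu; simpa using hu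
      | succ m ih =>
        intro u hu
        rw [pow_succ', show g ^ 2 * (g ^ 2) ^ m * u * (g ^ 2 * (g ^ 2) ^ m)⁻¹ =
          g ^ 2 * ((g ^ 2) ^ m * u * ((g ^ 2) ^ m)⁻¹) * (g ^ 2)⁻¹ by group]
        exact hg2R _ (ih u hu)
    have hzv : z * v * z⁻¹ = v := by
      refine hglobal _ (hzR _ v hvR) _ hvR fun x hx => ?_
      obtain ⟨j, hjr, hj⟩ := hmult (g ^ 2) hg2R hx2 x hx
      have hiter : ∀ m : ℕ, ∀ y ∈ O x, ((g ^ 2) ^ m * v * ((g ^ 2) ^ m)⁻¹) • y = v ^ (j ^ m) • y := by
        intro m
        induction m with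
        | zero => intro y _; simp
        | succ m ih =>
          intro y hy
          rw [pow_succ', show g ^ 2 * (g ^ 2) ^ m * v * (g ^ 2 * (g ^ 2) ^ m)⁻¹ =
            g ^ 2 * ((g ^ 2) ^ m * v * ((g ^ 2) ^ m)⁻¹) * (g ^ 2)⁻¹ by group, mul_smul, mul_smul,
            ih _ (hzinv _ hx2 x hx y hy), pow_succ' j m, ← hj (j ^ m) y hy, mul_smul, mul_smul]
      rw [hiter (r - 1) x (hO x hx).1]
      have hmod : j ^ (r - 1) ≡ 1 [MOD r] := by
        rw [← Nat.totient_prime hrp]
        exact Nat.ModEq.pow_totient ((hrp.coprime_iff_not_dvd.mpr hjr).symm)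
      rw [smul_pow_eq_of_modEq (hpow x hx) hmod, pow_one]
    have hzv' : z * v = v * z := by
      conv_rhs => rw [← hzv]
      group
    have hw := hfinal z (hzpow _ hx2 (r - 1)) hzv'
    rw [hz, ← pow_mul, ← pow_mul, ← mul_assoc] at hw
    set N := 2 * (r - 1) * r with hN
    have hN1 : (N : Fin 3) = 1 := by
      apply Fin.ext
      rw [Fin.val_natCast, hN, Nat.mul_mod, Nat.mul_mod 2, show (r - 1) % 3 = 1 by omega, hr3]
      rfl
    have hw3 : ∀ i : Fin 3, g ^ N • f i = f (i + 1) := fun i => by rw [hrot, hN1]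
    refine alt_le_of_three hprim (a := f 0) (b := f 1) (c := f 2) (f.injective.ne (by decide))
      (f.injective.ne (by decide)) (f.injective.ne (by decide)) (g ^ N) (hw3 0) (hw3 1)
      (hw3 2) fun x h0 h1 h2 => hw x fun hxF => ?_
    obtain ⟨i, rfl⟩ := hFf x hxF
    fin_cases i
    · exact h0 rfl
    · exact h1 rfl
    · exact h2 rfl
  · -- three orbits: a double transposition
    by_contra halt
    obtain ⟨a, haσ, haR, haF, haO⟩ := hnorm (eF.permCongr (finRotate 4))
    obtain ⟨g, hgσ, hgR, hgF, -⟩ := hnorm (eF.permCongr (Equiv.swap 0 1))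
    have ha1 : ∀ i : Fin 4, a • f i = f (i + 1) := fun i => by
      have h := haσ (eF i)
      rw [Equiv.permCongr_apply, eF.symm_apply_apply, finRotate_succ_apply] at h
      exact h
    have hg1 : ∀ i : Fin 4, g • f i = f (Equiv.swap 0 1 i) := fun i => by
      have h := hgσ (eF i)
      rw [Equiv.permCongr_apply, eF.symm_apply_apply] at h
      exact h
    set x6 := a ^ 6 with hx6
    have hxf : ∀ i : Fin 4, x6 • f i = f (i + 2) := by
      intro i
      simp only [hx6, pow_succ, pow_zero, one_mul, mul_smul, ha1]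
      congr 1
      revert i
      decide
    have hxO : ∀ x ∉ F, x6 • x ∈ O x := fun x hx => by
      simpa [hx6, Nat.factorial] using haO x hx
    have hxR : ∀ u ∈ R, x6 * u * x6⁻¹ ∈ R := by
      have hm : ∀ m : ℕ, ∀ u ∈ R, a ^ m * u * (a ^ m)⁻¹ ∈ R := by
        intro m
        induction m with
        | zero => intro u hu; simpa using hu
        | succ m ih =>
          intro u hu
          rw [pow_succ', show a * a ^ m * u * (a * a ^ m)⁻¹ = a * (a ^ m * u * (a ^ m)⁻¹) * a⁻¹ by
            group]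
          exact haR _ (ih u hu)
      exact hm 6
    choose J hJr hJ using hmult x6 hxR hxO
    have hJO : ∀ x (hx : x ∉ F), ∀ y (hy : y ∉ F), O x = O y → J x hx ≡ J y hy [MOD r] := by
      intro x hx y hy hOxy
      have hxy : x ∈ O y := hOxy ▸ (hO x hx).1
      have h1 := hJ x hx 1 x (hO x hx).1
      have h2 := hJ y hy 1 x hxy
      rw [h1, mul_one, mul_one] at h2
      by_contra hne
      wlog hlt : J x hx % r < J y hy % r generalizing x y
      · refine this y hy x hx hOxy.symm (hOxy.symm ▸ (hO y hy).1) (hJ y hy 1 y (hO y hy).1)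
          ?_ (fun h => hne h.symm) ?_
        · have h3 := hJ x hx 1 y (hOxy.symm ▸ (hO y hy).1)
          have h4 := hJ y hy 1 y (hO y hy).1
          rw [h4, mul_one, mul_one] at h3
          exact h3
        · have : J x hx % r ≠ J y hy % r := hne
          omega
      set d := J y hy % r - J x hx % r
      have hd : v ^ d • x = x := by
        apply MulAction.injective (v ^ (J x hx % r))
        show v ^ (J x hx % r) • v ^ d • x = v ^ (J x hx % r) • x
        rw [← mul_smul, ← pow_add, show J x hx % r + d = J y hy % r by omega,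
          smul_pow_eq_of_modEq (hpow x hx) (Nat.mod_modEq (J y hy) r),
          smul_pow_eq_of_modEq (hpow x hx) (Nat.mod_modEq (J x hx) r)]
        exact h2.symm
      have hdr : d < r := lt_of_le_of_lt (Nat.sub_le _ _) (Nat.mod_lt _ hrp.pos)
      have hcop : d.Coprime r := ((hrp.coprime_iff_not_dvd).mpr
        fun hdv => absurd (Nat.le_of_dvd (by omega) hdv) (by omega)).symm
      obtain ⟨u, -, hu⟩ := Nat.exists_mul_mod_eq_one_of_coprime hcop hrp.one_lt
      have hk : ∀ k : ℕ, (v ^ d) ^ k • x = x := by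
        intro k
        induction k with
        | zero => simp
        | succ k ih => rw [pow_succ, mul_smul, hd, ih]
      have h3 := hk u
      rw [← pow_mul, smul_pow_eq_of_modEq (hpow x hx)
        (show d * u ≡ 1 [MOD r] by rw [Nat.ModEq, hu, Nat.one_mod_eq_one.mpr hrp.ne_one]),
        pow_one] at h3
      exact hfix x hx h3
    -- no element of `R` moves only one orbit
    have hsingle : ∀ u ∈ R, ∀ x ∉ F, (∀ y ∉ F, O y ≠ O x → u • y = y) → u • x = x := by
      intro u hu x hx hout
      by_contra hux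
      set σ := MulAction.toPermHom G Ω u
      have hsupp : (σ.support : Set Ω) ⊆ O x := by
        intro y hy
        simp only [mem_coe, Equiv.Perm.mem_support] at hy
        by_cases hyF : y ∈ F
        · exact absurd (hRF u hu y hyF) hy
        · by_contra hyO
          exact hy (hout y hyF fun h => hyO (h ▸ (hO y hyF).1))
      have hle : σ.support.card ≤ r := by
        rw [← Set.ncard_coe_finset, ← hsize x hx]
        exact Set.ncard_le_ncard hsupp (Set.toFinite _)
      obtain ⟨n, hn⟩ := hRO u hu x hx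
      have hur : σ ^ r = 1 := by
        ext y
        rw [← map_pow]
        show u ^ r • y = y
        by_cases hy : y ∈ σ.support
        · have hyO : y ∈ O x := hsupp hy
          have hm : ∀ m : ℕ, u ^ m • y = v ^ (n * m) • y := by
            intro m
            induction m with
            | zero => simp
            | succ m ih =>
              have hmem : v ^ (n * m) • y ∈ O x := by
                obtain ⟨hyF, hyeq, -⟩ := (hO x hx).2 y hyO
                exact hyeq ▸ hvpow _ y hyF
              rw [pow_succ', mul_smul, ih, hn _ hmem, ← mul_smul, ← pow_add]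
              congr 2
              ring
          rw [hm, smul_pow_eq_of_modEq (hpow y ((hO x hx).2 y hyO).1)
            (Nat.modEq_zero_iff_dvd.mpr (dvd_mul_left r n)), pow_zero, one_smul]
        · rw [Equiv.Perm.notMem_support] at hy
          have : ∀ m : ℕ, u ^ m • y = y := by
            intro m
            induction m with
            | zero => simp
            | succ m ih => rw [pow_succ, mul_smul, show u • y = y from hy, ih]
          exact this r
      have hord : orderOf σ = r :=
        orderOf_eq_prime hur fun h => hux (Equiv.congr_fun h x)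
      have hcyc : σ.IsCycle := Equiv.Perm.isCycle_of_prime_order (hord ▸ hrp)
        (by rw [hord]; have := hrp.pos; omega)
      exact halt (PermB.jordan_prime_cycle _ hprim hrp (by omega) hcyc
        (hcyc.orderOf.symm.trans hord) ⟨u, rfl⟩)
    -- so the multipliers of `x6` agree
    have hprod : ∀ x (hx : x ∉ F) y (hy : y ∉ F) z (hzF : z ∉ F),
        O x ≠ O y → O x ≠ O z → O y ≠ O z →
        ((J x hx : ZMod r) - J y hy) * ((J x hx : ZMod r) - J z hzF) = 0 := by
      intro x hx y hy z hzF hxy hxz hyz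
      set w1 := x6 * v * x6⁻¹ * v ^ (J y hy * (r - 1)) with hw1
      have hw1R : w1 ∈ R := R.mul_mem (hxR v hvR) (R.pow_mem hvR _)
      have hw1act : ∀ t (ht : t ∉ F), ∀ s ∈ O t,
          w1 • s = v ^ (J t ht + J y hy * (r - 1)) • s := by
        intro t ht s hs
        obtain ⟨hsF, hsO, -⟩ := (hO t ht).2 s hs
        rw [hw1, mul_smul]
        have h1 := hJ t ht 1 (v ^ (J y hy * (r - 1)) • s) (hsO ▸ hvpow _ s hsF)
        rw [pow_one, mul_one] at h1
        rw [h1, ← mul_smul, ← pow_add]
      set w2 := x6 * w1 * x6⁻¹ * w1 ^ (J z hzF * (r - 1)) with hw2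
      have hw2R : w2 ∈ R := R.mul_mem (hxR w1 hw1R) (R.pow_mem hw1R _)
      have hw2act : ∀ t (ht : t ∉ F), ∀ s ∈ O t,
          w2 • s = v ^ ((J t ht + J z hzF * (r - 1)) * (J t ht + J y hy * (r - 1))) • s := by
        intro t ht s hs
        set c := J t ht + J y hy * (r - 1) with hc
        have hin : ∀ n : ℕ, ∀ s ∈ O t, v ^ n • s ∈ O t := fun n s hs => by
          obtain ⟨hsF, hsO, -⟩ := (hO t ht).2 s hs
          exact hsO ▸ hvpow _ s hsF
        have hpw : ∀ m : ℕ, ∀ s ∈ O t, w1 ^ m • s = v ^ (c * m) • s := by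
          intro m
          induction m with
          | zero => intro s _; simp
          | succ m ih =>
            intro s hs
            rw [pow_succ, mul_smul, hw1act t ht s hs, ih _ (hin c s hs), ← mul_smul, ← pow_add]
            congr 2
        rw [hw2, mul_smul, hpw _ s hs]
        set s' := v ^ (c * (J z hzF * (r - 1))) • s with hs'
        have hs'O : s' ∈ O t := hin _ s hs
        have hback : x6⁻¹ • s' ∈ O t := hzinv x6 hxO t ht s' hs'O
        rw [mul_smul, mul_smul, hw1act t ht _ hback, ← mul_smul (x6), ← mul_smul,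
          hJ t ht c s' hs'O, hs', ← mul_smul, ← pow_add]
        congr 2
        ring
      have hcast : ∀ t (ht : t ∉ F),
          (((J t ht + J z hzF * (r - 1)) * (J t ht + J y hy * (r - 1)) : ℕ) : ZMod r) =
          ((J t ht : ZMod r) - J z hzF) * ((J t ht : ZMod r) - J y hy) := fun t ht => by
        push_cast [Nat.cast_sub hrp.one_le]
        rw [ZMod.natCast_self]
        ring
      have htriv : w2 • x = x := hsingle w2 hw2R x hx fun t ht hne => by
        rw [hw2act t ht t (hO t ht).1]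
        have h0 : (((J t ht + J z hzF * (r - 1)) * (J t ht + J y hy * (r - 1)) : ℕ) : ZMod r) = 0 := by
          rw [hcast]
          rcases hthree x hx y hy z hzF hk3 hxy hxz hyz t ht with h | h | h
          · exact absurd h hne
          · rw [show (J t ht : ZMod r) = J y hy from (ZMod.natCast_eq_natCast_iff _ _ _).mpr
              (hJO t ht y hy h)]
            ring
          · rw [show (J t ht : ZMod r) = J z hzF from (ZMod.natCast_eq_natCast_iff _ _ _).mpr
              (hJO t ht z hzF h)]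
            ring
        rw [smul_pow_eq_of_modEq (hpow t ht) (Nat.modEq_zero_iff_dvd.mpr
          ((ZMod.natCast_eq_zero_iff _ _).mp h0)), pow_zero, one_smul]
      rw [hw2act x hx x (hO x hx).1] at htriv
      set M := (J x hx + J z hzF * (r - 1)) * (J x hx + J y hy * (r - 1))
      have hM : (M : ZMod r) = 0 := by
        by_contra hM
        have hcop : M.Coprime r := ((hrp.coprime_iff_not_dvd).mpr
          fun hdv => hM ((ZMod.natCast_eq_zero_iff _ _).mpr hdv)).symm
        obtain ⟨u, -, hu⟩ := Nat.exists_mul_mod_eq_one_of_coprime hcop hrp.one_lt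
        have hk : ∀ k : ℕ, (v ^ M) ^ k • x = x := by
          intro k
          induction k with
          | zero => simp
          | succ k ih => rw [pow_succ, mul_smul, htriv, ih]
        have h3 := hk u
        rw [← pow_mul, smul_pow_eq_of_modEq (hpow x hx)
          (show M * u ≡ 1 [MOD r] by rw [Nat.ModEq, hu, Nat.one_mod_eq_one.mpr hrp.ne_one]),
          pow_one] at h3
        exact hfix x hx h3
      rw [hcast] at hM
      linear_combination hM
    -- three representatives
    obtain ⟨x, hx, y, hy, z, hzF, hxy, hxz, hyz⟩ : ∃ x, x ∉ F ∧ ∃ y, y ∉ F ∧ ∃ z, z ∉ F ∧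
        O x ≠ O y ∧ O x ≠ O z ∧ O y ≠ O z := by
      have hcD : (univ \ F).card = 3 * r := by
        rw [card_sdiff_of_subset (subset_univ _), card_univ, hcard, hF, card_map, card_univ,
          Fintype.card_fin]
        omega
      have hfew : ∀ S : Finset Ω, S.card ≤ 2 → S ⊆ univ \ F →
          ∃ z, z ∉ F ∧ ∀ s ∈ S, O s ≠ O z := by
        intro S hS hSF
        by_contra hno
        push Not at hno
        have hsub : ((univ \ F : Finset Ω) : Set Ω) ⊆ ⋃ s ∈ S, O s := by
          intro z hz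
          simp only [coe_sdiff, coe_univ, Set.mem_sdiff, Set.mem_univ, true_and, mem_coe] at hz
          obtain ⟨s, hs, he⟩ := hno z hz
          exact Set.mem_biUnion hs (he ▸ (hO z hz).1)
        have h1 := Set.ncard_le_ncard hsub (Set.toFinite _)
        rw [Set.ncard_coe_finset, hcD] at h1
        have h2 := S.set_ncard_biUnion_le O
        rw [sum_congr rfl (fun s hs => hsize s (by simpa using hSF hs)), sum_const, smul_eq_mul] at h2
        have h3 : S.card * r ≤ 2 * r := Nat.mul_le_mul_right r hS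
        have := hrp.pos
        omega
      obtain ⟨x, hx, -⟩ := hfew ∅ (by simp) (empty_subset _)
      obtain ⟨y, hy, hxy⟩ := hfew {x} (by simp) (by simp [hx])
      obtain ⟨z, hzF, hz⟩ := hfew {x, y} Finset.card_le_two (by simp [insert_subset_iff, hx, hy])
      exact ⟨x, hx, y, hy, z, hzF, hxy x (by simp), hz x (by simp), hz y (by simp)⟩
    have p1 := hprod x hx y hy z hzF hxy hxz hyz
    have p2 := hprod y hy x hx z hzF hxy.symm hyz hxz
    have p3 := hprod z hzF x hx y hy hxz.symm hyz.symm hxy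
    have e1 : (J y hy : ZMod r) = J x hx := by
      have : ((J x hx : ZMod r) - J y hy) * ((J x hx : ZMod r) - J y hy) = 0 := by
        linear_combination p1 + p2
      exact (sub_eq_zero.mp (mul_self_eq_zero.mp this)).symm
    have e2 : (J z hzF : ZMod r) = J x hx := by
      have : ((J x hx : ZMod r) - J z hzF) * ((J x hx : ZMod r) - J z hzF) = 0 := by
        linear_combination p1 + p3
      exact (sub_eq_zero.mp (mul_self_eq_zero.mp this)).symm
    set Jc := J x hx
    have hJc : ∀ t (ht : t ∉ F), J t ht ≡ Jc [MOD r] := by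
      intro t ht
      rcases hthree x hx y hy z hzF hk3 hxy hxz hyz t ht with h | h | h
      · exact hJO t ht x hx h
      · exact (hJO t ht y hy h).trans ((ZMod.natCast_eq_natCast_iff _ _ _).mp e1)
      · exact (hJO t ht z hzF h).trans ((ZMod.natCast_eq_natCast_iff _ _ _).mp e2)
    have hxu : ∀ u ∈ R, x6 * u * x6⁻¹ = u ^ Jc := by
      intro u hu
      refine hglobal _ (hxR u hu) _ (R.pow_mem hu _) fun t ht => ?_
      obtain ⟨n, hn⟩ := hRO u hu t ht
      have hback := hzinv x6 hxO t ht t (hO t ht).1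
      have h1 : (x6 * u * x6⁻¹) • t = (x6 * v ^ n * x6⁻¹) • t := by
        rw [mul_smul, mul_smul, hn _ hback, mul_smul, mul_smul]
      have h2 : ∀ m : ℕ, u ^ m • t = v ^ (n * m) • t := by
        intro m
        induction m with
        | zero => simp
        | succ m ih =>
          rw [pow_succ', mul_smul, ih, hn _ (hvpow _ t ht), ← mul_smul, ← pow_add]
          congr 2
          ring
      rw [h1, hJ t ht n t (hO t ht).1, h2]
      exact smul_pow_eq_of_modEq (hpow t ht) (by
        rw [mul_comm n Jc]; exact (hJc t ht).mul_right n)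
    set y' := g * x6 * g⁻¹ * x6⁻¹ with hy'
    have hgsurj : ∀ u ∈ R, ∃ u' ∈ R, g * u' * g⁻¹ = u := by
      intro u hu
      have hinj : Function.Injective fun w : R => (⟨g * w * g⁻¹, hgR w w.2⟩ : R) := fun a b h =>
        Subtype.ext (mul_left_cancel (mul_right_cancel (congrArg Subtype.val h)))
      obtain ⟨w, hw⟩ := (Finite.injective_iff_surjective.mp hinj) ⟨u, hu⟩
      exact ⟨w, w.2, congrArg Subtype.val hw⟩
    obtain ⟨J', -, hJ'⟩ := Nat.exists_mul_mod_eq_one_of_coprime
      ((hrp.coprime_iff_not_dvd.mpr (hJr x hx)).symm) hrp.one_lt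
    have hy'c : y' * v = v * y' := by
      have h1 : ∀ u ∈ R, y' * u ^ Jc = u ^ Jc * y' := by
        intro u hu
        obtain ⟨u', hu', he⟩ := hgsurj u hu
        have h2 : g * x6 * g⁻¹ * u * (g * x6 * g⁻¹)⁻¹ = u ^ Jc := by
          rw [← he, conj_pow, ← hxu u' hu']; group
        have h3 : x6⁻¹ * u ^ Jc = u * x6⁻¹ := by rw [← hxu u hu]; group
        calc y' * u ^ Jc = g * x6 * g⁻¹ * (x6⁻¹ * u ^ Jc) := by rw [hy']; group
          _ = g * x6 * g⁻¹ * u * (g * x6 * g⁻¹)⁻¹ * y' := by rw [h3, hy']; group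
          _ = u ^ Jc * y' := by rw [h2]
      have hv' : (v ^ J') ^ Jc = v := by
        refine hglobal _ (R.pow_mem (R.pow_mem hvR _) _) _ hvR fun t ht => ?_
        rw [← pow_mul]
        conv_rhs => rw [← pow_one v]
        exact smul_pow_eq_of_modEq (hpow t ht)
          (by rw [Nat.ModEq, mul_comm, hJ', Nat.one_mod_eq_one.mpr hrp.ne_one])
      rw [← hv']
      exact h1 _ (R.pow_mem hvR _)
    have hgO : ∀ t ∉ F, ∀ s ∈ O t, g • s ∈ O (g • t) := by
      intro t ht s hs
      obtain ⟨n, rfl⟩ := exists_pow_smul_eq hrp hfix hpow hO hsize ht hs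
      obtain ⟨m, hm⟩ := hRO _ (hgR _ (R.pow_mem hvR n)) (g • t) (hgF t ht)
      have := hm (g • t) (hO _ (hgF t ht)).1
      rw [mul_smul, mul_smul, inv_smul_smul] at this
      rw [this]
      exact hvpow _ _ (hgF t ht)
    have hginvF : ∀ t ∉ F, g⁻¹ • t ∉ F := by
      intro t ht h
      apply ht
      simpa using hpermF g hgF _ h
    have hy'O : ∀ t ∉ F, y' • t ∈ O t := by
      intro t ht
      have h1 := hzinv x6 hxO t ht t (hO t ht).1
      obtain ⟨h1F, h1O, -⟩ := (hO t ht).2 _ h1
      set s := x6⁻¹ • t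
      have h2 := hgO _ (hginvF s h1F) _ (hxO _ (hginvF s h1F))
      rw [smul_inv_smul, h1O] at h2
      rw [hy', mul_smul, mul_smul, mul_smul]
      exact h2
    have hw := hfinal y' hy'O hy'c
    -- its effect on `F`
    have hx6inv : ∀ i : Fin 4, x6⁻¹ • f i = f (i + 2) := fun i => by
      rw [inv_smul_eq_iff, hxf, add_assoc, show (2 : Fin 4) + 2 = 0 by decide, add_zero]
    have hginv : ∀ i : Fin 4, g⁻¹ • f i = f (Equiv.swap 0 1 i) := fun i => by
      rw [inv_smul_eq_iff, hg1, Equiv.swap_apply_self]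
    have hyf : ∀ i : Fin 4, y' • f i = f (![1, 0, 3, 2] i) := by
      intro i
      rw [hy', mul_smul, mul_smul, mul_smul, hx6inv, hginv, hxf, hg1]
      congr 1
      revert i
      decide
    have hrodd : Odd r := hrp.odd_of_ne_two (by omega)
    have hwf : ∀ i : Fin 4, y' ^ r • f i = f (![1, 0, 3, 2] i) := by
      obtain ⟨m, hm⟩ := hrodd
      intro i
      rw [hm, pow_succ, mul_smul, hyf, pow_mul]
      have h2 : ∀ j : Fin 4, y' ^ 2 • f j = f j := fun j => by
        rw [pow_two, mul_smul, hyf, hyf]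
        congr 1
        revert j
        decide
      generalize ![1, 0, 3, 2] i = j
      clear hm
      induction m with
      | zero => simp
      | succ m ih => rw [pow_succ, mul_smul, h2, ih]
    set w1 := y' ^ r with hw1
    -- conjugate it to share three points
    obtain ⟨d, hd⟩ : ∃ d, d ∉ F := ⟨x, hx⟩
    obtain ⟨h, hh⟩ := htr 5 le_rfl
      ⟨Fin.snoc f d, Fin.snoc_injective_iff.mpr ⟨f.injective, fun ⟨i, hi⟩ => hd (hi ▸ hfF i)⟩⟩
      ⟨(Fin.snoc f d : Fin 5 → Ω) ∘ Equiv.swap 3 4,
        (Fin.snoc_injective_iff.mpr ⟨f.injective, fun ⟨i, hi⟩ => hd (hi ▸ hfF i)⟩).comp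
          (Equiv.injective _)⟩
    have e0 : h • f 0 = f 0 := hh 0
    have e1' : h • f 1 = f 1 := hh 1
    have e2' : h • f 2 = f 2 := hh 2
    have e3 : h • f 3 = d := hh 3
    have e4 : h • d = f 3 := hh 4
    have w2a : ∀ s : Ω, (h * w1 * h⁻¹) • (h • s) = h • w1 • s := fun s => by
      rw [mul_smul, mul_smul, inv_smul_smul]
    have f0 : (h * w1 * h⁻¹) • f 0 = f 1 := by
      conv_lhs => rw [← e0, w2a, hwf]
      exact e1'
    have f1 : (h * w1 * h⁻¹) • f 1 = f 0 := by
      conv_lhs => rw [← e1', w2a, hwf]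
      exact e0
    have f2 : (h * w1 * h⁻¹) • f 2 = d := by
      conv_lhs => rw [← e2', w2a, hwf]
      exact e3
    have f3 : (h * w1 * h⁻¹) • d = f 2 := by
      conv_lhs => rw [← e3, w2a, hwf]
      exact e2'
    have f4 : (h * w1 * h⁻¹) • f 3 = f 3 := by
      conv_lhs => rw [← e4, w2a, hw d hd]
      exact e4
    have hd2 : d ≠ f 2 := fun e => hd (e ▸ hfF 2)
    have hd3 : d ≠ f 3 := fun e => hd (e ▸ hfF 3)
    refine halt (alt_le_of_three hprim (a := f 2) (b := d) (c := f 3) hd2.symm
      (f.injective.ne (by decide)) hd3 (w1 * (h * w1 * h⁻¹)) ?_ ?_ ?_ fun s h2 hdd h3 => ?_)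
    · rw [mul_smul, f2]; exact hw d hd
    · rw [mul_smul, f3, hwf]; rfl
    · rw [mul_smul, f4, hwf]; rfl
    · rw [mul_smul]
      by_cases hsF : s ∈ F
      · obtain ⟨i, rfl⟩ := hFf s hsF
        fin_cases i
        · show w1 • (h * w1 * h⁻¹) • f 0 = f 0
          rw [f0, hwf]; rfl
        · show w1 • (h * w1 * h⁻¹) • f 1 = f 1
          rw [f1, hwf]; rfl
        · exact absurd rfl h2
        · exact absurd rfl h3
      · have hs : h⁻¹ • s ∉ F := by
          intro hh'
          obtain ⟨i, hi⟩ := hFf _ hh'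
          have hsi : s = h • f i := by rw [hi, smul_inv_smul]
          fin_cases i
          · exact hsF (hsi ▸ e0.symm ▸ hfF 0)
          · exact hsF (hsi ▸ e1'.symm ▸ hfF 1)
          · exact hsF (hsi ▸ e2'.symm ▸ hfF 2)
          · exact hdd (hsi.trans e3)
        rw [show (h * w1 * h⁻¹) • s = h • w1 • (h⁻¹ • s) by rw [mul_smul, mul_smul],
          hw _ hs, smul_inv_smul, hw s hsF]

theorem iso_alternating {p : ℕ} [Fact p.Prime] [IsPretransitive G Ω] (hp5 : 5 ≤ p)
    (hcard : Fintype.card Ω = p) (P : Sylow p G)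
    (hN : 2 * Nat.card ↥(Subgroup.normalizer ((P : Subgroup G) : Set G)) = p * (p - 1))
    (h : alternatingGroup Ω ≤ (MulAction.toPermHom G Ω).range) :
    Nonempty (G ≃* alternatingGroup (Fin p)) := by
  classical
  have hπ : Function.Injective (MulAction.toPermHom G Ω) := fun x y e =>
    FaithfulSMul.eq_of_smul_eq_smul (α := Ω) fun z => Equiv.congr_fun e z
  have hr : (MulAction.toPermHom G Ω).range = alternatingGroup Ω := by
    refine le_antisymm ?_ h
    rintro _ ⟨g, rfl⟩
    rw [Equiv.Perm.mem_alternatingGroup]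
    by_contra hs
    obtain ⟨a, b, hab⟩ := Fintype.exists_pair_of_one_lt_card (α := Ω) (by omega)
    have hswap : Equiv.swap a b * (MulAction.toPermHom G Ω g)⁻¹ ∈ alternatingGroup Ω := by
      rw [Equiv.Perm.mem_alternatingGroup, map_mul, map_inv, Equiv.Perm.sign_swap hab]
      rcases Int.units_eq_one_or (Equiv.Perm.sign (MulAction.toPermHom G Ω g)) with e | e
      · exact absurd e hs
      · rw [e]; rfl
    obtain ⟨k, hk⟩ := h hswap
    refine not_isSwap hp5 hcard P hN (k * g) ⟨a, b, hab, ?_⟩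
    show MulAction.toPermHom G Ω (k * g) = _
    rw [map_mul, hk, inv_mul_cancel_right]
  exact ⟨(MonoidHom.ofInjective hπ).trans ((MulEquiv.subgroupCongr hr).trans
    (Equiv.altCongrHom ((Fintype.equivFin Ω).trans (finCongr hcard))))⟩

end Cfsg.Agent.OddLocal44.Twin
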