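import Cfsg.Agent.PermB.JordanPrime

/-!
# Quintuply transitive groups of degree `k r + k + 1` (`k = 2, 3`, `r` prime) contain the
alternating group

A Sylow `r`-subgroup of the stabilizer of `k + 1` points has `k` orbits off them; its normalizer
induces the full symmetric group on the fixed points, and a suitable element of it centralizes a
semiregular element, so that a power of it is a `3`-cycle or a double transposition.
-/

set_option autoImplicit false

open MulAction Finset
open scoped Pointwise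

namespace Cfsg.Agent.OddLocal44.Twin

variable {G Ω : Type*} [Group G] [MulAction G Ω]

theorem conj_smul_pow {y v : G} {O : Set Ω} (hyO : ∀ x ∈ O, y⁻¹ • x ∈ O) (hvO : ∀ x ∈ O, v • x ∈ O)
    {j : ℕ} (h : ∀ x ∈ O, (y * v * y⁻¹) • x = v ^ j • x) (n : ℕ) :
    ∀ x ∈ O, (y * v ^ n * y⁻¹) • x = v ^ (j * n) • x := by
  intro x hx
  rw [pow_mul, ← conj_pow]
  clear hyO
  induction n generalizing x with
  | zero => simp
  | succ n ih =>
    have hpow : ∀ (m : ℕ), ∀ x ∈ O, v ^ m • x ∈ O := by
      intro m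
      induction m with
      | zero => intro x hx; simpa using hx
      | succ m ihm => intro x hx; rw [pow_succ', mul_smul]; exact hvO _ (ihm x hx)
    rw [pow_succ, pow_succ, mul_smul, mul_smul ((v ^ j) ^ n), h x hx]
    exact ih _ (hpow j x hx)

theorem smul_pow_eq_of_modEq {v : G} {x : Ω} {r : ℕ} (hv : v ^ r • x = x) {a b : ℕ}
    (h : a ≡ b [MOD r]) : v ^ a • x = v ^ b • x := by
  have hk : ∀ k : ℕ, (v ^ r) ^ k • x = x := by
    intro k
    induction k with
    | zero => simp
    | succ k ih => rw [pow_succ, mul_smul, hv, ih]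
  have key : ∀ a, v ^ a • x = v ^ (a % r) • x := fun a => by
    conv_lhs => rw [← Nat.mod_add_div a r, pow_add, mul_smul, pow_mul, hk]
  rw [key a, key b, h]

section

variable [Finite G] [FaithfulSMul G Ω] [Fintype Ω] [DecidableEq Ω]

/-- The data extracted from a Sylow subgroup of the pointwise stabilizer of `F`. -/
theorem exists_semiregular_and_normalizer (k r : ℕ) [hr : Fact r.Prime] (hkr : k < r)
    (F : Finset Ω) (hFk : F.card = k + 1) (hcard : Fintype.card Ω = k * r + (k + 1))
    (htrans : ∀ x ∉ F, ∀ y ∉ F, ∃ g : G, (∀ z ∈ F, g • z = z) ∧ g • x = y)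
    (hsym : ∀ σ : Equiv.Perm F, ∃ g : G, ∀ z : F, g • (z : Ω) = (σ z : Ω)) :
    ∃ (R : Subgroup G) (v : G) (O : Ω → Set Ω),
      v ∈ R ∧ (∀ u ∈ R, ∀ z ∈ F, u • z = z) ∧
      (∀ x ∉ F, v • x ≠ x) ∧ (∀ x ∉ F, v ^ r • x = x) ∧
      (∀ x ∉ F, x ∈ O x ∧ (∀ y ∈ O x, y ∉ F ∧ O y = O x ∧ v • y ∈ O x) ∧
        ∀ u ∈ R, ∃ n : ℕ, ∀ y ∈ O x, u • y = v ^ n • y) ∧
      (∀ σ : Equiv.Perm F, ∃ g : G, (∀ z : F, g • (z : Ω) = (σ z : Ω)) ∧
        (∀ u ∈ R, g * u * g⁻¹ ∈ R) ∧ (∀ x ∉ F, g • x ∉ F) ∧
        ∀ x ∉ F, g ^ k.factorial • x ∈ O x) ∧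
      (∀ x ∉ F, (O x).ncard = r) ∧
      ∀ x ∉ F, ∀ y ∉ F, ∀ z ∉ F, k ≤ 3 → O x ≠ O y → O x ≠ O z → O y ≠ O z →
        ∀ w ∉ F, O w = O x ∨ O w = O y ∨ O w = O z := by
  classical
  have hrp : r.Prime := hr.out
  let NF : Subgroup G := stabilizer G F
  have hNF : ∀ g ∈ NF, ∀ z, g • z ∈ F ↔ z ∈ F := by
    intro g hg z
    have h : g • F = F := hg
    conv_lhs => rw [← h]
    rw [Finset.smul_mem_smul_finset_iff]
  let ρ : NF →* Equiv.Perm F :=
    MonoidHom.mk' (fun g =>
      { toFun := fun z => ⟨(g : G) • (z : Ω), (hNF g g.2 z).mpr z.2⟩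
        invFun := fun z => ⟨(g : G)⁻¹ • (z : Ω), by
          rw [← hNF g g.2, smul_inv_smul]; exact z.2⟩
        left_inv := fun z => Subtype.ext (inv_smul_smul _ _)
        right_inv := fun z => Subtype.ext (smul_inv_smul _ _) })
      (fun g h => Equiv.ext fun z => Subtype.ext (mul_smul (g : G) (h : G) (z : Ω)))
  have hρsurj : Function.Surjective ρ := by
    intro σ
    obtain ⟨g, hg⟩ := hsym σ
    have hgF : g • F = F := by
      refine eq_of_subset_of_card_le (fun y hy => ?_) (by rw [card_smul_finset])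
      obtain ⟨z, hz, rfl⟩ := mem_smul_finset.mp hy
      rw [hg ⟨z, hz⟩]
      exact (σ ⟨z, hz⟩).2
    exact ⟨⟨g, hgF⟩, Equiv.ext fun z => Subtype.ext (hg z)⟩
  set H0 : Subgroup NF := ρ.ker with hH0
  have hH0mem : ∀ {g : NF}, g ∈ H0 ↔ ∀ z ∈ F, (g : G) • z = z := by
    intro g
    rw [hH0, MonoidHom.mem_ker, Equiv.ext_iff]
    exact ⟨fun h z hz => congrArg Subtype.val (h ⟨z, hz⟩), fun h z => Subtype.ext (h z z.2)⟩
  let R0 : Sylow r H0 := default
  let ι : H0 →* G := NF.subtype.comp H0.subtype
  let R : Subgroup G := (R0 : Subgroup H0).map ι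
  have hι : Function.Injective ι := Subtype.val_injective.comp Subtype.val_injective
  have hRF : ∀ u ∈ R, ∀ z ∈ F, u • z = z := by
    rintro _ ⟨u, -, rfl⟩ z hz
    exact hH0mem.mp u.2 z hz
  have hRp : IsPGroup r R := R0.2.map ι
  have hR0R : ∀ (u : H0), ι u ∈ R → u ∈ (R0 : Subgroup H0) := by
    rintro u ⟨w, hw, hwu⟩
    exact hι hwu ▸ hw
  have hH0trans : ∀ x ∉ F, ∀ y ∉ F, ∃ g : H0, ι g • x = y := by
    intro x hx y hy
    obtain ⟨g, hgF, hgx⟩ := htrans x hx y hy
    have hgN : g • F = F := by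
      refine eq_of_subset_of_card_le (fun w hw => ?_) (by rw [card_smul_finset])
      obtain ⟨z, hz, rfl⟩ := mem_smul_finset.mp hw
      rw [hgF z hz]; exact hz
    exact ⟨⟨⟨g, hgN⟩, hH0mem.mpr hgF⟩, hgx⟩
  have hDcard : (univ \ F).card = k * r := by
    rw [card_sdiff_of_subset (subset_univ _), card_univ, hcard, hFk]; omega
  -- the orbits of `R`
  let O : Ω → Set Ω := fun x => MulAction.orbit R x
  have hOF : ∀ x ∉ F, ∀ y ∈ O x, y ∉ F := by
    rintro x hx _ ⟨u, rfl⟩ hy
    have h1 : (u : G)⁻¹ • ((u : G) • x) = (u : G) • x :=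
      hRF _ (R.inv_mem u.2) _ hy
    rw [inv_smul_smul] at h1
    exact hx (h1.symm ▸ hy)
  have horbsize : ∀ x ∉ F, (O x).ncard = r := by
    intro x hx
    obtain ⟨n, hn⟩ := hRp.index (stabilizer R x)
    have hidx : (stabilizer R x).index = (O x).ncard := index_stabilizer (G := R) x
    have hle : (O x).ncard ≤ k * r := by
      rw [← hDcard, ← Set.ncard_coe_finset]
      exact Set.ncard_le_ncard (fun y hy => by simpa using hOF x hx y hy) (Finset.finite_toSet _)
    rcases n with _ | _ | n
    · -- `R` would fix `x`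
      exfalso
      let S : Subgroup H0 := (stabilizer G x).comap ι
      have hle' : (R0 : Subgroup H0) ≤ S := by
        intro u hu
        have h1 : stabilizer R x = ⊤ := by rw [← Subgroup.index_eq_one, hn, pow_zero]
        have h2 : (⟨ι u, u, hu, rfl⟩ : R) ∈ stabilizer R x := h1 ▸ Subgroup.mem_top _
        exact h2
      letI : MulAction H0 Ω := MulAction.compHom Ω ι
      have hS : S.index = k * r := by
        rw [show S = stabilizer H0 x from rfl, index_stabilizer, ← hDcard, ← Set.ncard_coe_finset]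
        congr 1
        ext y
        simp only [Finset.coe_sdiff, Finset.coe_univ, Set.mem_sdiff, Set.mem_univ, true_and,
          Finset.mem_coe]
        constructor
        · rintro ⟨g, rfl⟩ hy
          have h1 := hH0mem.mp (H0.inv_mem g.2) _ hy
          have h2 : (g : G)⁻¹ • (g : G) • x = (g : G) • x := h1
          rw [inv_smul_smul] at h2
          exact hx (h2.symm ▸ hy)
        · intro hy
          obtain ⟨g, hg⟩ := hH0trans x hx y hy
          exact ⟨g, hg⟩
      exact R0.not_dvd_index ((Dvd.intro_left k hS.symm).trans (Subgroup.index_dvd_of_le hle'))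
    · rw [← hidx, hn, zero_add, pow_one]
    · exfalso
      rw [hn] at hidx
      have h1 : r ^ 2 ≤ r ^ (n + 1 + 1) := Nat.pow_le_pow_right hrp.pos (by omega)
      have h2 : k * r < r * r := Nat.mul_lt_mul_of_pos_right hkr hrp.pos
      rw [pow_two] at h1
      omega
  have hnormal : ∀ x ∉ F, (stabilizer R x).Normal := by
    intro x hx
    apply Subgroup.normal_of_index_eq_minFac_card
    obtain ⟨n, hn⟩ := IsPGroup.iff_card.mp hRp
    have hidx : (stabilizer R x).index = r := by rw [index_stabilizer]; exact horbsize x hx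
    rcases n with _ | n
    · exfalso
      have := Subgroup.index_dvd_card (stabilizer R x)
      rw [hidx, hn, pow_zero] at this
      exact hrp.ne_one (Nat.eq_one_of_dvd_one this)
    · rw [hidx, hn, Nat.pow_minFac (Nat.succ_ne_zero n), hrp.minFac_eq]
  have hstab : ∀ x ∉ F, ∀ y ∈ O x, stabilizer R y = stabilizer R x := by
    rintro x hx _ ⟨u, rfl⟩
    ext w
    haveI := hnormal x hx
    rw [show w ∈ stabilizer R (u • x) ↔ u⁻¹ * w * u ∈ stabilizer R x by
      simp only [mem_stabilizer_iff, mul_smul, inv_smul_eq_iff]]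
    rw [← Subgroup.Normal.mem_comm_iff (hnormal x hx), ← mul_assoc, mul_inv_cancel, one_mul]
  -- a semiregular element
  let Orbs : Finset (Set Ω) := (univ \ F).image O
  have hOrbs : Orbs.card = k := by
    have hfib : ∀ o ∈ Orbs, ((univ \ F).filter fun x => O x = o).card = r := by
      intro o ho
      obtain ⟨x, hx, rfl⟩ := mem_image.mp ho
      simp only [mem_sdiff, mem_univ, true_and] at hx
      rw [← horbsize x hx, ← Set.ncard_coe_finset]
      congr 1
      ext y
      simp only [coe_filter, mem_sdiff, mem_univ, true_and, Set.mem_ofPred_eq]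
      exact ⟨fun h => h.2 ▸ MulAction.mem_orbit_self y,
        fun h => ⟨hOF x hx y h, orbit_eq_iff.mpr h⟩⟩
    have h1 := card_eq_sum_card_image O (univ \ F)
    rw [sum_congr rfl hfib, sum_const, smul_eq_mul, hDcard] at h1
    exact (Nat.eq_of_mul_eq_mul_right hrp.pos h1).symm
  obtain ⟨v0, hv0⟩ : ∃ v : R, ∀ x ∉ F, v • x ≠ x := by
    by_contra hno
    push Not at hno
    haveI : Fintype R := Fintype.ofFinite R
    let f : Set Ω → Finset R := fun o => univ.filter fun u => ∀ y ∈ o, u • y = y
    have hsub : (univ : Finset R) ⊆ Orbs.biUnion f := by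
      intro u _
      obtain ⟨x, hx, hux⟩ := hno u
      refine mem_biUnion.mpr ⟨O x, mem_image_of_mem _ (by simp [hx]), ?_⟩
      simp only [f, mem_filter, mem_univ, true_and]
      intro y hy
      have : u ∈ stabilizer R y := (hstab x hx y hy).symm ▸ hux
      exact this
    have hbound : ∀ o ∈ Orbs, (f o).card * r ≤ Fintype.card R := by
      intro o ho
      obtain ⟨x, hx, rfl⟩ := mem_image.mp ho
      simp only [mem_sdiff, mem_univ, true_and] at hx
      have h1 : (f (O x)).card ≤ Nat.card (stabilizer R x) := by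
        rw [Nat.card_eq_fintype_card, Fintype.card_subtype]
        exact card_le_card fun u hu => by
          simp only [f, mem_filter, mem_univ, true_and] at hu ⊢
          exact hu x (MulAction.mem_orbit_self x)
      have h2 := (stabilizer R x).index_mul_card
      rw [show (stabilizer R x).index = r by rw [index_stabilizer]; exact horbsize x hx,
        Nat.card_eq_fintype_card (α := R)] at h2
      rw [← h2, mul_comm r]
      exact Nat.mul_le_mul_right r h1
    have h1 := card_le_card hsub
    rw [card_univ] at h1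
    have h2 := card_biUnion_le (s := Orbs) (t := f)
    have h3 : (∑ o ∈ Orbs, (f o).card) * r ≤ k * Fintype.card R := by
      rw [Finset.sum_mul]
      refine (sum_le_sum hbound).trans ?_
      rw [sum_const, smul_eq_mul, hOrbs]
    have h4 : 0 < Fintype.card R := Fintype.card_pos
    have h5 : Fintype.card R * r ≤ Fintype.card R * k := by
      rw [mul_comm _ k]
      exact (Nat.mul_le_mul_right r (h1.trans h2)).trans h3
    exact absurd (Nat.le_of_mul_le_mul_left h5 h4) (by omega)
  have hvr : ∀ x ∉ F, v0 ^ r ∈ stabilizer R x := by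
    intro x hx
    haveI := hnormal x hx
    have h := Subgroup.pow_index_mem (stabilizer R x) v0
    rwa [show (stabilizer R x).index = r by rw [index_stabilizer]; exact horbsize x hx] at h
  have hpowers : ∀ x ∉ F, ∀ u : R, ∃ n : ℕ, ∀ y ∈ O x, u • y = v0 ^ n • y := by
    intro x hx u
    haveI := hnormal x hx
    have hq : Nat.card (R ⧸ stabilizer R x) = r := by
      rw [← Subgroup.index, index_stabilizer]; exact horbsize x hx
    have hne : (v0 : R ⧸ stabilizer R x) ≠ 1 := by
      rw [Ne, QuotientGroup.eq_one_iff]; exact hv0 x hx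
    have hgen := mem_powers_of_prime_card (G := R ⧸ stabilizer R x) (p := r) hq
      (g' := (u : R ⧸ stabilizer R x)) hne
    obtain ⟨n, hn⟩ := hgen
    refine ⟨n, fun y hy => ?_⟩
    have hmem : (v0 ^ n)⁻¹ * u ∈ stabilizer R y := by
      rw [hstab x hx y hy, ← QuotientGroup.eq, QuotientGroup.mk_pow]
      exact hn
    rw [mem_stabilizer_iff, mul_smul, inv_smul_eq_iff] at hmem
    exact hmem
  refine ⟨R, v0, O, v0.2, hRF, hv0, hvr, fun x hx => ⟨MulAction.mem_orbit_self x,
    fun y hy => ⟨hOF x hx y hy, orbit_eq_iff.mpr hy, ?_⟩, fun u hu => hpowers x hx ⟨u, hu⟩⟩,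
    ?_, horbsize, ?_⟩
  · obtain ⟨w, rfl⟩ := hy
    exact ⟨v0 * w, mul_smul v0 w x⟩
  · intro σ
    obtain ⟨g0, hg0⟩ := hρsurj σ
    haveI : H0.Normal := MonoidHom.normal_ker ρ
    have hfr := Sylow.normalizer_sup_eq_top R0
    obtain ⟨n, hn, h, hh, hnh⟩ : ∃ n ∈ Subgroup.normalizer
        (((R0 : Subgroup H0).map H0.subtype : Subgroup NF) : Set NF), ∃ h ∈ H0, n * h = g0 := by
      have h' : g0 ∈ Subgroup.normalizer (((R0 : Subgroup H0).map H0.subtype : Subgroup NF) : Set NF)
          ⊔ H0 := hfr ▸ Subgroup.mem_top _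
      exact Subgroup.mem_sup_of_normal_right.mp h'
    have hρn : ρ n = σ := by
      rw [← hg0, ← hnh, map_mul, MonoidHom.mem_ker.mp hh, mul_one]
    have hconj : ∀ u ∈ R, (n : G) * u * (n : G)⁻¹ ∈ R := by
      rintro _ ⟨w, hw, rfl⟩
      have h1 := (Subgroup.mem_normalizer_iff.mp hn (H0.subtype w)).mp ⟨w, hw, rfl⟩
      obtain ⟨w', hw', he⟩ := h1
      exact ⟨w', hw', congrArg Subtype.val he⟩
    have hnD : ∀ x ∉ F, (n : G) • x ∉ F := fun x hx h => hx ((hNF n n.2 x).mp h)
    refine ⟨(n : G), fun z => congrArg Subtype.val (Equiv.congr_fun hρn z), hconj, hnD, ?_⟩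
    -- `n` permutes the `k` orbits
    have hnD' : ∀ m : ℕ, ∀ x ∉ F, (n : G) ^ m • x ∉ F := by
      intro m
      induction m with
      | zero => intro x hx; simpa using hx
      | succ m ih => intro x hx; rw [pow_succ', mul_smul]; exact hnD _ (ih x hx)
    have himg : ∀ x ∉ F, O ((n : G) • x) = (n : G) • O x := by
      intro x hx
      symm
      refine Set.eq_of_subset_of_ncard_le ?_ (by
        rw [Set.ncard_smul_set, horbsize x hx, horbsize _ (hnD x hx)]) (Set.toFinite _)
      rintro _ ⟨_, ⟨u, rfl⟩, rfl⟩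
      refine ⟨⟨(n : G) * u * (n : G)⁻¹, hconj u u.2⟩, ?_⟩
      show ((n : G) * (u : G) * (n : G)⁻¹) • (n : G) • x = (n : G) • (u : G) • x
      rw [mul_smul, mul_smul, inv_smul_smul]
    let πf : Orbs → Orbs := fun o => ⟨(n : G) • (o : Set Ω), by
      obtain ⟨x, hx, hxo⟩ := mem_image.mp o.2
      simp only [mem_sdiff, mem_univ, true_and] at hx
      rw [← hxo, ← himg x hx]
      exact mem_image_of_mem _ (by simp [hnD x hx])⟩
    have hπf : Function.Injective πf := fun o o' h =>
      Subtype.ext (MulAction.injective (n : G) (congrArg Subtype.val h))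
    let π : Equiv.Perm Orbs := Equiv.ofBijective πf (Finite.injective_iff_bijective.mp hπf)
    have hπk : π ^ k.factorial = 1 := by
      have h := pow_card_eq_one (x := π)
      rwa [Fintype.card_perm, Fintype.card_coe, hOrbs] at h
    intro x hx
    have hpow : ∀ m : ℕ, ((π ^ m) ⟨O x, mem_image_of_mem _ (by simp [hx])⟩ : Set Ω) =
        O ((n : G) ^ m • x) := by
      intro m
      induction m with
      | zero => simp
      | succ m ih =>
        rw [pow_succ', Equiv.Perm.mul_apply, pow_succ', mul_smul, himg _ (hnD' m x hx), ← ih]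
        rfl
    have h := hpow k.factorial
    rw [hπk] at h
    show (n : G) ^ k.factorial • x ∈ MulAction.orbit R x
    rw [show MulAction.orbit R x = O ((n : G) ^ k.factorial • x) from h]
    exact MulAction.mem_orbit_self _
  · intro x hx y hy z hz hk3 hxy hxz hyz w hw
    have hmem : ∀ {w}, w ∉ F → O w ∈ Orbs := fun hw => mem_image_of_mem _ (by simp [hw])
    by_contra hno
    simp only [not_or] at hno
    have hsub : ({O x, O y, O z, O w} : Finset (Set Ω)) ⊆ Orbs := by
      intro o ho
      simp only [mem_insert, mem_singleton] at ho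
      rcases ho with rfl | rfl | rfl | rfl <;> exact hmem ‹_›
    have h4 := card_le_card hsub
    rw [hOrbs, card_insert_of_notMem (by simp [hxy, hxz, Ne.symm hno.1]),
      card_insert_of_notMem (by simp [hyz, Ne.symm hno.2.1]),
      card_insert_of_notMem (by simp [Ne.symm hno.2.2]), card_singleton] at h4
    omega

end

end Cfsg.Agent.OddLocal44.Twin
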