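import Cfsg.Agent.Lib.PComplement.GlaubermanThompson
import Cfsg.Agent.PLocalB.ZJ
import Cfsg.Agent.OddLocal43.Coprime

set_option autoImplicit false

/-!
`Z(J(S))`, elementary abelian version, is normal in a `p`-stable group with self-centralizing `O_p`.
-/

open scoped commutatorElement

namespace Cfsg.Agent.OddLocal44

universe u

variable {p : ℕ} [hpf : Fact p.Prime]

theorem centerThompsonOf_normal_of_stable (hp2 : p ≠ 2) {G : Type u} [Group G] [Finite G]
    (hc : Subgroup.centralizer (Cfsg.pCore p G : Set G) ≤ Cfsg.pCore p G)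
    (hst : ∀ (B : Subgroup G) [B.Normal], IsPGroup p B → ∀ a : G, (∀ b ∈ B, ⁅⁅b, a⁆, a⁆ = 1) →
      QuotientGroup.mk' (Subgroup.centralizer (B : Set G)) a ∈
        Cfsg.pCore p (G ⧸ Subgroup.centralizer (B : Set G)))
    (P : Sylow p G) : (Cfsg.centerThompsonOf p (P : Subgroup G)).Normal := by
  set J := Cfsg.thompsonSubgroupOf p (P : Subgroup G) with hJ
  set Z : Subgroup G := Cfsg.centerThompsonOf p (P : Subgroup G) with hZ
  set V := Cfsg.pCore p G with hV
  have hVp : IsPGroup p V := Thompson.isPGroup_pCore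
  have hVP : V ≤ (P : Subgroup G) := Thompson.pCore_le_sylow P
  have hZJ : ∀ z ∈ Z, ∀ x ∈ J, Commute z x := fun z hz x hx =>
    (Subgroup.mem_centralizer_iff.mp hz.2 x hx).symm
  have hJZ : Subgroup.normalizer (J : Set G) ≤ Subgroup.normalizer (Z : Set G) := by
    rw [hZ, Cfsg.centerThompsonOf, ← hJ]
    exact Coprime.le_normalizer_inf le_rfl (Coprime.le_normalizer_centralizer le_rfl)
  have hPZ : (P : Subgroup G) ≤ Subgroup.normalizer (Z : Set G) :=
    (Subgroup.le_normalizer.trans
      (Thompson.normalizer_le_normalizer_thompsonSubgroupOf (p := p) _)).trans hJZ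
  have hZP : Z ≤ (P : Subgroup G) := fun z hz => Thompson.thompsonSubgroupOf_le _ hz.1
  -- `Z ≤ O_p(G)`
  have hZV : Z ≤ V := by
    intro z hz
    have h1 := hst V hVp z fun v hv => by
      have h1 : ⁅v, z⁆ ∈ Z := by
        rw [commutatorElement_def]
        exact mul_mem ((Subgroup.mem_normalizer_iff.mp (hPZ (hVP hv)) z).mp hz) (inv_mem hz)
      exact commutatorElement_eq_one_iff_commute.mpr (hZJ _ h1 z hz.1)
    exact Thompson.le_pCore (N := (Cfsg.pCore p (G ⧸ Subgroup.centralizer (V : Set G))).comap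
      (QuotientGroup.mk' _)) inferInstance
      (Thompson.isPGroup_pCore.comap_of_ker_isPGroup _
        (by rw [QuotientGroup.ker_mk']; exact hVp.to_le hc)) h1
  suffices key : ∀ (N : ℕ) (B : Subgroup G) [B.Normal], Nat.card B = N → B ≤ V → (Z ⊓ B).Normal by
    have := key _ V rfl le_rfl
    rwa [inf_eq_left.mpr hZV] at this
  intro N
  induction N using Nat.strong_induction_on with
  | _ N ih =>
    intro B hBn hN hBV
    have hlt : ∀ B₁ : Subgroup G, B₁ < B → Nat.card B₁ < N := fun B₁ hB₁ =>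
      hN ▸ lt_of_le_of_ne (Subgroup.card_le_of_le hB₁.le)
        fun he => hB₁.ne (Subgroup.eq_of_le_of_card_ge hB₁.le he.ge)
    have hBp : IsPGroup p B := hVp.to_le hBV
    set X := Z ⊓ B with hX
    have hNB : Subgroup.normalizer (Z : Set G) ≤ Subgroup.normalizer (X : Set G) :=
      Coprime.le_normalizer_inf le_rfl (by rw [Subgroup.normalizer_eq_top_iff.mpr hBn]; exact le_top)
    by_cases hB : B = ⊥
    · rw [hX, hB, inf_bot_eq]; infer_instance
    set B₁ := Subgroup.normalClosure (X : Set G) with hB₁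
    have hB₁le : B₁ ≤ B := Subgroup.normalClosure_le_normal inf_le_right
    rcases lt_or_eq_of_le hB₁le with hlt₁ | heq₁
    · have h1 := ih _ (hlt B₁ hlt₁) B₁ rfl (hB₁le.trans hBV)
      rwa [show Z ⊓ B₁ = X from le_antisymm (inf_le_inf_left Z hB₁le)
        (le_inf inf_le_left Subgroup.le_normalClosure)] at h1
    -- `B' ≤ Z`
    have hB'lt : ⁅B, B⁆ < B := lt_of_le_of_ne (Subgroup.commutator_le_self B) fun he =>
      hB (Coprime.eq_bot_of_le_commutator B hBp.isNilpotent le_rfl he.ge)
    have hN' : (Z ⊓ ⁅B, B⁆).Normal := ih _ (hlt _ hB'lt) _ rfl (hB'lt.le.trans hBV)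
    set f := QuotientGroup.mk' (Z ⊓ ⁅B, B⁆) with hf
    have hB'Z : ⁅B, B⁆ ≤ Z := by
      have hfn : (B.map f).Normal := hBn.map f (QuotientGroup.mk'_surjective _)
      have h1 : B ≤ (Subgroup.centralizer (B.map f : Set (G ⧸ Z ⊓ ⁅B, B⁆))).comap f := by
        conv_lhs => rw [← heq₁]
        refine Subgroup.normalClosure_le_normal fun x hx => ?_
        show f x ∈ Subgroup.centralizer _
        rw [Subgroup.mem_centralizer_iff]
        rintro _ ⟨b, hb, rfl⟩
        refine ((commutatorElement_eq_one_iff_mul_comm (g₁ := f x) (g₂ := f b)).mp ?_).symm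
        rw [← map_commutatorElement]
        refine (QuotientGroup.eq_one_iff _).mpr ⟨?_, Subgroup.commutator_mem_commutator hx.2 hb⟩
        rw [commutatorElement_def, show x * b * x⁻¹ * b⁻¹ = x * (b * x⁻¹ * b⁻¹) by group]
        exact mul_mem hx.1
          ((Subgroup.mem_normalizer_iff.mp (hPZ (hVP (hBV hb))) _).mp (inv_mem hx.1))
      rw [Subgroup.commutator_le]
      intro x hx y hy
      have h2 : f ⁅x, y⁆ = 1 := by
        rw [map_commutatorElement, commutatorElement_eq_one_iff_mul_comm]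
        exact (Subgroup.mem_centralizer_iff.mp (h1 hx) _ (Subgroup.mem_map_of_mem f hy)).symm
      exact ((QuotientGroup.eq_one_iff _).mp h2).1
    have hBB : ∀ z ∈ ⁅B, B⁆, ∀ x ∈ B, Commute z x := by
      have h1 : B ≤ Subgroup.centralizer ((⁅B, B⁆ : Subgroup G) : Set G) := by
        conv_lhs => rw [← heq₁]
        refine Subgroup.normalClosure_le_normal fun x hx => ?_
        exact Subgroup.mem_centralizer_iff.mpr fun z hz => (hZJ z (hB'Z hz) x hx.1.1).eq
      exact fun z hz x hx => Subgroup.mem_centralizer_iff.mp (h1 hx) z hz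
    -- the preimage `L` of `O_p(G / C(B))`
    set C := Subgroup.centralizer (B : Set G) with hC
    set L := (Cfsg.pCore p (G ⧸ C)).comap (QuotientGroup.mk' C) with hL
    haveI hLn : L.Normal := Subgroup.Normal.comap inferInstance _
    set PL := (P : Subgroup G) ⊓ L with hPL
    have hLX : L ≤ Subgroup.normalizer (X : Set G) := by
      intro l hl
      have hP := Thompson.pCore_le_sylow (p := p)
        (P.mapSurjective (QuotientGroup.mk'_surjective C))
      rw [Sylow.coe_mapSurjective] at hP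
      obtain ⟨x, hx, hxl⟩ := hP hl
      have hc' : x⁻¹ * l ∈ C := QuotientGroup.eq.mp hxl
      have hl' : x * (x⁻¹ * l) ∈ Subgroup.normalizer (X : Set G) :=
        mul_mem (hNB (hPZ hx)) (Subgroup.centralizer_le_normalizer _
          (Subgroup.centralizer_le (inf_le_right : X ≤ B) hc'))
      rwa [mul_inv_cancel_left] at hl'
    have hfr : Subgroup.normalizer (PL : Set G) ⊔ L = ⊤ := PLocalB.normalizer_inf_sup_eq_top P L
    by_cases hAll : ∀ A, Thompson.IsMaxEAIn p A (P : Subgroup G) → A ≤ L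
    · have hJL : Cfsg.thompsonSubgroupOf p PL = J := by
        refine Thompson.thompsonSubgroupOf_eq_of_le inf_le_left ?_
        rw [Thompson.thompsonSubgroupOf_eq]
        exact sSup_le fun A hA => le_inf hA.1 (hAll A hA)
      rw [← Subgroup.normalizer_eq_top_iff, ← top_le_iff, ← hfr]
      refine sup_le ?_ hLX
      refine ((Thompson.normalizer_le_normalizer_thompsonSubgroupOf (p := p) PL).trans ?_).trans hNB
      rw [hJL]; exact hJZ
    exfalso
    push Not at hAll
    obtain ⟨A, ⟨hA, hAL⟩, hAbest⟩ := Set.exists_max_image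
      {A : Subgroup G | Thompson.IsMaxEAIn p A (P : Subgroup G) ∧ ¬ A ≤ L}
      (fun A => Nat.card ↥(A ⊓ B)) (Set.toFinite _) hAll
    have hAJ : A ≤ J := Thompson.le_thompsonSubgroupOf hA
    have hcA : ∀ a ∈ A, ∀ a' ∈ A, Commute a a' := fun a ha a' ha' =>
      Thompson.elemAb_comm hA.2.1.1 ha ha'
    by_cases hnorm : B ≤ Subgroup.normalizer (A : Set G)
    · refine hAL fun a ha => hst B hBp a fun b hb => ?_
      have h1 : ⁅b, a⁆ ∈ A := by
        rw [commutatorElement_def]
        exact mul_mem ((Subgroup.mem_normalizer_iff.mp (hnorm hb) a).mp ha) (inv_mem ha)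
      exact commutatorElement_eq_one_iff_commute.mpr (hcA _ h1 a ha)
    obtain ⟨A', hA', hlt', hA'N⟩ := PComplement.replacement_classTwo hp2 P.2 hA (hBV.trans hVP)
      (by rw [Subgroup.normalizer_eq_top_iff.mpr hBn]; exact le_top) hBB
      (fun z hz a ha => hZJ z (hB'Z hz) a (hAJ ha)) hnorm
    have hA'L : A' ≤ L := by
      by_contra hcon
      have h1 := hAbest A' ⟨hA', hcon⟩
      exact hlt'.ne (Subgroup.eq_of_le_of_card_ge hlt'.le h1)
    have hA'PL : A' ≤ PL := le_inf hA'.1 hA'L
    set JL := Cfsg.thompsonSubgroupOf p PL with hJL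
    have hJLJ : JL ≤ J := by
      rw [hJL, Thompson.thompsonSubgroupOf_eq]
      refine sSup_le fun D hD => Thompson.le_thompsonSubgroupOf
        ⟨hD.1.trans inf_le_left, hD.2.1, fun E hE hEe => ?_⟩
      exact (hA'.2.2 E hE hEe).trans (hD.2.2 A' hA'PL hA'.2.1)
    -- `B` centralizes `J(P ∩ L)`
    have hBJL : B ≤ Subgroup.centralizer (JL : Set G) := by
      conv_lhs => rw [← heq₁]
      rw [hB₁, Subgroup.normalClosure, Subgroup.closure_le]
      intro y hy
      obtain ⟨x, hx, hxy⟩ := Group.mem_conjugatesOfSet_iff.mp hy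
      obtain ⟨g, rfl⟩ := isConj_iff.mp hxy
      obtain ⟨n, hn, l, hl, rfl⟩ :=
        Subgroup.mem_sup_of_normal_right.mp (hfr.ge (Subgroup.mem_top g))
      have hx' : l * x * l⁻¹ ∈ X := (Subgroup.mem_normalizer_iff.mp (hLX hl) x).mp hx
      have hxC : l * x * l⁻¹ ∈ Subgroup.centralizer (JL : Set G) :=
        Subgroup.mem_centralizer_iff.mpr fun z hz => (hZJ _ hx'.1 z (hJLJ hz)).eq.symm
      have hn' : n ∈ Subgroup.normalizer (JL : Set G) :=
        Thompson.normalizer_le_normalizer_thompsonSubgroupOf (p := p) PL hn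
      have h2 := (Subgroup.mem_normalizer_iff.mp
        (Coprime.le_normalizer_centralizer (H := JL) le_rfl hn') _).mp hxC
      rw [SetLike.mem_coe, show n * l * x * (n * l)⁻¹ = n * (l * x * l⁻¹) * n⁻¹ by group]
      exact h2
    have hBA' : ∀ b ∈ B, ∀ a ∈ A', Commute b a := fun b hb a ha =>
      (Subgroup.mem_centralizer_iff.mp (hBJL hb) a
        (Thompson.le_thompsonSubgroupOf (hA'.of_le inf_le_left hA'PL) ha)).symm
    -- the elements of order `p` of `B`
    have hB2 : ∀ x ∈ B, x ^ p = 1 → x ∈ A' := by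
      intro x hx hxp
      have hE : Cfsg.IsElementaryAbelian p (Subgroup.closure ((A' : Set G) ∪ {x})) := by
        refine Thompson.isElementaryAbelian_closure ?_ ?_
        · rintro u (hu | rfl) v (hv | rfl)
          · exact Thompson.elemAb_comm hA'.2.1.1 hu hv
          · exact (hBA' _ hx u hu).eq.symm
          · exact (hBA' _ hx v hv).eq
          · rfl
        · rintro u (hu | rfl)
          · exact hA'.2.1.2 u hu
          · exact hxp
      have hle : Subgroup.closure ((A' : Set G) ∪ {x}) ≤ (P : Subgroup G) := by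
        rw [Subgroup.closure_le]
        rintro u (hu | rfl)
        · exact hA'.1 hu
        · exact hVP (hBV hx)
      have h1 : A' = Subgroup.closure ((A' : Set G) ∪ {x}) :=
        Subgroup.eq_of_le_of_card_ge (fun u hu => Subgroup.subset_closure (Or.inl hu))
          (hA'.2.2 _ hle hE)
      rw [h1]
      exact Subgroup.subset_closure (Or.inr rfl)
    have hcA' : ∀ a ∈ A', ∀ a' ∈ A', Commute a a' := fun a ha a' ha' =>
      Thompson.elemAb_comm hA'.2.1.1 ha ha'
    let B₂ : Subgroup G :=
      { carrier := {x | x ∈ B ∧ x ^ p = 1}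
        one_mem' := ⟨one_mem _, one_pow _⟩
        mul_mem' := fun {x y} hx hy => ⟨mul_mem hx.1 hy.1, by
          rw [(hcA' x (hB2 x hx.1 hx.2) y (hB2 y hy.1 hy.2)).mul_pow, hx.2, hy.2, one_mul]⟩
        inv_mem' := fun {x} hx => ⟨inv_mem hx.1, by rw [inv_pow, hx.2, inv_one]⟩ }
    haveI hB₂n : B₂.Normal := ⟨fun x hx g => ⟨hBn.conj_mem x hx.1 g, by
      rw [conj_pow, hx.2, mul_one, mul_inv_cancel]⟩⟩
    set C₂ := Subgroup.centralizer (B₂ : Set G) with hC₂
    set L₂ := (Cfsg.pCore p (G ⧸ C₂)).comap (QuotientGroup.mk' C₂) with hL₂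
    have hL₂n : L₂.Normal := Subgroup.Normal.comap inferInstance _
    have hAL₂ : A ≤ L₂ := fun a ha => hst B₂ (hBp.to_le fun x hx => hx.1) a fun b hb => by
      have h1 : ⁅b, a⁆ ∈ A := by
        rw [commutatorElement_def]
        exact mul_mem ((Subgroup.mem_normalizer_iff.mp (hA'N (hB2 b hb.1 hb.2)) a).mp ha) (inv_mem ha)
      exact commutatorElement_eq_one_iff_commute.mpr (hcA _ h1 a ha)
    -- `p'`-elements of `C(B₂)` centralize `B`
    have hcop : ∀ g ∈ C₂, (orderOf g).Coprime p → g ∈ C := fun g hg hgp => by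
      have hgN : Subgroup.zpowers g ≤ Subgroup.normalizer (B : Set G) := by
        rw [Subgroup.normalizer_eq_top_iff.mpr hBn]; exact le_top
      have h := OddLocal43.le_centralizer_of_order_p hp2 (A := Subgroup.zpowers g)
        (by rw [Nat.card_zpowers]; exact hgp) hBp hgN (fun x hx hxo => by
          refine Subgroup.mem_centralizer_iff.mpr fun z hz => ?_
          obtain ⟨j, rfl⟩ := Subgroup.mem_zpowers_iff.mp hz
          have hc2 : Commute x g := Subgroup.mem_centralizer_iff.mp hg x
            ⟨hx, by rw [← hxo, pow_orderOf_eq_one]⟩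
          exact (hc2.zpow_right j).eq.symm)
      exact Subgroup.mem_centralizer_iff.mpr fun b hb =>
        (Subgroup.mem_centralizer_iff.mp (h hb) g (Subgroup.mem_zpowers g)).symm
    -- hence `L₂ / C` is a `p`-group
    haveI : C.Normal := inferInstance
    have hL₂p : IsPGroup p (L₂.map (QuotientGroup.mk' C)) := by
      rintro ⟨_, l, hl, rfl⟩
      obtain ⟨i, hi⟩ := Thompson.isPGroup_pCore (p := p) (G := G ⧸ C₂) ⟨_, hl⟩
      have hli : l ^ p ^ i ∈ C₂ := by
        rw [← QuotientGroup.eq_one_iff]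
        exact congrArg Subtype.val hi
      obtain ⟨e, m, hm, he⟩ := Nat.exists_eq_pow_mul_and_not_dvd (orderOf_pos l).ne' p
        hpf.out.ne_one
      have h1 : l ^ p ^ (i + e) ∈ C := by
        refine hcop _ ?_ ?_
        · rw [pow_add, pow_mul]; exact pow_mem hli _
        · refine Nat.Coprime.coprime_dvd_left ?_ ((hpf.out.coprime_iff_not_dvd.mpr hm).symm)
          refine orderOf_dvd_of_pow_eq_one ?_
          rw [← pow_mul, pow_add, mul_assoc, mul_comm, pow_mul, ← he, pow_orderOf_eq_one, one_pow]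
      refine ⟨i + e, Subtype.ext ?_⟩
      show QuotientGroup.mk' C l ^ p ^ (i + e) = 1
      rw [← map_pow]
      exact (QuotientGroup.eq_one_iff _).mpr h1
    exact hAL (hAL₂.trans (Subgroup.map_le_iff_le_comap.mp
      (Thompson.le_pCore (hL₂n.map _ (QuotientGroup.mk'_surjective C)) hL₂p)))

end Cfsg.Agent.OddLocal44
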